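import Cfsg.Agent.BlockChar.PrincipalPairs
import Cfsg.Agent.Blocks.SecondMain
import Cfsg.Agent.BlockThms.Normal
import Cfsg.Prelude.Def_BrauerPairs

/-!
# Invariant functions, the Brauer map on them, and transport of blocks
-/

namespace Cfsg.Agent.BrauerPairs

open Cfsg.Agent Cfsg.Agent.Blocks
open scoped ComplexConjugate

universe u

variable {G : Type u} [Group G] {p : ℕ} {M : Ideal Cfsg.AlgInt}

/-- `f` is unchanged by conjugation by the elements of `S`. -/
def IsInv (S : Set G) (f : G → ℂ) : Prop := ∀ k ∈ S, ∀ x, f (k * x * k⁻¹) = f x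

theorem IsInv.mono {S T : Set G} {f : G → ℂ} (h : IsInv T f) (hST : S ⊆ T) : IsInv S f :=
  fun k hk => h k (hST hk)

theorem IsInv.isClassFunction_res {f : G → ℂ} {H : Subgroup G} (h : IsInv (H : Set G) f) :
    Cfsg.IsClassFunction H fun a : H => f (a : G) := fun x k => by
  simpa using h k k.2 (x : G)

theorem IsInv.of_isClassFunction {f : G → ℂ} (hf : Cfsg.IsClassFunction G f) (S : Set G) :
    IsInv S f := fun k _ x => hf x k

theorem IsInv.conj_inv {S : Set G} {f : G → ℂ} (h : IsInv S f) {k : G} (hk : k ∈ S) (x : G) :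
    f (k⁻¹ * x * k) = f x := by
  have := h k hk (k⁻¹ * x * k)
  rwa [show k * (k⁻¹ * x * k) * k⁻¹ = x by group, eq_comm] at this

theorem IsInv.conv [Fintype G] {S : Set G} {f h : G → ℂ} (hf : IsInv S f) (hh : IsInv S h) :
    IsInv S (Blocks.conv f h) := by
  intro k hk z
  rw [Blocks.conv, Blocks.conv]
  refine (Fintype.sum_equiv (MulAut.conj k).toEquiv _ _ fun g => ?_).symm
  simp only [MulEquiv.toEquiv_eq_coe, MulEquiv.coe_toEquiv, MulAut.conj_apply]
  rw [hf k hk, show (k * g * k⁻¹)⁻¹ * (k * z * k⁻¹) = k * (g⁻¹ * z) * k⁻¹ by group, hh k hk]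

open scoped Classical in
/-- Modulo `M`, truncation to the centralizer of `P` is multiplicative on `P`-invariant
functions. -/
theorem memLocalIdeal_conv_res_sub_of_isInv [Fintype G] (hM : Cfsg.IsPModular p M)
    {P : Subgroup G} [Fintype (Subgroup.centralizer (P : Set G))] (hP : IsPGroup p P)
    {f h : G → ℂ} (hf : IsInv (P : Set G) f) (hh : IsInv (P : Set G) h)
    (hfR : ∀ g, Cfsg.MemLocalRing M (f g)) (hhR : ∀ g, Cfsg.MemLocalRing M (h g))
    (z : Subgroup.centralizer (P : Set G)) :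
    Cfsg.MemLocalIdeal M
      (conv f h (z : G) - conv (fun a : Subgroup.centralizer (P : Set G) => f (a : G))
        (fun a : Subgroup.centralizer (P : Set G) => h (a : G)) z) := by
  letI : MulAction P G := MulAction.compHom G ((MulAut.conj : G →* MulAut G).comp P.subtype)
  have hs : ∀ (u : P) (a : G), u • a = (u : G) * a * (u : G)⁻¹ := fun _ _ => rfl
  have hfix : ∀ a, a ∈ MulAction.fixedPoints P G ↔ a ∈ Subgroup.centralizer (P : Set G) := by
    intro a
    rw [Subgroup.mem_centralizer_iff]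
    constructor
    · intro h u hu
      have := h ⟨u, hu⟩
      rw [hs] at this
      exact mul_inv_eq_iff_eq_mul.1 this
    · intro h u
      rw [hs, h u.1 u.2, mul_inv_cancel_right]
  have key := memLocalIdeal_sum_sub_fixed hM hP (fun a : G => f a * h (a⁻¹ * (z : G)))
    (fun a => (localRing hM).mul_mem (hfR a) (hhR _)) fun u a => by
      simp only [hs]
      rw [hf u u.2 a, show ((u : G) * a * (u : G)⁻¹)⁻¹ * (z : G) =
        (u : G) * (a⁻¹ * ((u : G)⁻¹ * (z : G) * u)) * (u : G)⁻¹ by group,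
        show (u : G)⁻¹ * (z : G) * u = (z : G) by
          rw [mul_assoc, ← Subgroup.mem_centralizer_iff.1 z.2 u u.2, inv_mul_cancel_left],
        hh u u.2]
  rw [Finset.filter_congr fun a _ => hfix a,
    Finset.sum_subtype _ (fun a => by simp :
      ∀ a, a ∈ Finset.univ.filter (· ∈ Subgroup.centralizer (P : Set G)) ↔
        a ∈ Subgroup.centralizer (P : Set G))] at key
  simpa [conv] using key

section brauerOmega

variable {P : Subgroup G} [Fintype (Subgroup.centralizer (P : Set G))]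

local notation "C" => Subgroup.centralizer (P : Set G)

theorem brauerOmega_eq (f : G → ℂ) (ξ : C → ℂ) :
    Cfsg.brauerOmega P f ξ = omega ξ fun a : C => f (a : G) := by
  rw [Cfsg.brauerOmega, finsum_eq_sum_of_fintype, omega, Finset.sum_div]

theorem brauerOmega_sub (f h : G → ℂ) (ξ : C → ℂ) :
    Cfsg.brauerOmega P (f - h) ξ = Cfsg.brauerOmega P f ξ - Cfsg.brauerOmega P h ξ := by
  simp only [brauerOmega_eq, ← omega_sub]
  rfl

theorem brauerOmega_sum {ι : Type*} (s : Finset ι) (f : ι → G → ℂ) (ξ : C → ℂ) :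
    Cfsg.brauerOmega P (∑ i ∈ s, f i) ξ = ∑ i ∈ s, Cfsg.brauerOmega P (f i) ξ := by
  simp only [brauerOmega_eq, ← omega_sum]
  congr 1
  funext a
  simp only [Finset.sum_apply]

theorem brauerOmega_delta (ξ : Cfsg.IrrCharacter C) :
    Cfsg.brauerOmega P (delta G) (ξ : C → ℂ) = 1 := by
  classical
  rw [brauerOmega_eq]
  have : (fun a : C => delta G (a : G)) = delta C := by
    funext a; simp [delta]
  rw [this, omega_delta (Char.IsIrr.one_ne_zero ξ.2)]

theorem memLocalRing_brauerOmega (hM : Cfsg.IsPModular p M) {f : G → ℂ}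
    (hf : IsInv (C : Set G) f) (hfR : ∀ g, Cfsg.MemLocalRing M (f g))
    (ξ : Cfsg.IrrCharacter C) : Cfsg.MemLocalRing M (Cfsg.brauerOmega P f (ξ : C → ℂ)) := by
  rw [brauerOmega_eq]
  exact memLocalRing_omega hM ξ.2 hf.isClassFunction_res fun a => hfR a

theorem brauerOmega_congr (hM : Cfsg.IsPModular p M) {f h : G → ℂ}
    (hf : IsInv (C : Set G) f) (hh : IsInv (C : Set G) h)
    (hfh : ∀ x ∈ C, Cfsg.MemLocalIdeal M (f x - h x)) (ξ : Cfsg.IrrCharacter C) :
    Cfsg.MemLocalIdeal M
      (Cfsg.brauerOmega P f (ξ : C → ℂ) - Cfsg.brauerOmega P h (ξ : C → ℂ)) := by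
  classical
  have : Finite (ConjClasses C) := Quotient.finite _
  have := Fintype.ofFinite (ConjClasses C)
  have hd : IsInv (C : Set G) (f - h) := fun k hk x => by
    simp only [Pi.sub_apply, hf k hk x, hh k hk x]
  rw [← brauerOmega_sub, brauerOmega_eq,
    omega_eq_sum_classes (Char.isClassFunction_of_isIrr ξ.2) hd.isClassFunction_res]
  exact memLocalIdeal_sum hM _ fun D _ => memLocalIdeal_mul_right hM (hfh _ D.out.2)
    (memLocalRing_centralChar hM ξ.2 _)

theorem brauerOmega_sameBlock (hM : Cfsg.IsPModular p M) {f : G → ℂ}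
    (hf : IsInv (C : Set G) f) (hfR : ∀ g, Cfsg.MemLocalRing M (f g))
    {e : Set (Cfsg.IrrCharacter C)} (he : Cfsg.IsPBlock M e)
    {ξ η : Cfsg.IrrCharacter C} (hξ : ξ ∈ e) (hη : η ∈ e) :
    Cfsg.MemLocalIdeal M
      (Cfsg.brauerOmega P f (ξ : C → ℂ) - Cfsg.brauerOmega P f (η : C → ℂ)) := by
  rw [brauerOmega_eq, brauerOmega_eq]
  exact memLocalIdeal_omega_sub hM ξ.2 η.2 hf.isClassFunction_res (fun a => hfR a)
    (IsPBlock.sameBlock hM he hξ hη)

theorem brauerOmega_conv [Fintype G] (hM : Cfsg.IsPModular p M) (hP : IsPGroup p P)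
    {f h : G → ℂ} (hf : IsInv (P : Set G) f) (hh : IsInv (P : Set G) h)
    (hfC : IsInv (C : Set G) f) (hhC : IsInv (C : Set G) h)
    (hfR : ∀ g, Cfsg.MemLocalRing M (f g)) (hhR : ∀ g, Cfsg.MemLocalRing M (h g))
    (ξ : Cfsg.IrrCharacter C) :
    Cfsg.MemLocalIdeal M (Cfsg.brauerOmega P (conv f h) (ξ : C → ℂ) -
      Cfsg.brauerOmega P f (ξ : C → ℂ) * Cfsg.brauerOmega P h (ξ : C → ℂ)) := by
  classical
  have : Finite (ConjClasses C) := Quotient.finite _
  have := Fintype.ofFinite (ConjClasses C)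
  rw [brauerOmega_eq, brauerOmega_eq, brauerOmega_eq,
    ← omega_conv ξ.2 hfC.isClassFunction_res hhC.isClassFunction_res, ← omega_sub,
    omega_eq_sum_classes (Char.isClassFunction_of_isIrr ξ.2) (fun x k => by
      simp only [Pi.sub_apply, (hfC.conv hhC).isClassFunction_res x k,
        isClassFunction_conv hfC.isClassFunction_res hhC.isClassFunction_res x k])]
  exact memLocalIdeal_sum hM _ fun D _ => memLocalIdeal_mul_right hM
    (memLocalIdeal_conv_res_sub_of_isInv hM hP hf hh hfR hhR _)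
    (memLocalRing_centralChar hM ξ.2 _)

end brauerOmega

/-! ## The idempotent of a block of a subgroup -/

variable {H : Subgroup G}

local notation "sbc" => Cfsg.subgroupBlockCoeff

theorem sbc_apply (e : Set (Cfsg.IrrCharacter H)) (x : H) :
    sbc H e (x : G) = Cfsg.blockCoeff e x := by
  rw [Cfsg.subgroupBlockCoeff]
  exact dif_pos x.2

theorem sbc_of_mem (e : Set (Cfsg.IrrCharacter H)) {g : G} (hg : g ∈ H) :
    sbc H e g = Cfsg.blockCoeff e ⟨g, hg⟩ := sbc_apply e ⟨g, hg⟩

theorem sbc_of_notMem (e : Set (Cfsg.IrrCharacter H)) {g : G} (hg : g ∉ H) :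
    sbc H e g = 0 := by
  rw [Cfsg.subgroupBlockCoeff]
  exact dif_neg hg

variable [Finite G]

theorem isInv_sbc (e : Set (Cfsg.IrrCharacter H)) : IsInv (H : Set G) (sbc H e) := by
  intro k hk x
  have := Fintype.ofFinite H
  by_cases hx : x ∈ H
  · rw [sbc_of_mem e hx, sbc_of_mem e (H.mul_mem (H.mul_mem hk hx) (H.inv_mem hk))]
    exact isClassFunction_blockCoeff e ⟨x, hx⟩ ⟨k, hk⟩
  · rw [sbc_of_notMem e hx, sbc_of_notMem e fun h => hx (by
      have := H.mul_mem (H.mul_mem (H.inv_mem hk) h) hk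
      simpa [mul_assoc] using this)]

theorem memLocalRing_sbc (hM : Cfsg.IsPModular p M) {e : Set (Cfsg.IrrCharacter H)}
    (he : Cfsg.IsPBlock M e) (g : G) : Cfsg.MemLocalRing M (sbc H e g) := by
  by_cases hg : g ∈ H
  · rw [sbc_of_mem e hg]
    exact memLocalRing_blockCoeff hM he _
  · rw [sbc_of_notMem e hg]
    exact (localRing hM).zero_mem

omit [Finite G] in
/-- Convolution of functions supported on a subgroup. -/
theorem conv_of_supported [Fintype G] [Fintype H] {f h : G → ℂ}
    (hf : ∀ g, g ∉ H → f g = 0) (z : H) :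
    conv f h (z : G) = conv (fun a : H => f (a : G)) (fun a : H => h (a : G)) z := by
  rw [conv, BlockThms.sum_eq_sum_subgroup (N := H) fun g hg => by rw [hf g hg, zero_mul]]
  simp [conv]

omit [Finite G] in
theorem conv_eq_zero_of_notMem [Fintype G] {f h : G → ℂ} (hf : ∀ g, g ∉ H → f g = 0)
    (hh : ∀ g, g ∉ H → h g = 0) {z : G} (hz : z ∉ H) : conv f h z = 0 := by
  refine Finset.sum_eq_zero fun g _ => ?_
  by_cases hg : g ∈ H
  · rw [hh (g⁻¹ * z) fun h' => hz ((H.mul_mem_cancel_left (H.inv_mem hg)).1 h'), mul_zero]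
  · rw [hf g hg, zero_mul]

theorem conv_sbc_self [Fintype G] (e : Set (Cfsg.IrrCharacter H)) :
    conv (sbc H e) (sbc H e) = sbc H e := by
  have := Fintype.ofFinite H
  funext z
  by_cases hz : z ∈ H
  · rw [← Subgroup.coe_mk H z hz, conv_of_supported (fun g hg => sbc_of_notMem e hg), sbc_apply]
    simp only [sbc_apply]
    rw [blockCoeff_conv]
  · rw [sbc_of_notMem e hz, conv_eq_zero_of_notMem (fun g hg => sbc_of_notMem e hg)
      (fun g hg => sbc_of_notMem e hg) hz]

theorem conv_sbc_disjoint [Fintype G] {e e' : Set (Cfsg.IrrCharacter H)} (h : Disjoint e e') :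
    conv (sbc H e) (sbc H e') = 0 := by
  have := Fintype.ofFinite H
  funext z
  by_cases hz : z ∈ H
  · rw [← Subgroup.coe_mk H z hz, conv_of_supported (fun g hg => sbc_of_notMem e hg)]
    simp only [sbc_apply]
    rw [blockCoeff_conv_disjoint h]
    rfl
  · rw [conv_eq_zero_of_notMem (fun g hg => sbc_of_notMem e hg)
      (fun g hg => sbc_of_notMem e' hg) hz]
    rfl

theorem blockCoeff_injective {K : Type u} [Group K] [Finite K] {A B : Set (Cfsg.IrrCharacter K)}
    (h : Cfsg.blockCoeff A = Cfsg.blockCoeff B) : A = B := by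
  classical
  have := Fintype.ofFinite K
  ext χ
  have h1 := omega_blockCoeff A χ
  rw [h, omega_blockCoeff] at h1
  by_cases hA : χ ∈ A <;> by_cases hB : χ ∈ B <;> simp_all

theorem sbc_injective {A B : Set (Cfsg.IrrCharacter H)} (h : sbc H A = sbc H B) : A = B :=
  blockCoeff_injective (funext fun x => by
    simpa only [sbc_apply] using congrFun h (x : G))

theorem eq_of_mem (hM : Cfsg.IsPModular p M) {e e' : Set (Cfsg.IrrCharacter H)}
    (he : Cfsg.IsPBlock M e) (he' : Cfsg.IsPBlock M e') {ξ : Cfsg.IrrCharacter H}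
    (h : ξ ∈ e) (h' : ξ ∈ e') : e = e' := by
  rw [IsPBlock.eq_blockOf hM he h, IsPBlock.eq_blockOf hM he' h']

/-- The blocks of a subgroup. -/
abbrev PBlock (M : Ideal Cfsg.AlgInt) (H : Subgroup G) : Type u :=
  {e : Set (Cfsg.IrrCharacter H) // Cfsg.IsPBlock M e}

theorem sum_sbc [Fintype (PBlock M H)] (hM : Cfsg.IsPModular p M) :
    ∑ e : PBlock M H, sbc H e.1 = delta G := by
  classical
  have := Fintype.ofFinite H
  funext g
  rw [Finset.sum_apply]
  by_cases hg : g ∈ H
  · have key : (∑ e : PBlock M H, Cfsg.blockCoeff e.1) = delta H := by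
      refine classFun_ext_omega (fun x k => ?_) isClassFunction_delta fun χ => ?_
      · simp only [Finset.sum_apply]
        exact Finset.sum_congr rfl fun e _ => isClassFunction_blockCoeff e.1 x k
      · rw [omega_delta (Char.IsIrr.one_ne_zero χ.2), omega_sum,
          Finset.sum_eq_single (⟨_, isPBlock_blockOf χ⟩ : PBlock M H)]
        · rw [omega_blockCoeff, if_pos (mem_blockOf_self hM χ)]
        · intro e _ hne
          rw [omega_blockCoeff, if_neg fun h => hne (Subtype.ext (IsPBlock.eq_blockOf hM e.2 h))]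
        · simp
    have := congrFun key ⟨g, hg⟩
    rw [Finset.sum_apply] at this
    rw [Finset.sum_congr rfl fun e _ => sbc_of_mem e.1 hg, this]
    simp [delta, ← Subtype.coe_inj]
  · rw [Finset.sum_eq_zero fun e _ => sbc_of_notMem e.1 hg]
    have : g ≠ 1 := fun h => hg (h ▸ H.one_mem)
    simp [delta, this]

/-! ## Transport along isomorphisms -/

section transport

variable {A B : Type u} [Group A] [Group B] [Finite A] [Finite B]

/-- Composition of an irreducible character with an isomorphism. -/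
noncomputable def compIrr (φ : A ≃* B) (χ : Cfsg.IrrCharacter B) : Cfsg.IrrCharacter A :=
  ⟨fun a => (χ : B → ℂ) (φ a), (Char.isIrrCharacter_comp_equiv φ).2 χ.2⟩

theorem compIrr_apply (φ : A ≃* B) (χ : Cfsg.IrrCharacter B) (a : A) :
    (compIrr φ χ : A → ℂ) a = (χ : B → ℂ) (φ a) := rfl

/-- Composition as a bijection. -/
noncomputable def compIrrEquiv (φ : A ≃* B) : Cfsg.IrrCharacter B ≃ Cfsg.IrrCharacter A where
  toFun := compIrr φ
  invFun := compIrr φ.symm
  left_inv χ := Subtype.ext (funext fun b => by simp [compIrr])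
  right_inv χ := Subtype.ext (funext fun b => by simp [compIrr])

theorem centralChar_compIrr (φ : A ≃* B) (χ : Cfsg.IrrCharacter B) (a : A) :
    Cfsg.centralChar (compIrr φ χ : A → ℂ) a = Cfsg.centralChar (χ : B → ℂ) (φ a) := by
  have hidx : (Subgroup.centralizer ({φ a} : Set B)).index =
      (Subgroup.centralizer ({a} : Set A)).index := by
    rw [← Char.card_isConj_eq_index, ← Char.card_isConj_eq_index]
    refine (Nat.card_congr (φ.toEquiv.subtypeEquiv fun d => ?_)).symm
    exact ⟨fun hd => φ.toMonoidHom.map_isConj hd, fun hd => by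
      simpa using φ.symm.toMonoidHom.map_isConj hd⟩
  simp [Cfsg.centralChar, hidx, compIrr]

/-- The image of a set of characters under an isomorphism. -/
def mapBlock (φ : A ≃* B) (e : Set (Cfsg.IrrCharacter A)) : Set (Cfsg.IrrCharacter B) :=
  {χ | compIrr φ χ ∈ e}

theorem isPBlock_mapBlock (φ : A ≃* B) {e : Set (Cfsg.IrrCharacter A)}
    (he : Cfsg.IsPBlock M e) : Cfsg.IsPBlock M (mapBlock φ e) := by
  obtain ⟨χ, rfl⟩ := he
  refine ⟨compIrr φ.symm χ, Set.ext fun ψ => ?_⟩
  show Cfsg.SameBlock M (χ : A → ℂ) (compIrr φ ψ : A → ℂ) ↔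
    Cfsg.SameBlock M (compIrr φ.symm χ : B → ℂ) (ψ : B → ℂ)
  constructor
  · intro h b
    have h1 := h (φ.symm b)
    rwa [centralChar_compIrr, φ.apply_symm_apply, ← centralChar_compIrr φ.symm] at h1
  · intro h a
    have h1 := h (φ a)
    rwa [centralChar_compIrr, φ.symm_apply_apply, ← centralChar_compIrr φ] at h1

theorem blockCoeff_mapBlock (φ : A ≃* B) (e : Set (Cfsg.IrrCharacter A)) (a : A) :
    Cfsg.blockCoeff (mapBlock φ e) (φ a) = Cfsg.blockCoeff e a := by
  classical
  have := Fintype.ofFinite A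
  have := Fintype.ofFinite B
  rw [blockCoeff_eq_sum, blockCoeff_eq_sum, Nat.card_congr φ.toEquiv]
  refine congrArg _ (Finset.sum_equiv (compIrrEquiv φ) (fun χ => by
    simp [mapBlock, compIrrEquiv]) fun χ _ => ?_)
  simp [compIrrEquiv, compIrr_apply, mapBlock]
  congr

end transport

theorem sbc_mapBlock (K L : Subgroup G) (x : G) (h : ∀ y, y ∈ K ↔ x * y * x⁻¹ ∈ L)
    (e : Set (Cfsg.IrrCharacter K)) (g : G) :
    sbc L (mapBlock (BlockChar.conjIso K L x h) e) g = sbc K e (x⁻¹ * g * x) := by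
  by_cases hg : g ∈ L
  · have hg' : x⁻¹ * g * x ∈ K := (h _).2 (by simpa [mul_assoc] using hg)
    rw [sbc_of_mem e hg', ← blockCoeff_mapBlock (BlockChar.conjIso K L x h), ← sbc_apply]
    congr 1
    show g = x * (x⁻¹ * g * x) * x⁻¹
    group
  · have hg' : x⁻¹ * g * x ∉ K := fun hk => hg (by simpa [mul_assoc] using (h _).1 hk)
    rw [sbc_of_notMem _ hg, sbc_of_notMem _ hg']

theorem conjBlock_eq_mapBlock (Q : Subgroup G) (x : G)
    (f : Set (Cfsg.IrrCharacter (Subgroup.centralizer (Q : Set G)))) :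
    Cfsg.conjBlock Q x f = mapBlock (BlockChar.conjIso (Subgroup.centralizer (Q : Set G))
      (Subgroup.centralizer ((Q.map (MulAut.conj x).toMonoidHom : Subgroup G) : Set G)) x
      (BlockChar.mem_centralizer_iff_conj rfl)) f := by
  ext ξ'
  constructor
  · rintro ⟨ξ, hξ, h⟩
    show compIrr _ ξ' ∈ f
    convert hξ
    exact Subtype.ext (funext fun c => h c _ rfl)
  · intro h
    exact ⟨_, h, fun c c' hc => congrArg _ (Subtype.ext hc)⟩

end Cfsg.Agent.BrauerPairs
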