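import Cfsg.Agent.BrauerPairs.Saturation

/-!
# The first main theorem for a subgroup containing the normalizer
-/

namespace Cfsg.Agent.BrauerPairs

open Cfsg.Agent Cfsg.Agent.Blocks

universe u

variable {G : Type u} [Group G] [Finite G] {p : ℕ} {M : Ideal Cfsg.AlgInt}

local notation "CG[" Q "]" => Subgroup.centralizer (SetLike.coe Q)
local notation "sbc" => Cfsg.subgroupBlockCoeff

variable {B : Set (Cfsg.IrrCharacter G)} {P : Subgroup G}

/-- A defect group carries a maximal pair. -/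
theorem exists_maximal_on (hM : Cfsg.IsPModular p M) (hB : Cfsg.IsPBlock M B)
    (hD : Cfsg.IsDefectGroup p M B P) :
    ∃ e : Set (Cfsg.IrrCharacter CG[P]), Cfsg.IsMaximalBrauerPair p M B P e := by
  classical
  haveI := Fact.mk hM.1
  have := Fintype.ofFinite G
  obtain ⟨g, hg, hgD⟩ := DefectThms.isDefectGroup_iff.1 hD
  have hclass := isClassFunction_blockCoeff B
  letI := Fintype.ofFinite CG[P]
  obtain ⟨η, hη⟩ := exists_omega_one hM hgD.2.1 (IsInv.of_isClassFunction hclass _)
    (IsInv.of_isClassFunction hclass _) (memLocalRing_blockCoeff hM hB) (blockCoeff_conv B)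
    (BlockThms.mem_centralizer_of_le hgD.1) hg.2.1
  have hpair : Cfsg.IsBrauerPairOf p M B P (Cfsg.blockOf M (η : CG[P] → ℂ)) :=
    memLocalIdeal_brauerOmega_block hM hgD.2.1 (isPBlock_blockOf η) hB (mem_blockOf_self hM η) hη
  refine ⟨_, hpair, fun R r hR hle => ?_⟩
  obtain ⟨a, ha, hale⟩ := exists_maximal_above hM hR
  have h1 := BlockChar.card_defectGroup hM hB (isDefectGroup_of_maximal hM ha)
  have h2 := BlockChar.card_defectGroup hM hB hD
  exact (Subgroup.eq_of_le_of_card_ge (BlockChar.le_of_subpairLE hle) (by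
    rw [h2, ← h1]; exact Subgroup.card_le_of_le (BlockChar.le_of_subpairLE hale))).symm

/-- An invariant idempotent whose pairs at `P` are the orbit of `e` is congruent to the orbit
idempotent on `C(P)`. -/
theorem memLocalIdeal_sub_orbitIdem (hM : Cfsg.IsPModular p M)
    {e : Set (Cfsg.IrrCharacter CG[P])} (hP : IsPGroup p P) {β : G → ℂ}
    (hβP : IsInv (P : Set G) β) (hβC : IsInv (CG[P] : Set G) β)
    (hβR : ∀ x, Cfsg.MemLocalRing M (β x))
    (hβ : (letI := Fintype.ofFinite G; conv β β = β))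
    (hset : ∀ η : Cfsg.IrrCharacter CG[P],
      Cfsg.MemLocalIdeal M (Cfsg.brauerOmega P β (η : CG[P] → ℂ) - 1) ↔
        InOrb P e (Cfsg.blockOf M (η : CG[P] → ℂ))) {x : G} (hx : x ∈ CG[P]) :
    Cfsg.MemLocalIdeal M (β x - orbitIdem M P e x) := by
  classical
  letI := Fintype.ofFinite G
  letI := Fintype.ofFinite CG[P]
  have : Finite (ConjClasses CG[P]) := Quotient.finite _
  have := Fintype.ofFinite (ConjClasses CG[P])
  set v : CG[P] → ℂ := fun a => β (a : G) with hv
  have hvc : Cfsg.IsClassFunction CG[P] v := hβC.isClassFunction_res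
  have hvidem : ∀ a, Cfsg.MemLocalIdeal M (conv v v a - v a) := fun a => by
    have h := memLocalIdeal_conv_res_sub_of_isInv hM hP hβP hβP hβR hβR a
    rw [hβ] at h
    simpa [hv] using memLocalIdeal_neg h
  have horb : ∀ η : Cfsg.IrrCharacter CG[P],
      omega (η : CG[P] → ℂ) (fun a : CG[P] => orbitIdem M P e (a : G)) =
        if InOrb P e (Cfsg.blockOf M (η : CG[P] → ℂ)) then 1 else 0 := fun η => by
    rw [← brauerOmega_eq, brauerOmega_orbitIdem hM η]
  have hA : Cfsg.blockCoeff {η : Cfsg.IrrCharacter CG[P] |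
      InOrb P e (Cfsg.blockOf M (η : CG[P] → ℂ))} = fun a : CG[P] => orbitIdem M P e (a : G) := by
    refine classFun_ext_omega (isClassFunction_blockCoeff _)
      (IsInv.isClassFunction_res isInv_orbitIdem_centralizer) fun η => ?_
    rw [omega_blockCoeff, horb]
    exact if_congr Iff.rfl rfl rfl
  have hω : ∀ η : Cfsg.IrrCharacter CG[P],
      Cfsg.MemLocalIdeal M (omega (η : CG[P] → ℂ) v - if η ∈ {η : Cfsg.IrrCharacter CG[P] |
        InOrb P e (Cfsg.blockOf M (η : CG[P] → ℂ))} then 1 else 0) := by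
    intro η
    have hR1 := memLocalRing_omega hM η.2 hvc fun a => hβR a
    by_cases hmem : InOrb P e (Cfsg.blockOf M (η : CG[P] → ℂ))
    · rw [if_pos (by exact hmem)]
      have := (hset η).2 hmem
      rwa [brauerOmega_eq] at this
    · rw [if_neg (by exact hmem), sub_zero]
      refine (memLocalIdeal_of_mul hM hR1 ((localRing hM).sub_mem hR1 (localRing hM).one_mem)
        ?_).resolve_right fun h => hmem ((hset η).1 (by rwa [brauerOmega_eq]))
      rw [show omega (η : CG[P] → ℂ) v * (omega (η : CG[P] → ℂ) v - 1) =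
        omega (η : CG[P] → ℂ) (conv v v - v) by
        rw [omega_sub, omega_conv η.2 hvc hvc]; ring,
        omega_eq_sum_classes (Char.isClassFunction_of_isIrr η.2) (fun x k => by
          simp only [Pi.sub_apply, hvc x k, isClassFunction_conv hvc hvc x k])]
      exact memLocalIdeal_sum hM _ fun D _ => memLocalIdeal_mul_right hM (hvidem _)
        (memLocalRing_centralChar hM η.2 _)
  have := memLocalIdeal_sub_blockCoeff hM hvc (fun a => hβR a) hvidem
    (fun a => by rw [hA]; exact memLocalRing_orbitIdem hM _) hω ⟨x, hx⟩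
  rwa [hA] at this

variable {e : Set (Cfsg.IrrCharacter CG[P])}

theorem pair_iff_inOrb (hM : Cfsg.IsPModular p M) (hmax : Cfsg.IsMaximalBrauerPair p M B P e)
    (η : Cfsg.IrrCharacter CG[P]) :
    Cfsg.MemLocalIdeal M (Cfsg.brauerOmega P (Cfsg.blockCoeff B) (η : CG[P] → ℂ) - 1) ↔
      InOrb P e (Cfsg.blockOf M (η : CG[P] → ℂ)) := by
  classical
  constructor
  · intro h
    exact inOrb_of_pair hM hmax (memLocalIdeal_brauerOmega_block hM hmax.1.1.1
      (isPBlock_blockOf η) hmax.1.2.1 (mem_blockOf_self hM η) h)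
  · intro h
    obtain ⟨n, hn⟩ := inOrb_iff_conjPair.1 h
    have hp := pair_conjPair hM (a := ⟨P, e⟩) hmax.1 n
    rw [← hn] at hp
    exact hp.2.2 η (mem_blockOf_self hM η)

variable {H : Subgroup G}

theorem isNormalSubpair_down (hM : Cfsg.IsPModular p M) {R : Subgroup G} (hPH : P ≤ H)
    (hCP : CG[P] ≤ H) (hRH : R ≤ H) (hCR : CG[R] ≤ H) {r : Set (Cfsg.IrrCharacter CG[R])}
    (h : Cfsg.IsNormalSubpair p M P e R r) :
    Cfsg.IsNormalSubpair p M (P.subgroupOf H) (resBlock hPH hCP e) (R.subgroupOf H)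
      (resBlock hRH hCR r) := by
  have hN := le_normalizer_subgroupOf (L := H) h.2.2.2.1
  have he := isPBlock_resBlock (M := M) hPH hCP h.1.2
  refine ⟨⟨h.1.1.comap_of_injective _ (Subgroup.subtype_injective H), he⟩,
    ⟨h.2.1.1.comap_of_injective _ (Subgroup.subtype_injective H),
      isPBlock_resBlock hRH hCR h.2.1.2⟩, fun a ha => h.2.2.1 ha, hN,
    stabilizes_of_isInv hM hN he fun k hk x => ?_, fun ξ hξ => ?_⟩
  · rw [sbc_resBlock hPH hCP, sbc_resBlock hPH hCP]
    exact isInv_of_stabilizes hM h.2.2.2.1 h.1.2 h.2.2.2.2.1 (k : G)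
      (Subgroup.mem_subgroupOf.1 hk) (x : G)
  · have h1 := h.2.2.2.2.2 (compIrr (centIso hRH hCR).symm ξ) hξ
    rw [← brauerOmega_res hRH hCR] at h1
    rw [show sbc CG[P.subgroupOf H] (resBlock hPH hCP e) = fun t : H => sbc CG[P] e (t : G) from
      funext (sbc_resBlock hPH hCP e)]
    convert h1 using 4 with c
    show _ = (ξ : _ → ℂ) ((centIso hRH hCR).symm (centIso hRH hCR c))
    rw [MulEquiv.symm_apply_apply]

/-- A pair of a block of `H` read in `G`. -/
theorem pair_sbc_iff (hM : Cfsg.IsPModular p M) (hPH : P ≤ H) (hCP : CG[P] ≤ H)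
    (hP : IsPGroup p P) {c : Set (Cfsg.IrrCharacter H)} (hc : Cfsg.IsPBlock M c)
    (η : Cfsg.IrrCharacter CG[P]) :
    Cfsg.MemLocalIdeal M (Cfsg.brauerOmega P (sbc H c) (η : CG[P] → ℂ) - 1) ↔
      Cfsg.IsBrauerPairOf p M c (P.subgroupOf H)
        (resBlock hPH hCP (Cfsg.blockOf M (η : CG[P] → ℂ))) := by
  classical
  have hfun : (fun t : H => sbc H c (t : G)) = Cfsg.blockCoeff c := funext fun t => sbc_apply c t
  have heq : Cfsg.brauerOmega P (sbc H c) (η : CG[P] → ℂ) =
      Cfsg.brauerOmega (P.subgroupOf H) (Cfsg.blockCoeff c)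
        (compIrr (centIso hPH hCP) η : CG[P.subgroupOf H] → ℂ) := by
    rw [← hfun, ← brauerOmega_res hPH hCP]
    rfl
  have hmem : compIrr (centIso hPH hCP) η ∈
      resBlock hPH hCP (Cfsg.blockOf M (η : CG[P] → ℂ)) := by
    show compIrr (centIso hPH hCP).symm (compIrr (centIso hPH hCP) η) ∈
      Cfsg.blockOf M (η : CG[P] → ℂ)
    rw [show compIrr (centIso hPH hCP).symm (compIrr (centIso hPH hCP) η) = η from
      (compIrrEquiv (centIso hPH hCP)).symm_apply_apply η]
    exact mem_blockOf_self hM η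
  rw [heq]
  exact ⟨fun h => memLocalIdeal_brauerOmega_block hM
    (hP.comap_of_injective _ (Subgroup.subtype_injective H))
    (isPBlock_resBlock hPH hCP (isPBlock_blockOf η)) hc hmem h, fun h => h.2.2 _ hmem⟩

theorem maximal_down (hM : Cfsg.IsPModular p M) (hmax : Cfsg.IsMaximalBrauerPair p M B P e)
   (hPH : P ≤ H) (hCP : CG[P] ≤ H)
    {c : Set (Cfsg.IrrCharacter H)}
    (hpair : Cfsg.IsBrauerPairOf p M c (P.subgroupOf H) (resBlock hPH hCP e)) :
    Cfsg.IsMaximalBrauerPair p M c (P.subgroupOf H) (resBlock hPH hCP e) := by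
  refine ⟨hpair, fun R r _ hle => ?_⟩
  have key : ∀ a : Cfsg.BrauerPairIdx H, Relation.ReflTransGen (Cfsg.NormalSubpairRel p M)
      ⟨P.subgroupOf H, resBlock hPH hCP e⟩ a →
        a = ⟨P.subgroupOf H, resBlock hPH hCP e⟩ := by
    intro a ha
    induction ha with
    | refl => rfl
    | @tail b c _ hstep ih =>
      subst ih
      obtain ⟨R, r⟩ := c
      obtain ⟨R', hR'H, rfl⟩ : ∃ R' : Subgroup G, R' ≤ H ∧ R'.subgroupOf H = R :=
        ⟨R.map H.subtype, Subgroup.map_subtype_le _,
          Subgroup.comap_map_eq_self_of_injective H.subtype_injective R⟩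
      have hPR : P ≤ R' := fun y hy =>
        Subgroup.mem_subgroupOf.1 (hstep.2.2.1 (show (⟨y, hPH hy⟩ : H) ∈ P.subgroupOf H from hy))
      have hCR : CG[R'] ≤ H := (centralizer_mono hPR).trans hCP
      have hup := isNormalSubpair_up hR'H hCR hM hPH hCP hstep
      rw [upBlock_resBlock] at hup
      have heq : P = R' := (eq_of_normalSubpair_of_maximal hM hmax hup).symm
      subst heq
      exact congrArg (Sigma.mk _) (eq_of_isNormalSubpair_self hM hstep).symm
  exact congrArg Sigma.fst (key _ hle)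

theorem maximal_up (hM : Cfsg.IsPModular p M) (hH : Subgroup.normalizer (P : Set G) ≤ H)
    (hPH : P ≤ H) (hCP : CG[P] ≤ H) {c : Set (Cfsg.IrrCharacter H)}
    (hmax : Cfsg.IsMaximalBrauerPair p M c (P.subgroupOf H) (resBlock hPH hCP e))
    (hpair : Cfsg.IsBrauerPairOf p M B P e) : Cfsg.IsMaximalBrauerPair p M B P e := by
  refine ⟨hpair, fun R r _ hle => ?_⟩
  have key : ∀ a : Cfsg.BrauerPairIdx G, Relation.ReflTransGen (Cfsg.NormalSubpairRel p M)
      ⟨P, e⟩ a → a = ⟨P, e⟩ := by
    intro a ha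
    induction ha with
    | refl => rfl
    | @tail b d _ hstep ih =>
      subst ih
      obtain ⟨R, r⟩ := d
      have hPR : P ≤ R := hstep.2.2.1
      have hRH : R ≤ H := hstep.2.2.2.1.trans hH
      have hCR : CG[R] ≤ H := (centralizer_mono hPR).trans hCP
      have heq : R.subgroupOf H = P.subgroupOf H :=
        eq_of_normalSubpair_of_maximal hM hmax (isNormalSubpair_down hM hPH hCP hRH hCR hstep)
      have heq' : P = R := by
        have h := congrArg (Subgroup.map H.subtype) heq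
        rw [Subgroup.map_subgroupOf_eq_of_le hRH, Subgroup.map_subgroupOf_eq_of_le hPH] at h
        exact h.symm
      subst heq'
      exact congrArg (Sigma.mk _) (eq_of_isNormalSubpair_self hM hstep).symm
  exact congrArg Sigma.fst (key _ hle)

/-- Corresponding maximal pairs give congruent Brauer images. -/
theorem congr_of_maximal (hM : Cfsg.IsPModular p M) (hmax : Cfsg.IsMaximalBrauerPair p M B P e)
    (hH : Subgroup.normalizer (P : Set G) ≤ H) (hPH : P ≤ H) (hCP : CG[P] ≤ H)
    {c : Set (Cfsg.IrrCharacter H)}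
    (hmaxc : Cfsg.IsMaximalBrauerPair p M c (P.subgroupOf H) (resBlock hPH hCP e))
    {x : G} (hx : x ∈ CG[P]) :
    Cfsg.MemLocalIdeal M (Cfsg.blockCoeff B x - sbc H c x) := by
  classical
  letI := Fintype.ofFinite G
  have hP := hmax.1.1.1
  have hclass := isClassFunction_blockCoeff B
  have h1 := memLocalIdeal_sub_orbitIdem (e := e) hM hP (IsInv.of_isClassFunction hclass _)
    (IsInv.of_isClassFunction hclass _) (memLocalRing_blockCoeff hM hmax.1.2.1)
    (blockCoeff_conv B) (pair_iff_inOrb hM hmax) hx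
  have hc := hmaxc.1.2.1
  have h2 := memLocalIdeal_sub_orbitIdem (e := e) (β := sbc H c) hM hP
    ((isInv_sbc c).mono fun a ha => hPH ha) ((isInv_sbc c).mono fun a ha => hCP ha)
    (memLocalRing_sbc hM hc) (conv_sbc_self c) (fun η => by
      rw [pair_sbc_iff hM hPH hCP hP hc η]
      constructor
      · intro h
        obtain ⟨n, hn, hnv⟩ := inOrb_of_pair hM hmaxc h
        have hnN : (n : G) ∈ Subgroup.normalizer (P : Set G) := by
          refine Subgroup.mem_normalizer_iff.2 fun r => ⟨fun hr => ?_, fun hr => ?_⟩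
          · exact Subgroup.mem_subgroupOf.1
              ((Subgroup.mem_normalizer_iff.1 hn ⟨r, hPH hr⟩).1 hr)
          · have hrH : r ∈ H := by
              simpa [mul_assoc] using H.mul_mem (H.mul_mem (H.inv_mem n.2) (hPH hr)) n.2
            exact Subgroup.mem_subgroupOf.1 ((Subgroup.mem_normalizer_iff.1 hn ⟨r, hrH⟩).2 hr)
        refine ⟨n, hnN, fun g => ?_⟩
        by_cases hg : g ∈ H
        · have h' := hnv ⟨g, hg⟩
          rw [sbc_resBlock hPH hCP, sbc_resBlock hPH hCP] at h'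
          exact h'
        · rw [sbc_of_notMem _ fun h' => hg (hCP h'), sbc_of_notMem _ fun h' => hg (by
            simpa [mul_assoc] using H.mul_mem (H.mul_mem n.2 (hCP h')) (H.inv_mem n.2))]
      · rintro ⟨n, hn, hnv⟩
        have hn' : (⟨n, hH hn⟩ : H) ∈
            Subgroup.normalizer ((P.subgroupOf H : Subgroup H) : Set H) :=
          Subgroup.mem_normalizer_iff.2 fun r => by
            simp only [Subgroup.mem_subgroupOf, Subgroup.coe_mul, Subgroup.coe_inv]
            exact Subgroup.mem_normalizer_iff.1 hn (r : G)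
        have horb : InOrb (P.subgroupOf H) (resBlock hPH hCP e)
            (resBlock hPH hCP (Cfsg.blockOf M (η : CG[P] → ℂ))) :=
          ⟨⟨n, hH hn⟩, hn', fun g => by
            rw [sbc_resBlock hPH hCP, sbc_resBlock hPH hCP]
            exact hnv (g : G)⟩
        obtain ⟨k, hk⟩ := inOrb_iff_conjPair.1 horb
        have hp := pair_conjPair hM
          (a := (⟨P.subgroupOf H, resBlock hPH hCP e⟩ : Cfsg.BrauerPairIdx H)) hmaxc.1 k
        rwa [← hk] at hp) hx
  simpa using memLocalIdeal_sub hM h1 h2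

theorem existsUnique_down (hM : Cfsg.IsPModular p M) (hH : Subgroup.normalizer (P : Set G) ≤ H)
    (hB : Cfsg.IsPBlock M B) (hD : Cfsg.IsDefectGroup p M B P) :
    ∃! c : Set (Cfsg.IrrCharacter H), Cfsg.IsPBlock M c ∧
      Cfsg.IsDefectGroup p M c (P.subgroupOf H) ∧ ∀ x : G, x ∈ CG[P] →
        Cfsg.MemLocalIdeal M (Cfsg.blockCoeff B x - sbc H c x) := by
  classical
  have hPH : P ≤ H := Subgroup.le_normalizer.trans hH
  have hCP : CG[P] ≤ H := (Subgroup.centralizer_le_normalizer _).trans hH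
  obtain ⟨e, hmax⟩ := exists_maximal_on hM hB hD
  obtain ⟨c, hc⟩ := exists_isBrauerPairOf hM
    (⟨hmax.1.1.1.comap_of_injective _ (Subgroup.subtype_injective H),
      isPBlock_resBlock hPH hCP hmax.1.1.2⟩ :
        Cfsg.IsBrauerPair p M (P.subgroupOf H) (resBlock hPH hCP e))
  have hmaxc := maximal_down hM hmax hPH hCP hc
  refine ⟨c, ⟨hc.2.1, isDefectGroup_of_maximal hM hmaxc,
    fun x hx => congr_of_maximal hM hmax hH hPH hCP hmaxc hx⟩, ?_⟩
  rintro c' ⟨hc', -, hcong⟩
  obtain ⟨η, hη⟩ := IsPBlock.nonempty hM hmax.1.1.2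
  letI := Fintype.ofFinite CG[P]
  have h := memLocalIdeal_sub hM (hmax.1.2.2 η hη) (brauerOmega_congr hM (P := P)
    (IsInv.of_isClassFunction (isClassFunction_blockCoeff B) _)
    ((isInv_sbc c').mono fun a ha => hCP ha) hcong η)
  have h' : Cfsg.MemLocalIdeal M (Cfsg.brauerOmega P (sbc H c') (η : CG[P] → ℂ) - 1) := by
    simpa using h
  rw [pair_sbc_iff hM hPH hCP hmax.1.1.1 hc', ← IsPBlock.eq_blockOf hM hmax.1.1.2 hη] at h'
  exact block_unique hM h' hc

theorem existsUnique_up (hM : Cfsg.IsPModular p M) (hH : Subgroup.normalizer (P : Set G) ≤ H)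
    (hP : IsPGroup p P) {c : Set (Cfsg.IrrCharacter H)} (hc : Cfsg.IsPBlock M c)
    (hD : Cfsg.IsDefectGroup p M c (P.subgroupOf H)) :
    ∃! B : Set (Cfsg.IrrCharacter G), Cfsg.IsPBlock M B ∧ Cfsg.IsDefectGroup p M B P ∧
      ∀ x : G, x ∈ CG[P] → Cfsg.MemLocalIdeal M (Cfsg.blockCoeff B x - sbc H c x) := by
  classical
  have hPH : P ≤ H := Subgroup.le_normalizer.trans hH
  have hCP : CG[P] ≤ H := (Subgroup.centralizer_le_normalizer _).trans hH
  obtain ⟨e', hmax'⟩ := exists_maximal_on hM hc hD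
  obtain ⟨e, rfl⟩ : ∃ e : Set (Cfsg.IrrCharacter CG[P]), resBlock hPH hCP e = e' :=
    ⟨upBlock hPH hCP e', resBlock_upBlock hPH hCP e'⟩
  have he : Cfsg.IsPBlock M e := by
    have := isPBlock_upBlock (M := M) hPH hCP hmax'.1.1.2
    rwa [upBlock_resBlock] at this
  obtain ⟨B, hB⟩ := exists_isBrauerPairOf hM (⟨hP, he⟩ : Cfsg.IsBrauerPair p M P e)
  have hmax := maximal_up hM hH hPH hCP hmax' hB
  refine ⟨B, ⟨hB.2.1, isDefectGroup_of_maximal hM hmax,
    fun x hx => congr_of_maximal hM hmax hH hPH hCP hmax' hx⟩, ?_⟩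
  rintro B' ⟨hB', -, hcong⟩
  obtain ⟨η, hη⟩ := IsPBlock.nonempty hM he
  letI := Fintype.ofFinite CG[P]
  have hcη : Cfsg.MemLocalIdeal M (Cfsg.brauerOmega P (sbc H c) (η : CG[P] → ℂ) - 1) := by
    rw [pair_sbc_iff hM hPH hCP hP hc, ← IsPBlock.eq_blockOf hM he hη]
    exact hmax'.1
  have h := memLocalIdeal_add hM hcη (brauerOmega_congr hM (P := P)
    (IsInv.of_isClassFunction (isClassFunction_blockCoeff B') _)
    ((isInv_sbc c).mono fun a ha => hCP ha) hcong η)
  exact block_unique hM (memLocalIdeal_brauerOmega_block hM hP he hB' hη (by simpa using h)) hB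

end Cfsg.Agent.BrauerPairs
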