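import Cfsg.Agent.BrauerPairs.Nilpotent
import Cfsg.Agent.FusSys.Abelian

/-!
# Blocks with abelian defect groups
-/

namespace Cfsg.Agent.BrauerPairs

open Cfsg.Agent Cfsg.Agent.Blocks

universe u

variable {G : Type u} [Group G] [Finite G] {p : ℕ} {M : Ideal Cfsg.AlgInt}

local notation "CG[" Q "]" => Subgroup.centralizer (SetLike.coe Q)
local notation "sbc" => Cfsg.subgroupBlockCoeff

variable {B : Set (Cfsg.IrrCharacter G)} {P : Subgroup G} {e : Set (Cfsg.IrrCharacter CG[P])}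

/-- A map of the system is the restriction of the action of the stabilizer of `(P, e)`. -/
theorem exists_fixing_extend (hM : Cfsg.IsPModular p M)
    (hmax : Cfsg.IsMaximalBrauerPair p M B P e) (hab : ∀ x ∈ P, ∀ y ∈ P, x * y = y * x)
    {Q : Subgroup G} {f : Set (Cfsg.IrrCharacter CG[Q])} (hle : PairLE p M ⟨Q, f⟩ ⟨P, e⟩) {x : G}
    (hx : PairLE p M (conjPair x ⟨Q, f⟩) ⟨P, e⟩) :
    ∃ y : G, conjPair y ⟨P, e⟩ = ⟨P, e⟩ ∧ ∀ q ∈ Q, y * q * y⁻¹ = x * q * x⁻¹ := by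
  haveI := Fact.mk hM.1
  obtain ⟨F, hF⟩ := exists_isBlockFusionSystemOn hM hmax
  have hQ : Q ≤ P := BlockChar.le_of_subpairLE hle
  have hmor : FusSys.Mor F Q fun q => x * q * x⁻¹ :=
    (mor_blockFusion hF).2 ⟨hQ, x, fun q _ => rfl, f, hle, hx⟩
  obtain ⟨α, hα, hαv⟩ := FusSys.exists_extend_abelian hmax.1.1.1
    (isSaturated_blockFusion hM hmax hF) hab hmor
  obtain ⟨y, hy, hyv⟩ :=
    exists_fixing_of_autGroup hM hF le_rfl Relation.ReflTransGen.refl hα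
  exact ⟨y, hy, fun q hq => (hyv q (hQ hq)).symm.trans (hαv q hq)⟩

theorem nilpotent_iff_of_abelian (hM : Cfsg.IsPModular p M)
    (hmax : Cfsg.IsMaximalBrauerPair p M B P e) (hab : ∀ x ∈ P, ∀ y ∈ P, x * y = y * x) :
    Cfsg.IsNilpotentBlock p M B ↔ ∀ x : G, x ∈ Subgroup.normalizer (P : Set G) →
      Cfsg.StabilizesBlock CG[P] e x → x ∈ CG[P] := by
  haveI := Fact.mk hM.1
  have hPC : P ≤ CG[P] := fun a ha => Subgroup.mem_centralizer_iff.2 fun b hb => hab b hb a ha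
  constructor
  · intro hnil x hxN hst
    have hfix := (conjPair_eq_iff hM hmax.1.1.2 x).2 ⟨hxN, hst⟩
    have hs : pPrimePartOf p x ∈ CG[P] := by
      obtain ⟨h1, h2⟩ := (conjPair_eq_iff hM hmax.1.1.2 _).1
        (conjPair_pow_fixed hfix (pPrimeExp p (orderOf x)))
      exact hnil.2 P e hmax.1 _ h1 h2 (not_dvd_orderOf_pPrimePartOf hM.1 x)
    have hx' := conjPair_pow_fixed (a := ⟨P, e⟩) hfix
    obtain ⟨k, hk⟩ : ∃ n : ℕ, x ^ n = pPartOf p x := ⟨_, rfl⟩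
    obtain ⟨h1, h2⟩ := (conjPair_eq_iff hM hmax.1.1.2 _).1 (hx' k)
    rw [hk] at h1 h2
    have hu := mem_sup_of_maximal hM hmax h1 h2 (orderOf_pPartOf hM.1 x)
    rw [sup_of_le_right hPC] at hu
    rw [← pPartOf_mul_pPrimePartOf hM.1 x]
    exact mul_mem hu hs
  · intro h
    obtain ⟨F, hF⟩ := exists_isBlockFusionSystemOn hM hmax
    refine nilpotent_of_hom_eq_inner hM hF fun Q φ hφ => ?_
    obtain ⟨hQ, g, hg, -, f, hf, hfg⟩ := (hF.2 Q φ).1 hφ
    obtain ⟨y, hy, hyv⟩ := exists_fixing_extend hM hmax hab hf hfg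
    obtain ⟨hyN, hyst⟩ := (conjPair_eq_iff hM hmax.1.1.2 y).1 hy
    refine ⟨hQ, 1, P.one_mem, fun u => ?_⟩
    rw [hg, ← hyv u u.2, ← Subgroup.mem_centralizer_iff.1 (h y hyN hyst) u (hQ u.2)]
    group

variable {Q : Subgroup G} {f : Set (Cfsg.IrrCharacter CG[Q])}

omit [Finite G] in
theorem index_eq_of_factor {C T A : Subgroup G} (hA : A ≤ T)
    (hfac : ∀ x ∈ T, ∃ a ∈ A, ∃ c ∈ C, x = a * c) :
    (C.subgroupOf T).index = (C.subgroupOf A).index := by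
  refine (Nat.card_congr (Equiv.ofBijective
    (Quotient.map' (Subgroup.inclusion hA) fun a b hab => ?_ :
      A ⧸ C.subgroupOf A → T ⧸ C.subgroupOf T) ⟨fun a b => ?_, fun b => ?_⟩)).symm
  · rw [QuotientGroup.leftRel_apply] at hab ⊢
    exact hab
  · induction a using QuotientGroup.induction_on with | _ a =>
    induction b using QuotientGroup.induction_on with | _ b =>
    intro h
    have h' := QuotientGroup.eq.1 (h : (QuotientGroup.mk (Subgroup.inclusion hA a) : T ⧸ _) = _)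
    exact QuotientGroup.eq.2 h'
  · induction b using QuotientGroup.induction_on with | _ b =>
    obtain ⟨a, ha, c, hc, hb⟩ := hfac b b.2
    refine ⟨QuotientGroup.mk ⟨a, ha⟩, QuotientGroup.eq.2 ?_⟩
    rw [Subgroup.mem_subgroupOf]
    show a⁻¹ * (b : G) ∈ C
    rw [hb, inv_mul_cancel_left]
    exact hc

theorem stabilizer_factor (hM : Cfsg.IsPModular p M)
    (hmax : Cfsg.IsMaximalBrauerPair p M B P e) (hab : ∀ x ∈ P, ∀ y ∈ P, x * y = y * x)
    (hf : Cfsg.IsPBlock M f) (hle : Cfsg.SubpairLE p M Q f P e) {TQ TP : Subgroup G}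
    (hTQ : ∀ y : G, y ∈ TQ ↔ y ∈ Subgroup.normalizer (Q : Set G) ∧
      Cfsg.StabilizesBlock CG[Q] f y)
    (hTP : ∀ y : G, y ∈ TP ↔ y ∈ Subgroup.normalizer (P : Set G) ∧
      Cfsg.StabilizesBlock CG[P] e y) :
    (∀ x ∈ TQ, ∃ y ∈ TP, ∃ c ∈ CG[Q], x = y * c) ∧
      (CG[Q].subgroupOf TQ).index =
        ((TP ⊓ CG[Q]).subgroupOf (TP ⊓ Subgroup.normalizer (Q : Set G))).index := by
  have key : ∀ x ∈ TQ, ∃ y ∈ TP ⊓ Subgroup.normalizer (Q : Set G), ∃ c ∈ CG[Q], x = y * c := by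
    intro x hx
    obtain ⟨hxN, hxst⟩ := (hTQ x).1 hx
    have hfix := (conjPair_eq_iff hM hf x).2 ⟨hxN, hxst⟩
    obtain ⟨y, hy, hyv⟩ := exists_fixing_extend hM hmax hab hle
      (show PairLE p M (conjPair x ⟨Q, f⟩) ⟨P, e⟩ by rw [hfix]; exact hle)
    have hc : y⁻¹ * x ∈ CG[Q] := Subgroup.mem_centralizer_iff.2 fun q hq => by
      calc q * (y⁻¹ * x) = y⁻¹ * (y * q * y⁻¹) * x := by group
        _ = y⁻¹ * (x * q * x⁻¹) * x := by rw [hyv q hq]
        _ = y⁻¹ * x * q := by group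
    refine ⟨y, ⟨(hTP y).2 ((conjPair_eq_iff hM hmax.1.1.2 y).1 hy), ?_⟩, _, hc,
      (mul_inv_cancel_left y x).symm⟩
    rw [show y = x * (y⁻¹ * x)⁻¹ by group]
    exact Subgroup.mul_mem _ hxN (Subgroup.inv_mem _ (Subgroup.centralizer_le_normalizer (Q : Set G) hc))
  refine ⟨fun x hx => ?_, ?_⟩
  · obtain ⟨y, hy, r⟩ := key x hx
    exact ⟨y, hy.1, r⟩
  · have hA : TP ⊓ Subgroup.normalizer (Q : Set G) ≤ TQ := by
      rintro y ⟨hy1, hy2⟩
      refine (hTQ y).2 ((conjPair_eq_iff hM hf y).1 ?_)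
      have h1 : PairLE p M (conjPair y ⟨Q, f⟩) (conjPair y ⟨P, e⟩) := le_conjPair hM hle y
      rw [(conjPair_eq_iff hM hmax.1.1.2 y).2 ((hTP y).1 hy1)] at h1
      exact pair_unique hM hmax.1.1 h1 hle (map_conj_eq hy2)
    rw [index_eq_of_factor hA key]
    congr 1
    ext a
    simp only [Subgroup.mem_subgroupOf, Subgroup.mem_inf]
    exact ⟨fun h => ⟨a.2.1, h⟩, fun h => h.2⟩

end Cfsg.Agent.BrauerPairs
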