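import Cfsg.Agent.BrauerPairs.Local

/-!
# Brauer pairs in a subgroup containing a centralizer

For `Q` and `L` with `C(Q) ≤ L`, and `E` the block of `L` with the idempotent of `f`, the Brauer
pairs of `E` on subgroups containing `Q` are the pairs of `G` normally above `(Q, f)`.
-/

namespace Cfsg.Agent.BrauerPairs

open Cfsg.Agent Cfsg.Agent.Blocks

universe u

variable {G : Type u} [Group G] {p : ℕ} {M : Ideal Cfsg.AlgInt}

local notation "CG[" Q "]" => Subgroup.centralizer (SetLike.coe Q)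
local notation "sbc" => Cfsg.subgroupBlockCoeff

/-- The centralizer computed inside `L`. -/
def centIso {L A : Subgroup G} (hAL : A ≤ L) (hCL : CG[A] ≤ L) :
    CG[A.subgroupOf L] ≃* CG[A] where
  toFun c := ⟨((c : L) : G), Subgroup.mem_centralizer_iff.2 fun a ha =>
    congrArg Subtype.val (Subgroup.mem_centralizer_iff.1 c.2 ⟨a, hAL ha⟩
      (Subgroup.mem_subgroupOf.2 ha))⟩
  invFun c := ⟨⟨(c : G), hCL c.2⟩, Subgroup.mem_centralizer_iff.2 fun a ha =>
    Subtype.ext (Subgroup.mem_centralizer_iff.1 c.2 (a : G) (Subgroup.mem_subgroupOf.1 ha))⟩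
  left_inv c := Subtype.ext (Subtype.ext rfl)
  right_inv c := Subtype.ext rfl
  map_mul' a b := Subtype.ext rfl

/-- The set of characters seen inside `L`. -/
noncomputable def resBlock [Finite G] {L A : Subgroup G} (hAL : A ≤ L) (hCL : CG[A] ≤ L)
    (g : Set (Cfsg.IrrCharacter CG[A])) : Set (Cfsg.IrrCharacter CG[A.subgroupOf L]) :=
  mapBlock (centIso hAL hCL).symm g

/-- The set of characters seen inside `G`. -/
noncomputable def upBlock [Finite G] {L A : Subgroup G} (hAL : A ≤ L) (hCL : CG[A] ≤ L)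
    (g' : Set (Cfsg.IrrCharacter CG[A.subgroupOf L])) : Set (Cfsg.IrrCharacter CG[A]) :=
  mapBlock (centIso hAL hCL) g'

variable [Finite G] {L A : Subgroup G} (hAL : A ≤ L) (hCL : CG[A] ≤ L)

theorem isPBlock_resBlock {g : Set (Cfsg.IrrCharacter CG[A])} (hg : Cfsg.IsPBlock M g) :
    Cfsg.IsPBlock M (resBlock hAL hCL g) := isPBlock_mapBlock _ hg

theorem isPBlock_upBlock {g : Set (Cfsg.IrrCharacter CG[A.subgroupOf L])}
    (hg : Cfsg.IsPBlock M g) : Cfsg.IsPBlock M (upBlock hAL hCL g) := isPBlock_mapBlock _ hg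

theorem resBlock_upBlock (g : Set (Cfsg.IrrCharacter CG[A.subgroupOf L])) :
    resBlock hAL hCL (upBlock hAL hCL g) = g := by
  ext χ
  show compIrr (centIso hAL hCL) (compIrr (centIso hAL hCL).symm χ) ∈ g ↔ χ ∈ g
  rw [show compIrr (centIso hAL hCL) (compIrr (centIso hAL hCL).symm χ) = χ from
    (compIrrEquiv (centIso hAL hCL).symm).symm_apply_apply χ]

theorem upBlock_resBlock (g : Set (Cfsg.IrrCharacter CG[A])) :
    upBlock hAL hCL (resBlock hAL hCL g) = g := by
  ext χ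
  show compIrr (centIso hAL hCL).symm (compIrr (centIso hAL hCL) χ) ∈ g ↔ χ ∈ g
  rw [show compIrr (centIso hAL hCL).symm (compIrr (centIso hAL hCL) χ) = χ from
    (compIrrEquiv (centIso hAL hCL)).symm_apply_apply χ]

theorem sbc_resBlock (g : Set (Cfsg.IrrCharacter CG[A])) (t : L) :
    sbc CG[A.subgroupOf L] (resBlock hAL hCL g) t = sbc CG[A] g (t : G) := by
  by_cases ht : (t : G) ∈ CG[A]
  · have ht' : t ∈ CG[A.subgroupOf L] := ((centIso hAL hCL).symm ⟨(t : G), ht⟩).2
    rw [sbc_of_mem g ht, sbc_of_mem (H := CG[A.subgroupOf L]) _ ht',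
      ← blockCoeff_mapBlock (centIso hAL hCL).symm g ⟨(t : G), ht⟩]
    rfl
  · rw [sbc_of_notMem g ht, sbc_of_notMem (H := CG[A.subgroupOf L]) _
      fun h' => ht (centIso hAL hCL ⟨t, h'⟩).2]

theorem brauerOmega_res (β : G → ℂ) (ξ : CG[A] → ℂ) :
    Cfsg.brauerOmega (A.subgroupOf L) (fun t : L => β (t : G))
      (fun c => ξ (centIso hAL hCL c)) = Cfsg.brauerOmega A β ξ := by
  classical
  letI := Fintype.ofFinite CG[A]
  letI := Fintype.ofFinite CG[A.subgroupOf L]
  rw [brauerOmega_eq, brauerOmega_eq, omega, omega, map_one]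
  congr 1
  exact Fintype.sum_equiv (centIso hAL hCL).toEquiv _ _ fun c => rfl

omit [Finite G] in
theorem le_normalizer_subgroupOf {R : Subgroup G}
    (h : A ≤ Subgroup.normalizer (R : Set G)) :
    A.subgroupOf L ≤ Subgroup.normalizer ((R.subgroupOf L : Subgroup L) : Set L) := fun a ha =>
  Subgroup.mem_normalizer_iff.2 fun r => by
    simp only [Subgroup.mem_subgroupOf, Subgroup.coe_mul, Subgroup.coe_inv]
    exact Subgroup.mem_normalizer_iff.1 (h (Subgroup.mem_subgroupOf.1 ha)) (r : G)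

omit [Finite G] in
theorem le_normalizer_of_subgroupOf {R : Subgroup G} (hA : A ≤ L) (hR : R ≤ L)
    (h : A.subgroupOf L ≤ Subgroup.normalizer ((R.subgroupOf L : Subgroup L) : Set L)) :
    A ≤ Subgroup.normalizer (R : Set G) := fun a ha => by
  have hn := Subgroup.mem_normalizer_iff.1
    (h (Subgroup.mem_subgroupOf.2 (show ((⟨a, hA ha⟩ : L) : G) ∈ A from ha)))
  refine Subgroup.mem_normalizer_iff.2 fun r => ⟨fun hr => ?_, fun hr => ?_⟩
  · have := (hn ⟨r, hR hr⟩).1 (Subgroup.mem_subgroupOf.2 hr)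
    simpa [Subgroup.mem_subgroupOf] using this
  · have hrL : r ∈ L := by
      have := L.mul_mem (L.mul_mem (L.inv_mem (hA ha)) (hR hr)) (hA ha)
      simpa [mul_assoc] using this
    have := (hn ⟨r, hrL⟩).2 (Subgroup.mem_subgroupOf.2 (by simpa using hr))
    simpa [Subgroup.mem_subgroupOf] using this

/-- A normal step inside `L` is a normal step of `G`. -/
theorem isNormalSubpair_up (hM : Cfsg.IsPModular p M) {R : Subgroup G} (hRL : R ≤ L)
    (hCR : CG[R] ≤ L) {r : Set (Cfsg.IrrCharacter CG[R.subgroupOf L])}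
    {a : Set (Cfsg.IrrCharacter CG[A.subgroupOf L])}
    (h : Cfsg.IsNormalSubpair p M (R.subgroupOf L) r (A.subgroupOf L) a) :
    Cfsg.IsNormalSubpair p M R (upBlock hRL hCR r) A (upBlock hAL hCL a) := by
  classical
  have hR : IsPGroup p R := h.1.1.of_equiv (Subgroup.subgroupOfEquivOfLe hRL)
  have hA : IsPGroup p A := h.2.1.1.of_equiv (Subgroup.subgroupOfEquivOfLe hAL)
  have hRA : R ≤ A := fun x hx =>
    Subgroup.mem_subgroupOf.1 (h.2.2.1 (show (⟨x, hRL hx⟩ : L) ∈ R.subgroupOf L from hx))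
  have hAN := le_normalizer_of_subgroupOf hAL hRL h.2.2.2.1
  have hr := isPBlock_upBlock (M := M) hRL hCR h.1.2
  have hval : ∀ t : L, sbc CG[R.subgroupOf L] r t = sbc CG[R] (upBlock hRL hCR r) (t : G) :=
    fun t => by
      rw [← sbc_resBlock hRL hCR (upBlock hRL hCR r) t, resBlock_upBlock]
  have hinv' := isInv_of_stabilizes hM h.2.2.2.1 h.1.2 h.2.2.2.2.1
  refine ⟨⟨hR, hr⟩, ⟨hA, isPBlock_upBlock hAL hCL h.2.1.2⟩, hRA, hAN,
    stabilizes_of_isInv hM hAN hr fun k hk x => ?_, fun ξ hξ => ?_⟩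
  · by_cases hx : x ∈ L
    · have h1 := hinv' ⟨k, hAL hk⟩ (Subgroup.mem_subgroupOf.2 hk) ⟨x, hx⟩
      rw [hval, hval] at h1
      exact h1
    · rw [sbc_of_notMem _ fun h' => hx (hCR h'), sbc_of_notMem _ fun h' => hx (by
        have h2 := L.mul_mem (L.mul_mem (L.inv_mem (hAL hk)) (hCR h')) (hAL hk)
        simpa [mul_assoc] using h2)]
  · have h1 := h.2.2.2.2.2 (compIrr (centIso hAL hCL) ξ) hξ
    rw [show sbc CG[R.subgroupOf L] r = fun t : L => sbc CG[R] (upBlock hRL hCR r) (t : G) from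
      funext hval] at h1
    have h2 := brauerOmega_res hAL hCL (sbc CG[R] (upBlock hRL hCR r)) (ξ : CG[A] → ℂ)
    rw [← h2]
    exact h1

/-- A pair normally above `(Q, f)` is a Brauer pair of the block with the idempotent of `f`. -/
theorem isBrauerPairOf_res (hM : Cfsg.IsPModular p M) {Q : Subgroup G}
    {f : Set (Cfsg.IrrCharacter CG[Q])} {E : Set (Cfsg.IrrCharacter L)}
    (hE : Cfsg.IsPBlock M E) (hcoeff : ∀ t : L, Cfsg.blockCoeff E t = sbc CG[Q] f (t : G))
    {g : Set (Cfsg.IrrCharacter CG[A])} (h : Cfsg.IsNormalSubpair p M Q f A g) :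
    Cfsg.IsBrauerPairOf p M E (A.subgroupOf L) (resBlock hAL hCL g) := by
  refine ⟨⟨h.2.1.1.comap_of_injective _ (Subgroup.subtype_injective L),
    isPBlock_resBlock hAL hCL h.2.1.2⟩, hE, fun ξ hξ => ?_⟩
  have h1 := h.2.2.2.2.2 (compIrr (centIso hAL hCL).symm ξ) hξ
  rw [← brauerOmega_res hAL hCL] at h1
  rw [show Cfsg.blockCoeff E = fun t : L => sbc CG[Q] f (t : G) from funext hcoeff]
  convert h1 using 3
  funext c
  simp [compIrr_apply]

/-- An inclusion inside `L` above `Q` is an inclusion in `G`. -/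
theorem subpairLE_up (hM : Cfsg.IsPModular p M) {Q : Subgroup G} (hQL : Q ≤ L)
    (hCQ : CG[Q] ≤ L) {R : Subgroup G} (hRL : R ≤ L) (hQR : Q ≤ R) (hCR : CG[R] ≤ L)
    {r : Set (Cfsg.IrrCharacter CG[R.subgroupOf L])}
    {a : Set (Cfsg.IrrCharacter CG[A.subgroupOf L])}
    (h : Cfsg.SubpairLE p M (R.subgroupOf L) r (A.subgroupOf L) a) :
    Cfsg.SubpairLE p M R (upBlock hRL hCR r) A (upBlock hAL hCL a) := by
  suffices ∀ x : Cfsg.BrauerPairIdx L,
      Relation.ReflTransGen (Cfsg.NormalSubpairRel p M) x ⟨A.subgroupOf L, a⟩ →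
        ∀ (R : Subgroup G) (hRL : R ≤ L) (hCR : CG[R] ≤ L), Q ≤ R →
          ∀ r : Set (Cfsg.IrrCharacter CG[R.subgroupOf L]), x = ⟨R.subgroupOf L, r⟩ →
            Cfsg.SubpairLE p M R (upBlock hRL hCR r) A (upBlock hAL hCL a) from
    this _ h R hRL hCR hQR r rfl
  intro x hx
  induction hx using Relation.ReflTransGen.head_induction_on with
  | refl =>
    intro R hRL hCR _ r heq
    have hRA : R = A := by
      have h1 := congrArg Sigma.fst heq
      dsimp only at h1
      exact (le_antisymm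
        (fun x hx => Subgroup.mem_subgroupOf.1 (h1 ▸ (show (⟨x, hAL hx⟩ : L) ∈ A.subgroupOf L from hx)))
        (fun x hx => Subgroup.mem_subgroupOf.1
          (h1 ▸ (show (⟨x, hRL hx⟩ : L) ∈ R.subgroupOf L from hx)))).symm
    subst hRA
    obtain rfl : r = a := (eq_of_heq (Sigma.mk.inj heq).2).symm
    exact Relation.ReflTransGen.refl
  | @head b c hbc hcd ih =>
    intro R hRL hCR hQR r heq
    subst heq
    obtain ⟨C', c'⟩ := c
    have hC' : C' = (C'.map L.subtype).subgroupOf L :=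
      (Subgroup.comap_map_eq_self_of_injective L.subtype_injective C').symm
    generalize hS : C'.map L.subtype = S at hC'
    subst hC'
    have hSL : S ≤ L := hS ▸ Subgroup.map_subtype_le _
    have hRS : R ≤ S := fun x hx =>
      Subgroup.mem_subgroupOf.1 (hbc.2.2.1 (show (⟨x, hRL hx⟩ : L) ∈ R.subgroupOf L from hx))
    have hCS : CG[S] ≤ L := (centralizer_mono (hQR.trans hRS)).trans hCQ
    exact Relation.ReflTransGen.head
      (show Cfsg.NormalSubpairRel p M ⟨R, upBlock hRL hCR r⟩ ⟨S, upBlock hSL hCS c'⟩ from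
        isNormalSubpair_up hSL hCS hM hRL hCR hbc)
      (ih S hSL hCS (hQR.trans hRS) c' rfl)

end Cfsg.Agent.BrauerPairs
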