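import Cfsg.Agent.BrauerPairs.Fusion
import Cfsg.Agent.BrauerPairs.Sub
import Cfsg.Agent.FusSys.Saturation

/-!
# The fusion system of a block exists and is saturated
-/

namespace Cfsg.Agent.BrauerPairs

open Cfsg.Agent Cfsg.Agent.Blocks

universe u

variable {G : Type u} [Group G] {p : ℕ} {M : Ideal Cfsg.AlgInt}

local notation "CG[" Q "]" => Subgroup.centralizer (SetLike.coe Q)
local notation "sbc" => Cfsg.subgroupBlockCoeff

/-- The pair order. -/
def PairLE (p : ℕ) (M : Ideal Cfsg.AlgInt) (a b : Cfsg.BrauerPairIdx G) : Prop :=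
  Relation.ReflTransGen (Cfsg.NormalSubpairRel p M) a b

variable [Finite G]

theorem subpairLE_conjPair_iff {Q P : Subgroup G} {f : Set (Cfsg.IrrCharacter CG[Q])}
    {e : Set (Cfsg.IrrCharacter CG[P])} (g : G) :
    PairLE p M (conjPair g ⟨Q, f⟩) ⟨P, e⟩ ↔
      Cfsg.SubpairLE p M (Q.map (MulAut.conj g).toMonoidHom) (Cfsg.conjBlock Q g f) P e := Iff.rfl

theorem conjPair_self {Q : Subgroup G} {f : Set (Cfsg.IrrCharacter CG[Q])} {k : G}
    (hk : k ∈ Subgroup.normalizer (Q : Set G)) (hinv : ∀ x, sbc CG[Q] f (k * x * k⁻¹) = sbc CG[Q] f x) :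
    conjPair k ⟨Q, f⟩ = ⟨Q, f⟩ :=
  idx_ext (map_conj_eq hk) fun x => by
    rw [sbc_conjPair]
    have h := hinv (k⁻¹ * x * k)
    rw [show k * (k⁻¹ * x * k) * k⁻¹ = x by group] at h
    exact h.symm

theorem conjPair_self_of_mem {Q : Subgroup G} {f : Set (Cfsg.IrrCharacter CG[Q])} {k : G}
    (hk : k ∈ Q) : conjPair k ⟨Q, f⟩ = ⟨Q, f⟩ :=
  conjPair_self (Subgroup.le_normalizer hk) (isInv_sbc_of_mem_centralizer Q f k hk)

variable {B : Set (Cfsg.IrrCharacter G)} {P : Subgroup G} {e : Set (Cfsg.IrrCharacter CG[P])}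

/-- The pair on a subgroup of `P`, and its properties. -/
theorem pair_unique (hM : Cfsg.IsPModular p M) (hPe : Cfsg.IsBrauerPair p M P e)
    {a b : Cfsg.BrauerPairIdx G} (ha : PairLE p M a ⟨P, e⟩) (hb : PairLE p M b ⟨P, e⟩)
    (h : a.1 = b.1) : a = b := by
  obtain ⟨A, a⟩ := a
  obtain ⟨C, c⟩ := b
  dsimp only at h
  subst h
  exact congrArg (Sigma.mk A)
    ((existsUnique_subpairLE hM hPe (BlockChar.le_of_subpairLE ha)).unique ha hb)

theorem exists_pair (hM : Cfsg.IsPModular p M) (hPe : Cfsg.IsBrauerPair p M P e) {Q : Subgroup G}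
    (hQ : Q ≤ P) : ∃ f : Set (Cfsg.IrrCharacter CG[Q]), PairLE p M ⟨Q, f⟩ ⟨P, e⟩ :=
  (existsUnique_subpairLE hM hPe hQ).exists

theorem exists_isBlockFusionSystemOn (hM : Cfsg.IsPModular p M)
    (hmax : Cfsg.IsMaximalBrauerPair p M B P e) :
    ∃ F : Cfsg.FusionSystem P, Cfsg.IsBlockFusionSystemOn p M B P e F := by
  have hPe := hmax.1.1
  let H : (Q : Subgroup G) → Set (Q →* G) := fun Q => {φ | Q ≤ P ∧ ∃ g : G,
    (∀ u : Q, φ u = g * (u : G) * g⁻¹) ∧ Q.map (MulAut.conj g).toMonoidHom ≤ P ∧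
      ∃ f : Set (Cfsg.IrrCharacter CG[Q]), Cfsg.SubpairLE p M Q f P e ∧
        Cfsg.SubpairLE p M (Q.map (MulAut.conj g).toMonoidHom) (Cfsg.conjBlock Q g f) P e}
  refine ⟨⟨H, ?_, ?_, ?_, ?_, ?_⟩, hmax, fun Q φ => Iff.rfl⟩
  · rintro Q φ ⟨hQ, g, hg, hle, -⟩
    exact ⟨hQ, fun x => hg x ▸ hle ⟨x, x.2, rfl⟩⟩
  · rintro Q φ ⟨-, g, hg, -⟩ a b hab
    rw [hg, hg] at hab
    exact Subtype.ext (mul_left_cancel (mul_right_cancel hab))
  · intro Q g hQ hg
    obtain ⟨f, hf⟩ := exists_pair hM hPe hQ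
    have h1 : PairLE p M (conjPair g ⟨Q, f⟩) (conjPair g ⟨P, e⟩) := le_conjPair hM hf g
    rw [conjPair_self_of_mem hg] at h1
    exact ⟨hQ, g, fun u => rfl, BlockChar.le_of_subpairLE h1, f, hf, h1⟩
  · rintro Q R φ ψ ⟨hQ, g, hg, hgle, f, hf, hfg⟩ ⟨hR, k, hk, hkle, r, hr, hrk⟩ hh
    have hsub : Q.map (MulAut.conj g).toMonoidHom ≤ R := by
      rintro _ ⟨q, hq, rfl⟩
      show g * q * g⁻¹ ∈ R
      rw [← hg ⟨q, hq⟩]
      exact hh _
    have h1 := subpairLE_of_le hM hPe hsub hfg hr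
    have h2 : PairLE p M (conjPair k (conjPair g ⟨Q, f⟩)) ⟨P, e⟩ :=
      (le_conjPair hM (a := conjPair g ⟨Q, f⟩) (b := ⟨R, r⟩) h1 k).trans hrk
    rw [conjPair_conjPair] at h2
    refine ⟨hQ, k * g, fun u => ?_, BlockChar.le_of_subpairLE h2, f, hf, h2⟩
    rw [MonoidHom.comp_apply, hk]
    show k * φ u * k⁻¹ = _
    rw [hg]
    group
  · rintro Q φ ⟨hQ, g, hg, hgle, f, hf, hfg⟩
    have hR : φ.range = Q.map (MulAut.conj g).toMonoidHom := by
      ext y
      constructor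
      · rintro ⟨u, rfl⟩
        exact ⟨u, u.2, (hg u).symm⟩
      · rintro ⟨u, hu, rfl⟩
        exact ⟨⟨u, hu⟩, hg ⟨u, hu⟩⟩
    obtain ⟨r, hr⟩ := exists_pair hM hPe (hR ▸ hgle : φ.range ≤ P)
    have heq : (⟨φ.range, r⟩ : Cfsg.BrauerPairIdx G) = conjPair g ⟨Q, f⟩ :=
      pair_unique hM hPe hr hfg hR
    have h1 : PairLE p M (conjPair g⁻¹ ⟨φ.range, r⟩) ⟨P, e⟩ := by
      rw [heq, conjPair_conjPair, inv_mul_cancel, conjPair_one]; exact hf
    refine ⟨(MulAut.conj g⁻¹).toMonoidHom.comp φ.range.subtype,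
      ⟨hR ▸ hgle, g⁻¹, fun u => rfl, BlockChar.le_of_subpairLE h1, r, hr, h1⟩, fun x => ?_⟩
    show g⁻¹ * φ x * g⁻¹⁻¹ = x
    rw [hg]
    group

variable {F : Cfsg.FusionSystem P}

theorem mor_blockFusion (hF : Cfsg.IsBlockFusionSystemOn p M B P e F) {Q : Subgroup G}
    {φ : G → G} : FusSys.Mor F Q φ ↔ Q ≤ P ∧ ∃ g : G, (∀ x ∈ Q, φ x = g * x * g⁻¹) ∧
      ∃ f : Set (Cfsg.IrrCharacter CG[Q]), PairLE p M ⟨Q, f⟩ ⟨P, e⟩ ∧
        PairLE p M (conjPair g ⟨Q, f⟩) ⟨P, e⟩ := by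
  constructor
  · rintro ⟨ψ, hψ, hψφ⟩
    obtain ⟨hQ, g, hg, -, f, hf, hfg⟩ := (hF.2 Q ψ).1 hψ
    exact ⟨hQ, g, fun x hx => (hψφ ⟨x, hx⟩).symm.trans (hg ⟨x, hx⟩), f, hf, hfg⟩
  · rintro ⟨hQ, g, hg, f, hf, hfg⟩
    exact ⟨(MulAut.conj g).toMonoidHom.comp Q.subtype, (hF.2 Q _).2
      ⟨hQ, g, fun u => rfl, BlockChar.le_of_subpairLE hfg, f, hf, hfg⟩, fun x => (hg x x.2).symm⟩

theorem fullyAutomized_top (hM : Cfsg.IsPModular p M) (hmax : Cfsg.IsMaximalBrauerPair p M B P e)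
    (hF : Cfsg.IsBlockFusionSystemOn p M B P e F) : F.IsFullyAutomized p P := by
  classical
  haveI := Fact.mk hM.1
  have hp := hM.1
  have hPe := hmax.1.1
  have hsyl : ∀ α ∈ F.autGroup P, (∃ j, α ^ (p ^ j) = 1) → α ∈ Cfsg.autInducedBy P P := by
    intro α hα ⟨j, hj⟩
    obtain ⟨-, g, hg, f, hf, hfg⟩ := (mor_blockFusion hF).1 (FusSys.iso_apl le_rfl hα).mor
    have himg : P.map (MulAut.conj g).toMonoidHom = P :=
      Subgroup.eq_of_le_of_card_ge (BlockChar.le_of_subpairLE hfg)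
        (le_of_eq (DefectThms.card_map_conj P g).symm)
    have hfe : (⟨P, f⟩ : Cfsg.BrauerPairIdx G) = ⟨P, e⟩ :=
      pair_unique hM hPe hf Relation.ReflTransGen.refl rfl
    rw [hfe] at hfg
    have hge : conjPair g ⟨P, e⟩ = ⟨P, e⟩ :=
      pair_unique hM hPe hfg Relation.ReflTransGen.refl himg
    set K := Subgroup.normalizer (P : Set G) ⊓ invSubgroup (sbc CG[P] e)
    have hgK : g ∈ K := by
      refine ⟨Subgroup.mem_normalizer_iff.2 fun x => ⟨fun hx => ?_, fun hx => ?_⟩, fun x => ?_⟩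
      · rw [← himg]; exact ⟨x, hx, rfl⟩
      · rw [← himg] at hx
        obtain ⟨q, hq, hqe⟩ := hx
        rwa [← (MulAut.conj g).injective hqe]
      · have h := sbc_conjPair g ⟨P, e⟩ (g * x * g⁻¹)
        rw [hge] at h
        dsimp only at h
        rw [show g⁻¹ * (g * x * g⁻¹) * g = x by group] at h
        exact h
    set u := pPartOf p g
    have hu : u ∈ K := pow_mem hgK _
    obtain ⟨k, hk⟩ := orderOf_pPartOf hp g
    have hst : Cfsg.StabilizesBlock CG[P] e u :=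
      (stabilizesBlock_iff hM hu.1 hPe.2).2 fun z hz x => by
        rw [Set.mem_singleton_iff.1 hz]; exact hu.2 x
    obtain ⟨q, hq, c, hc, hqc⟩ : ∃ q ∈ P, ∃ c ∈ CG[P], q * c = u := by
      have h := mem_sup_of_maximal hM hmax hu.1 hst ⟨k, hk⟩
      have hCN : CG[P] ≤ Subgroup.normalizer (P : Set G) :=
        Subgroup.centralizer_le_normalizer (P : Set G)
      have h' : u ∈ ((P ⊔ CG[P] : Subgroup G) : Set G) := h
      rw [sup_comm, Subgroup.coe_mul_of_left_le_normalizer_right _ _ hCN] at h'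
      obtain ⟨c, hc, q, hq, hcq⟩ := Set.mem_mul.1 h'
      refine ⟨q, hq, c, hc, ?_⟩
      rw [Subgroup.mem_centralizer_iff.1 hc q hq, hcq]
    -- the `p'`-part of `g` acts trivially
    have hpow : ∀ (n : ℕ), ∀ x ∈ P, FusSys.apl (α ^ n) x = g ^ n * x * (g ^ n)⁻¹ := by
      intro n
      induction n with
      | zero => intro x hx; rw [pow_zero, FusSys.apl_one hx]; simp
      | succ n ih =>
        intro x hx
        rw [pow_succ', FusSys.apl_mul _ _ hx, ih x hx, hg _ (by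
          rw [← ih x hx]; exact FusSys.apl_mem _ hx), pow_succ']
        group
    set s := pPrimePartOf p g
    have hs1 : ∀ x ∈ P, s * x * s⁻¹ = x := by
      intro x hx
      set n := pPrimeExp p (orderOf g) with hn
      have hsn : s = g ^ n := rfl
      set m := orderOf s
      have h1 : (α ^ n) ^ (p ^ j) = 1 := by rw [← pow_mul, mul_comm, pow_mul, hj, one_pow]
      have h2 : (α ^ n) ^ m = 1 := FusSys.apl_ext fun y hy => by
        rw [← pow_mul, hpow _ y hy, FusSys.apl_one hy, pow_mul, ← hsn, pow_orderOf_eq_one]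
        simp
      have hco : Nat.Coprime (p ^ j) m :=
        Nat.Coprime.pow_left j ((hp.coprime_iff_not_dvd).2 (not_dvd_orderOf_pPrimePartOf hp g))
      have h3 : α ^ n = 1 := by
        have := (pow_gcd_eq_one (a := α ^ n)).2 ⟨h1, h2⟩
        rwa [Nat.Coprime.gcd_eq_one hco, pow_one] at this
      have h4 := hpow n x hx
      rw [h3, FusSys.apl_one hx, ← hsn] at h4
      exact h4.symm
    refine FusSys.mem_autInducedBy_iff.2 ⟨q, hq, Subgroup.le_normalizer hq, fun x hx => ?_⟩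
    rw [hg x hx]
    conv_lhs => rw [← pPartOf_mul_pPrimePartOf hp g]
    calc u * s * x * (u * s)⁻¹ = u * (s * x * s⁻¹) * u⁻¹ := by group
      _ = q * (c * x * c⁻¹) * q⁻¹ := by rw [hs1 x hx, ← hqc]; group
      _ = q * x * q⁻¹ := by
        rw [show c * x * c⁻¹ = x by
          rw [← Subgroup.mem_centralizer_iff.1 hc x hx, mul_inv_cancel_right]]
  refine ⟨le_rfl, ?_⟩
  have hpg : IsPGroup p ((Cfsg.autInducedBy P P).subgroupOf (F.autGroup P)) :=
    (FusSys.isPGroup_autInducedBy hPe.1).comap_subtype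
  refine ⟨⟨(Cfsg.autInducedBy P P).subgroupOf (F.autGroup P), hpg,
    fun {T} hT hle => le_antisymm (fun a ha => ?_) hle⟩, rfl⟩
  obtain ⟨j, hj⟩ := hT ⟨a, ha⟩
  refine Subgroup.mem_subgroupOf.2 (hsyl a a.2 ⟨j, ?_⟩)
  simpa [Subtype.ext_iff] using hj

theorem receptive_of_fullyNormalized (hM : Cfsg.IsPModular p M)
    (hmax : Cfsg.IsMaximalBrauerPair p M B P e) (hF : Cfsg.IsBlockFusionSystemOn p M B P e F)
    {Q : Subgroup G} (hfn : F.IsFullyNormalized Q) : F.IsReceptive Q := by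
  classical
  haveI := Fact.mk hM.1
  have hPe := hmax.1.1
  rw [FusSys.isReceptive_iff]
  refine ⟨hfn.1, fun P₀ φ hφ => ?_⟩
  obtain ⟨hP₀, g, hg, f₀, hf₀, hfg⟩ := (mor_blockFusion hF).1 hφ.mor
  have hQ : Q = P₀.map (MulAut.conj g).toMonoidHom := Subgroup.ext fun y => by
    rw [hφ.2 y]
    exact ⟨fun ⟨x, hx, hxy⟩ => ⟨x, hx, (hg x hx).symm.trans hxy⟩,
      fun ⟨x, hx, hxy⟩ => ⟨x, hx, (hg x hx).trans hxy⟩⟩
  obtain ⟨f, hf⟩ := exists_pair hM hPe hfn.1
  have hQf := isBrauerPair_of_subpairLE hPe hf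
  have hfgeq : conjPair g ⟨P₀, f₀⟩ = ⟨Q, f⟩ := pair_unique hM hPe hfg hf hQ.symm
  set N := P ⊓ Subgroup.normalizer (Q : Set G) with hN
  set L := N ⊔ CG[Q] with hL
  have hCN : CG[Q] ≤ Subgroup.normalizer (Q : Set G) :=
    Subgroup.centralizer_le_normalizer (Q : Set G)
  have hLN : L ≤ Subgroup.normalizer (Q : Set G) := sup_le inf_le_right hCN
  have hQN : Q ≤ N := le_inf hfn.1 Subgroup.le_normalizer
  have hCL : CG[Q] ≤ L := le_sup_right
  have hNL : N ≤ L := le_sup_left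
  obtain ⟨eN, heN, heNle⟩ := exists_normalSubpair_between hM hPe hf hQN inf_le_left inf_le_right
  have hinvL : IsInv (L : Set G) (sbc CG[Q] f) := by
    have : L ≤ invSubgroup (sbc CG[Q] f) :=
      sup_le (fun k hk x => isInv_of_stabilizes hM inf_le_right hQf.2 heN.2.2.2.2.1 k hk x)
        fun k hk x => isInv_sbc f k hk x
    exact fun k hk => this hk
  obtain ⟨E, hE, hcoeff⟩ :=
    exists_block_of_stable hM hQf.1 (hQN.trans hNL) hCL hLN hQf.2 hinvL
  have hPL : P ⊓ L = N :=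
    le_antisymm (le_inf inf_le_left (inf_le_right.trans hLN)) (le_inf inf_le_left hNL)
  have hD : Cfsg.IsDefectGroup p M E ((P ⊓ L).subgroupOf L) := by
    rw [isDefectGroup_iff_max hM hmax hf hCL hLN hE hcoeff, hPL]
    intro x hx
    refine le_trans (Subgroup.card_le_of_le ?_)
      (hfn.2 _ ((isConj_iff_exists hM hF hf _).2 ⟨x, rfl, hx⟩))
    rintro y ⟨hy1, z, hz, rfl⟩
    exact ⟨hy1, (mem_normalizer_map_conj_iff Q x z).1 (hLN hz)⟩
  have hCNL : CG[N] ≤ L := (centralizer_mono hQN).trans hCL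
  -- the pair on `N` is maximal in `L`
  have hNpair := isBrauerPairOf_res hNL hCNL hM hE hcoeff heN
  have hmaxN : Cfsg.IsMaximalBrauerPair p M E (N.subgroupOf L) (resBlock hNL hCNL eN) := by
    refine ⟨hNpair, fun R r hR hle => ?_⟩
    obtain ⟨a, ha, hale⟩ := exists_maximal_above hM hR
    have h1 := BlockChar.card_defectGroup hM hE (isDefectGroup_of_maximal hM ha)
    have h2 := BlockChar.card_defectGroup hM hE hD
    rw [hPL] at h2
    exact (Subgroup.eq_of_le_of_card_ge (BlockChar.le_of_subpairLE hle) (by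
      rw [h2, ← h1]; exact Subgroup.card_le_of_le (BlockChar.le_of_subpairLE hale))).symm
  -- the transported extender
  set K := FusSys.nPhi P P₀ φ with hK
  obtain ⟨eK, heK, heKle⟩ := exists_normalSubpair_between hM hPe hf₀ hφ.mor.le_nPhi
    (FusSys.nPhi_le.trans inf_le_left) (FusSys.nPhi_le.trans inf_le_right)
  set A := K.map (MulAut.conj g).toMonoidHom with hA
  have hQA : Q ≤ A := hQ ▸ Subgroup.map_mono hφ.mor.le_nPhi
  have hAL : A ≤ L := by
    rintro _ ⟨a, ha, rfl⟩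
    obtain ⟨haP, han, h, hh, hax⟩ := ha
    show g * a * g⁻¹ ∈ L
    have key : ∀ y ∈ Q, g * a * g⁻¹ * y * (g * a * g⁻¹)⁻¹ = h * y * h⁻¹ := by
      intro y hy
      obtain ⟨x, hx, rfl⟩ := (hφ.2 y).1 hy
      rw [← hax x hx, hg _ ((Subgroup.mem_normalizer_iff.1 han x).1 hx), hg x hx]
      group
    have haN : g * a * g⁻¹ ∈ Subgroup.normalizer (Q : Set G) :=
      hQ ▸ (mem_normalizer_map_conj_iff P₀ g a).1 han
    have hhN : h ∈ Subgroup.normalizer (Q : Set G) := Subgroup.mem_normalizer_iff.2 fun y => by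
      constructor
      · intro hy
        rw [← key y hy]
        exact (Subgroup.mem_normalizer_iff.1 haN y).1 hy
      · intro hy
        obtain ⟨y', hy', hye⟩ : ∃ y' ∈ Q, h * y' * h⁻¹ = h * y * h⁻¹ := by
          refine ⟨(g * a * g⁻¹)⁻¹ * (h * y * h⁻¹) * (g * a * g⁻¹),
            (Subgroup.mem_normalizer_iff''.1 haN _).1 hy, ?_⟩
          rw [← key _ ((Subgroup.mem_normalizer_iff''.1 haN _).1 hy)]
          group
        rwa [← mul_left_cancel (mul_right_cancel hye)]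
    have hc : h⁻¹ * (g * a * g⁻¹) ∈ CG[Q] := Subgroup.mem_centralizer_iff.2 fun y hy => by
      have h1 := key y hy
      calc y * (h⁻¹ * (g * a * g⁻¹))
          = h⁻¹ * (h * y * h⁻¹) * (g * a * g⁻¹) := by group
        _ = h⁻¹ * (g * a * g⁻¹ * y * (g * a * g⁻¹)⁻¹) * (g * a * g⁻¹) := by rw [h1]
        _ = h⁻¹ * (g * a * g⁻¹) * y := by group
    rw [show g * a * g⁻¹ = h * (h⁻¹ * (g * a * g⁻¹)) by group]
    exact mul_mem (hNL ⟨hh, hhN⟩) (hCL hc)
  have hstep : Cfsg.IsNormalSubpair p M Q f A (Cfsg.conjBlock K g eK) := by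
    have h := isNormalSubpair_conj hM heK g
    have h' : Cfsg.NormalSubpairRel p M (conjPair g ⟨P₀, f₀⟩) (conjPair g ⟨K, eK⟩) := h
    rw [hfgeq] at h'
    exact h'
  have hCAL : CG[A] ≤ L := (centralizer_mono hQA).trans hCL
  obtain ⟨l, hl⟩ := exists_conj_subpairLE hM hmaxN (isBrauerPairOf_res hAL hCAL hM hE hcoeff hstep)
  -- move the conjugate back into `G`
  set A' := A.map (MulAut.conj (l : G)).toMonoidHom with hA'
  have hQA' : Q ≤ A' := by
    rw [← map_conj_eq (hLN l.2) (Q := Q)]; exact Subgroup.map_mono hQA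
  have hA'L : A' ≤ L := by
    rintro _ ⟨a, ha, rfl⟩
    exact mul_mem (mul_mem l.2 (hAL ha)) (inv_mem l.2)
  have hCA'L : CG[A'] ≤ L := (centralizer_mono hQA').trans hCL
  have hpair : conjPair l ⟨A.subgroupOf L, resBlock hAL hCAL (Cfsg.conjBlock K g eK)⟩ =
      (⟨A'.subgroupOf L, resBlock hA'L hCA'L (Cfsg.conjBlock A (l : G) (Cfsg.conjBlock K g eK))⟩ :
        Cfsg.BrauerPairIdx L) := by
    refine idx_ext ?_ fun t => ?_
    · ext t
      constructor
      · rintro ⟨a, ha, rfl⟩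
        exact ⟨(a : G), ha, rfl⟩
      · intro ht
        obtain ⟨a, ha, hat⟩ := (Subgroup.mem_subgroupOf.1 ht : (t : G) ∈ A')
        exact ⟨⟨a, hAL ha⟩, ha, Subtype.ext hat⟩
    · rw [sbc_conjPair, sbc_resBlock hA'L hCA'L]
      refine (sbc_resBlock hAL hCAL _ _).trans ?_
      exact (sbc_conjPair (l : G) ⟨A, Cfsg.conjBlock K g eK⟩ (t : G)).symm
  have hup : Cfsg.SubpairLE p M A' (Cfsg.conjBlock A (l : G) (Cfsg.conjBlock K g eK)) N eN := by
    have h1 : Relation.ReflTransGen (Cfsg.NormalSubpairRel p M)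
        (conjPair l ⟨A.subgroupOf L, resBlock hAL hCAL (Cfsg.conjBlock K g eK)⟩)
        ⟨N.subgroupOf L, resBlock hNL hCNL eN⟩ := hl
    rw [hpair] at h1
    have h2 := subpairLE_up hNL hCNL hM (hQN.trans hNL) hCL hA'L hQA' hCA'L h1
    have e1 : upBlock hA'L hCA'L (resBlock hA'L hCA'L
        (Cfsg.conjBlock A (l : G) (Cfsg.conjBlock K g eK))) = _ :=
      upBlock_resBlock hA'L hCA'L _
    have e2 : upBlock hNL hCNL (resBlock hNL hCNL eN) = _ := upBlock_resBlock hNL hCNL _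
    rwa [e1, e2] at h2
  -- split `l = n c`
  obtain ⟨n, hn, c, hc, hnc⟩ : ∃ n ∈ N, ∃ c ∈ CG[Q], n * c = (l : G) := by
    have hNC : N ≤ Subgroup.normalizer (CG[Q] : Set G) := fun y hy =>
      Subgroup.mem_normalizer_iff.2 (mem_centralizer_iff_of_mem_normalizer hy.2)
    have h' : (l : G) ∈ ((N ⊔ CG[Q] : Subgroup G) : Set G) := l.2
    rw [Subgroup.coe_mul_of_left_le_normalizer_right _ _ hNC] at h'
    obtain ⟨n, hn, c, hc, hnc⟩ := Set.mem_mul.1 h'
    exact ⟨n, hn, c, hc, hnc⟩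
  have hfinal : PairLE p M (conjPair (c * g) ⟨K, eK⟩) ⟨P, e⟩ := by
    have h1 : PairLE p M (conjPair (l : G) (conjPair g ⟨K, eK⟩)) ⟨N, eN⟩ := hup
    have h2 := le_conjPair hM h1 n⁻¹
    rw [conjPair_conjPair, conjPair_conjPair, conjPair_self_of_mem (inv_mem hn), ← hnc,
      show n⁻¹ * (n * c) * g = c * g by group] at h2
    exact h2.trans heNle
  refine ⟨fun x => c * g * x * (c * g)⁻¹, (mor_blockFusion hF).2
    ⟨FusSys.nPhi_le.trans inf_le_left, c * g, fun x _ => rfl, eK, heKle, hfinal⟩, fun x hx => ?_⟩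
  rw [hg x hx]
  have hy : g * x * g⁻¹ ∈ Q := hQ ▸ ⟨x, hx, rfl⟩
  calc c * g * x * (c * g)⁻¹ = c * (g * x * g⁻¹) * c⁻¹ := by group
    _ = g * x * g⁻¹ := by rw [← Subgroup.mem_centralizer_iff.1 hc _ hy, mul_inv_cancel_right]

theorem isSaturated_blockFusion (hM : Cfsg.IsPModular p M)
    (hmax : Cfsg.IsMaximalBrauerPair p M B P e) (hF : Cfsg.IsBlockFusionSystemOn p M B P e F) :
    F.IsSaturated p := by
  haveI := Fact.mk hM.1
  exact (FusSys.saturated_iff_top_receptive hmax.1.1.1).2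
    ⟨fullyAutomized_top hM hmax hF, fun Q hQ => receptive_of_fullyNormalized hM hmax hF hQ⟩

end Cfsg.Agent.BrauerPairs
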