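import Cfsg.Agent.BrauerPairs.Local
import Cfsg.Prelude.Def_BlockFusion

/-!
# The conjugates of a subgroup in the fusion system of a block, and their local defect groups
-/

namespace Cfsg.Agent.BrauerPairs

open Cfsg.Agent Cfsg.Agent.Blocks

universe u

variable {G : Type u} [Group G] [Finite G] {p : ℕ} {M : Ideal Cfsg.AlgInt}
  {B : Set (Cfsg.IrrCharacter G)} {P Q H : Subgroup G}

local notation "CG[" Q "]" => Subgroup.centralizer (SetLike.coe Q)
local notation "sbc" => Cfsg.subgroupBlockCoeff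

variable {e : Set (Cfsg.IrrCharacter CG[P])} {f : Set (Cfsg.IrrCharacter CG[Q])}

/-- The conjugates of `Q` in the fusion system are the subgroups of the conjugate pairs below
`(P, e)`. -/
theorem isConj_iff_exists (hM : Cfsg.IsPModular p M) {F : Cfsg.FusionSystem P}
    (hF : Cfsg.IsBlockFusionSystemOn p M B P e F) (hle : Cfsg.SubpairLE p M Q f P e)
    (R : Subgroup G) :
    F.IsConj Q R ↔ ∃ g : G, R = Q.map (MulAut.conj g).toMonoidHom ∧
      Cfsg.SubpairLE p M (Q.map (MulAut.conj g).toMonoidHom) (Cfsg.conjBlock Q g f) P e := by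
  have hQP : Q ≤ P := BlockChar.le_of_subpairLE hle
  constructor
  · rintro ⟨φ, hφ, rfl⟩
    obtain ⟨-, g, hg, -, f', hf', hg'⟩ := (hF.2 Q φ).1 hφ
    rw [(existsUnique_subpairLE hM hF.1.1.1 hQP).unique hle hf']
    refine ⟨g, ?_, hg'⟩
    ext y
    constructor
    · rintro ⟨u, rfl⟩
      exact ⟨u, u.2, (hg u).symm⟩
    · rintro ⟨u, hu, rfl⟩
      exact ⟨⟨u, hu⟩, hg ⟨u, hu⟩⟩
  · rintro ⟨g, rfl, hg⟩
    refine ⟨(MulAut.conj g).toMonoidHom.comp Q.subtype, (hF.2 Q _).2
      ⟨hQP, g, fun u => rfl, BlockChar.le_of_subpairLE hg, f, hle, hg⟩, ?_⟩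
    rw [MonoidHom.range_comp, Subgroup.range_subtype]

theorem card_defectGroup_mapBlock (hM : Cfsg.IsPModular p M) {H H' : Subgroup G} (g : G)
    (h : ∀ y, y ∈ H ↔ g * y * g⁻¹ ∈ H') {E : Set (Cfsg.IrrCharacter H)} (hE : Cfsg.IsPBlock M E)
    {D : Subgroup H} (hD : Cfsg.IsDefectGroup p M E D) {D' : Subgroup H'}
    (hD' : Cfsg.IsDefectGroup p M (mapBlock (BlockChar.conjIso H H' g h) E) D') :
    Nat.card D' = Nat.card D := by
  rw [BlockChar.card_defectGroup hM (isPBlock_mapBlock _ hE) hD',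
    ← BlockChar.card_defectGroup hM (isPBlock_mapBlock _ hE)
      (isDefectGroup_mapBlock (BlockChar.conjIso H H' g h) hD hM.1),
    Subgroup.card_map_of_injective (BlockChar.conjIso H H' g h).injective]

theorem blockCoeff_mapBlock_conj {H H' : Subgroup G} (g : G)
    (h : ∀ y, y ∈ H ↔ g * y * g⁻¹ ∈ H') {E : Set (Cfsg.IrrCharacter H)}
    (hcoeff : ∀ t : H, Cfsg.blockCoeff E t = sbc CG[Q] f (t : G)) (t : H') :
    Cfsg.blockCoeff (mapBlock (BlockChar.conjIso H H' g h) E) t =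
      sbc CG[Q.map (MulAut.conj g).toMonoidHom] (Cfsg.conjBlock Q g f) (t : G) := by
  have h1 := sbc_conjPair g ⟨Q, f⟩ (t : G)
  rw [← sbc_apply, sbc_mapBlock H H' g h E]
  refine Eq.trans ?_ h1.symm
  have hm : g⁻¹ * (t : G) * g ∈ H := (h _).2 (by simpa [mul_assoc] using t.2)
  rw [sbc_of_mem E hm, hcoeff]

omit [Finite G] in
theorem mem_conj_iff (H : Subgroup G) (g y : G) :
    y ∈ H ↔ g * y * g⁻¹ ∈ H.map (MulAut.conj g).toMonoidHom :=
  ⟨fun hy => ⟨y, hy, rfl⟩, fun ⟨z, hz, hzy⟩ => (MulAut.conj g).injective hzy ▸ hz⟩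

omit [Finite G] in
theorem card_subgroupOf_inf (A H : Subgroup G) :
    Nat.card ((A ⊓ H).subgroupOf H) = Nat.card ↥(A ⊓ H) :=
  Nat.card_congr (Subgroup.subgroupOfEquivOfLe inf_le_right).toEquiv

/-- `P ⊓ H` is a defect group exactly when it is largest among the conjugate pairs below. -/
theorem isDefectGroup_iff_max (hM : Cfsg.IsPModular p M)
    (hmax : Cfsg.IsMaximalBrauerPair p M B P e) (hle : Cfsg.SubpairLE p M Q f P e)
    (hCH : CG[Q] ≤ H) (hHN : H ≤ Subgroup.normalizer (Q : Set G))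
    {E : Set (Cfsg.IrrCharacter H)} (hE : Cfsg.IsPBlock M E)
    (hcoeff : ∀ t : H, Cfsg.blockCoeff E t = sbc CG[Q] f (t : G)) :
    Cfsg.IsDefectGroup p M E ((P ⊓ H).subgroupOf H) ↔
      ∀ g : G, Cfsg.SubpairLE p M (Q.map (MulAut.conj g).toMonoidHom) (Cfsg.conjBlock Q g f) P e →
        Nat.card ↥(P ⊓ H.map (MulAut.conj g).toMonoidHom) ≤ Nat.card ↥(P ⊓ H) := by
  have hQf := isBrauerPair_of_subpairLE hmax.1.1 hle
  constructor
  · intro hD g hg
    have h := mem_conj_iff H g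
    obtain ⟨D', hD', hle'⟩ := exists_defect_ge hM hmax.1.1 hg (H := H.map (MulAut.conj g).toMonoidHom)
      (fun y hy => by
        have h2 : g⁻¹ * y * g ∈ CG[Q] :=
          (BlockChar.mem_centralizer_iff_conj (Q := Q) (g := g) rfl _).2 (by
            simpa [mul_assoc] using hy)
        simpa [mul_assoc] using (h _).1 (hCH h2))
      (fun y hy => by
        obtain ⟨z, hz, rfl⟩ := hy
        exact (mem_normalizer_map_conj_iff Q g z).1 (hHN hz))
      (isPBlock_mapBlock (BlockChar.conjIso _ _ g h) hE) (blockCoeff_mapBlock_conj g h hcoeff)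
    rw [← card_subgroupOf_inf P H, ← card_subgroupOf_inf P (H.map _),
      ← card_defectGroup_mapBlock hM g h hE hD hD']
    exact Subgroup.card_le_of_le hle'
  · intro hmaxc
    obtain ⟨x, hx, hall⟩ := exists_conj_isDefectGroup hM hmax hle hQf hCH hHN hE hcoeff
    obtain ⟨hDx, -⟩ := hall _ (mem_conj_iff H x)
    obtain ⟨D, hD, hleD⟩ := exists_defect_ge hM hmax.1.1 hle hCH hHN hE hcoeff
    have h1 := card_defectGroup_mapBlock hM x (mem_conj_iff H x) hE hD hDx
    rw [card_subgroupOf_inf] at h1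
    have heq : (P ⊓ H).subgroupOf H = D := Subgroup.eq_of_le_of_card_ge hleD (by
      rw [card_subgroupOf_inf, ← h1]; exact hmaxc x hx)
    rwa [heq]

theorem map_centralizer_eq (Q : Subgroup G) (g : G) :
    CG[Q].map (MulAut.conj g).toMonoidHom = CG[Q.map (MulAut.conj g).toMonoidHom] :=
  Subgroup.ext fun y => by
    constructor
    · rintro ⟨z, hz, rfl⟩
      exact (BlockChar.mem_centralizer_iff_conj (Q := Q) (g := g) rfl z).1 hz
    · intro hy
      exact ⟨g⁻¹ * y * g, (BlockChar.mem_centralizer_iff_conj (Q := Q) (g := g) rfl _).2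
        (by simpa [mul_assoc] using hy), by simp [mul_assoc]⟩

theorem fullyCentralized_iff (hM : Cfsg.IsPModular p M)
    (hmax : Cfsg.IsMaximalBrauerPair p M B P e) {F : Cfsg.FusionSystem P}
    (hF : Cfsg.IsBlockFusionSystemOn p M B P e F) (hle : Cfsg.SubpairLE p M Q f P e) :
    F.IsFullyCentralized Q ↔ Cfsg.IsDefectGroup p M f ((P ⊓ CG[Q]).subgroupOf CG[Q]) := by
  rw [isDefectGroup_iff_max hM hmax hle le_rfl
    (fun c hc => Subgroup.mem_normalizer_iff.2 fun b => by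
      constructor
      · intro hb
        rwa [← Subgroup.mem_centralizer_iff.1 hc b hb, mul_inv_cancel_right]
      · intro hb
        have h1 := Subgroup.mem_centralizer_iff.1 hc _ hb
        have h2 : c * b * c⁻¹ = b := by
          have h3 : c⁻¹ * (c * b * c⁻¹ * c) = c⁻¹ * (c * (c * b * c⁻¹)) := by rw [h1]
          simpa [mul_assoc] using h3.symm
        rwa [h2] at hb) (isBrauerPair_of_subpairLE hmax.1.1 hle).2 (fun t => (sbc_apply f t).symm)]
  constructor
  · intro hfc g hg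
    rw [map_centralizer_eq]
    exact hfc.2 _ ((isConj_iff_exists hM hF hle _).2 ⟨g, rfl, hg⟩)
  · intro h
    refine ⟨BlockChar.le_of_subpairLE hle, fun R hR => ?_⟩
    obtain ⟨g, rfl, hg⟩ := (isConj_iff_exists hM hF hle R).1 hR
    have := h g hg
    rwa [map_centralizer_eq] at this

theorem stabilizer_eq (hM : Cfsg.IsPModular p M) (hPe : Cfsg.IsBrauerPair p M P e)
    (hle : Cfsg.SubpairLE p M Q f P e) {T : Subgroup G}
    (hT : ∀ y, y ∈ T ↔ y ∈ Subgroup.normalizer (Q : Set G) ∧ Cfsg.StabilizesBlock CG[Q] f y) :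
    P ⊓ T = P ⊓ Subgroup.normalizer (Q : Set G) := by
  refine le_antisymm (fun y hy => ⟨hy.1, ((hT y).1 hy.2).1⟩) fun y hy => ⟨hy.1, (hT y).2 ⟨hy.2, ?_⟩⟩
  obtain ⟨g, hg, -⟩ := exists_normalSubpair_between hM hPe hle
    (le_inf (BlockChar.le_of_subpairLE hle) Subgroup.le_normalizer) inf_le_left inf_le_right
  exact hg.2.2.2.2.1 y hy

theorem stabilizer_props (hM : Cfsg.IsPModular p M) (hf : Cfsg.IsPBlock M f) {T : Subgroup G}
    (hT : ∀ y, y ∈ T ↔ y ∈ Subgroup.normalizer (Q : Set G) ∧ Cfsg.StabilizesBlock CG[Q] f y) :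
    Q ≤ T ∧ CG[Q] ≤ T ∧ T ≤ Subgroup.normalizer (Q : Set G) ∧ IsInv (T : Set G) (sbc CG[Q] f) := by
  have hC : ∀ c ∈ CG[Q], c ∈ Subgroup.normalizer (Q : Set G) := fun c hc =>
    Subgroup.mem_normalizer_iff.2 fun b => by
      constructor
      · intro hb
        rwa [← Subgroup.mem_centralizer_iff.1 hc b hb, mul_inv_cancel_right]
      · intro hb
        have h1 := Subgroup.mem_centralizer_iff.1 hc _ hb
        have h2 : c * b * c⁻¹ = b := by
          have h3 : c⁻¹ * (c * b * c⁻¹ * c) = c⁻¹ * (c * (c * b * c⁻¹)) := by rw [h1]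
          simpa [mul_assoc] using h3.symm
        rwa [h2] at hb
  refine ⟨fun q hq => (hT q).2 ⟨Subgroup.le_normalizer hq,
      (stabilizesBlock_iff hM (Subgroup.le_normalizer hq) hf).2
        fun k hk x => isInv_sbc_of_mem_centralizer Q f k (Set.mem_singleton_iff.1 hk ▸ hq) x⟩,
    fun c hc => (hT c).2 ⟨hC c hc, (stabilizesBlock_iff hM (hC c hc) hf).2
        fun k hk x => isInv_sbc f k (Set.mem_singleton_iff.1 hk ▸ hc) x⟩,
    fun y hy => ((hT y).1 hy).1, fun k hk x => ?_⟩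
  exact (stabilizesBlock_iff hM ((hT k).1 hk).1 hf).1 ((hT k).1 hk).2 k rfl x

theorem stabilizer_conj (hM : Cfsg.IsPModular p M) (hf : Cfsg.IsPBlock M f) {T : Subgroup G}
    (hT : ∀ y, y ∈ T ↔ y ∈ Subgroup.normalizer (Q : Set G) ∧ Cfsg.StabilizesBlock CG[Q] f y)
    (x : G) (z : G) :
    z ∈ T ↔ x * z * x⁻¹ ∈ Subgroup.normalizer
        ((Q.map (MulAut.conj x).toMonoidHom : Subgroup G) : Set G) ∧
      Cfsg.StabilizesBlock CG[Q.map (MulAut.conj x).toMonoidHom] (Cfsg.conjBlock Q x f)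
        (x * z * x⁻¹) := by
  have hfx : Cfsg.IsPBlock M (Cfsg.conjBlock Q x f) := by
    rw [conjBlock_eq_mapBlock]; exact isPBlock_mapBlock _ hf
  have hval := sbc_conjPair x ⟨Q, f⟩
  rw [hT, ← mem_normalizer_map_conj_iff]
  refine and_congr_right fun hz => ?_
  rw [stabilizesBlock_iff hM hz hf,
    stabilizesBlock_iff hM ((mem_normalizer_map_conj_iff Q x z).1 hz) hfx]
  constructor
  · intro h k hk y
    rw [Set.mem_singleton_iff.1 hk]
    refine (hval _).trans (Eq.trans ?_ (hval y).symm)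
    have := h z rfl (x⁻¹ * y * x)
    rwa [show z * (x⁻¹ * y * x) * z⁻¹ = x⁻¹ * (x * z * x⁻¹ * y * (x * z * x⁻¹)⁻¹) * x by group] at this
  · intro h k hk y
    rw [Set.mem_singleton_iff.1 hk]
    have := (hval (x * z * x⁻¹ * (x * y * x⁻¹) * (x * z * x⁻¹)⁻¹)).symm.trans
      ((h (x * z * x⁻¹) rfl (x * y * x⁻¹)).trans (hval (x * y * x⁻¹)))
    rwa [show x⁻¹ * (x * z * x⁻¹ * (x * y * x⁻¹) * (x * z * x⁻¹)⁻¹) * x = z * y * z⁻¹ by group,
      show x⁻¹ * (x * y * x⁻¹) * x = y by group] at this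

theorem fullyNormalized_iff (hM : Cfsg.IsPModular p M)
    (hmax : Cfsg.IsMaximalBrauerPair p M B P e) {F : Cfsg.FusionSystem P}
    (hF : Cfsg.IsBlockFusionSystemOn p M B P e F) (hle : Cfsg.SubpairLE p M Q f P e)
    {T : Subgroup G}
    (hT : ∀ y, y ∈ T ↔ y ∈ Subgroup.normalizer (Q : Set G) ∧ Cfsg.StabilizesBlock CG[Q] f y)
    {E : Set (Cfsg.IrrCharacter T)} (hE : Cfsg.IsPBlock M E)
    (hcoeff : ∀ t : T, Cfsg.blockCoeff E t = sbc CG[Q] f (t : G)) :
    F.IsFullyNormalized Q ↔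
      Cfsg.IsDefectGroup p M E ((P ⊓ Subgroup.normalizer (Q : Set G)).subgroupOf T) := by
  have hPe := hmax.1.1
  have hQf := isBrauerPair_of_subpairLE hPe hle
  obtain ⟨-, hCT, hTN, -⟩ := stabilizer_props hM hQf.2 hT
  have heq := stabilizer_eq hM hPe hle hT
  rw [← heq, isDefectGroup_iff_max hM hmax hle hCT hTN hE hcoeff]
  have key : ∀ g : G,
      Cfsg.SubpairLE p M (Q.map (MulAut.conj g).toMonoidHom) (Cfsg.conjBlock Q g f) P e →
      P ⊓ T.map (MulAut.conj g).toMonoidHom =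
        P ⊓ Subgroup.normalizer ((Q.map (MulAut.conj g).toMonoidHom : Subgroup G) : Set G) := by
    intro g hg
    refine stabilizer_eq hM hPe hg fun y => ?_
    have h1 := stabilizer_conj hM hQf.2 hT g (g⁻¹ * y * g)
    rw [show g * (g⁻¹ * y * g) * g⁻¹ = y by group] at h1
    rw [← h1, mem_conj_iff T g (g⁻¹ * y * g), show g * (g⁻¹ * y * g) * g⁻¹ = y by group]
  rw [heq]
  constructor
  · intro hfn g hg
    rw [key g hg]
    exact hfn.2 _ ((isConj_iff_exists hM hF hle _).2 ⟨g, rfl, hg⟩)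
  · intro h
    refine ⟨BlockChar.le_of_subpairLE hle, fun R hR => ?_⟩
    obtain ⟨g, rfl, hg⟩ := (isConj_iff_exists hM hF hle R).1 hR
    have h1 := h g hg
    rw [key g hg] at h1
    exact h1

omit [Finite G] in
theorem map_center_eq (Q : Subgroup G) (g : G) :
    (Q ⊓ CG[Q]).map (MulAut.conj g).toMonoidHom =
      Q.map (MulAut.conj g).toMonoidHom ⊓ CG[Q.map (MulAut.conj g).toMonoidHom] :=
  Subgroup.ext fun y => by
    constructor
    · rintro ⟨z, ⟨hz, hz'⟩, rfl⟩
      exact ⟨⟨z, hz, rfl⟩, (BlockChar.mem_centralizer_iff_conj (Q := Q) (g := g) rfl z).1 hz'⟩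
    · rintro ⟨⟨z, hz, rfl⟩, hy⟩
      exact ⟨z, ⟨hz, (BlockChar.mem_centralizer_iff_conj (Q := Q) (g := g) rfl z).2 hy⟩, rfl⟩

theorem centric_iff (hM : Cfsg.IsPModular p M)
    (hmax : Cfsg.IsMaximalBrauerPair p M B P e) {F : Cfsg.FusionSystem P}
    (hF : Cfsg.IsBlockFusionSystemOn p M B P e F) (hle : Cfsg.SubpairLE p M Q f P e) :
    F.IsCentric Q ↔ Cfsg.IsDefectGroup p M f ((Q ⊓ CG[Q]).subgroupOf CG[Q]) := by
  have hQP : Q ≤ P := BlockChar.le_of_subpairLE hle
  have hself : F.IsConj Q Q := (isConj_iff_exists hM hF hle Q).2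
    ⟨1, (DefectThms.map_conj_one Q).symm, by
      have h := conjPair_one (⟨Q, f⟩ : Cfsg.BrauerPairIdx G)
      have h' : Relation.ReflTransGen (Cfsg.NormalSubpairRel p M) (conjPair 1 ⟨Q, f⟩) ⟨P, e⟩ := by
        rw [h]; exact hle
      exact h'⟩
  have hcard : ∀ g : G, Nat.card ↥(Q ⊓ CG[Q]) = Nat.card
      ↥(Q.map (MulAut.conj g).toMonoidHom ⊓ CG[Q.map (MulAut.conj g).toMonoidHom]) := fun g => by
    rw [← map_center_eq, DefectThms.card_map_conj]
  constructor
  · intro hc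
    have h0 : P ⊓ CG[Q] = Q ⊓ CG[Q] :=
      le_antisymm (le_inf (hc.2 Q hself) inf_le_right) (inf_le_inf_right _ hQP)
    rw [← h0, ← fullyCentralized_iff hM hmax hF hle]
    refine ⟨hQP, fun R hR => ?_⟩
    obtain ⟨g, rfl, hg⟩ := (isConj_iff_exists hM hF hle R).1 hR
    show Nat.card ↥(P ⊓ CG[_]) ≤ Nat.card ↥(P ⊓ CG[Q])
    rw [h0, hcard g]
    exact Subgroup.card_le_of_le (le_inf (hc.2 _ hR) inf_le_right)
  · intro hD
    refine ⟨hQP, fun R hR => ?_⟩
    obtain ⟨g, rfl, hg⟩ := (isConj_iff_exists hM hF hle R).1 hR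
    have h := BlockChar.mem_centralizer_iff_conj (Q := Q) (g := g) rfl
    have hQf := isBrauerPair_of_subpairLE hmax.1.1 hle
    have hN : CG[Q.map (MulAut.conj g).toMonoidHom] ≤
        Subgroup.normalizer ((Q.map (MulAut.conj g).toMonoidHom : Subgroup G) : Set G) :=
      fun c hc => Subgroup.mem_normalizer_iff.2 fun b => by
        constructor
        · intro hb
          rwa [← Subgroup.mem_centralizer_iff.1 hc b hb, mul_inv_cancel_right]
        · intro hb
          have h1 := Subgroup.mem_centralizer_iff.1 hc _ hb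
          have h2 : c * b * c⁻¹ = b := by
            have h3 : c⁻¹ * (c * b * c⁻¹ * c) = c⁻¹ * (c * (c * b * c⁻¹)) := by rw [h1]
            simpa [mul_assoc] using h3.symm
          rwa [h2] at hb
    obtain ⟨D', hD', hle'⟩ := exists_defect_ge hM hmax.1.1 hg le_rfl hN
      (isBrauerPair_of_subpairLE hmax.1.1 hg).2 (fun t => (sbc_apply _ t).symm)
    have hD'' : Cfsg.IsDefectGroup p M (mapBlock (BlockChar.conjIso _ _ g h) f) D' := by
      rwa [← conjBlock_eq_mapBlock]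
    have h1 := card_defectGroup_mapBlock hM g h hQf.2 hD hD''
    have h2 := Subgroup.card_le_of_le hle'
    rw [card_subgroupOf_inf, h1, card_subgroupOf_inf, hcard g] at h2
    have h3 := Subgroup.eq_of_le_of_card_ge
      (inf_le_inf_right CG[Q.map (MulAut.conj g).toMonoidHom] (BlockChar.le_of_subpairLE hg)) h2
    show P ⊓ CG[_] ≤ _
    rw [← h3]
    exact inf_le_left

end Cfsg.Agent.BrauerPairs
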