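import Cfsg.Agent.BrauerPairs.Inclusion
import Cfsg.Agent.BlockThms.DefectGroup

/-!
# Maximal Brauer pairs: the subgroup is a defect group, and they are conjugate

If `(P, e)` is maximal then every element at which the idempotent of the orbit of `e` under the
normalizer is a unit modulo `M` has `P` as a Sylow subgroup of its centralizer, so that
idempotent is the Brauer image of a class function of `G`.
-/

namespace Cfsg.Agent.BrauerPairs

open Cfsg.Agent Cfsg.Agent.Blocks

universe u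

variable {G : Type u} [Group G] {p : ℕ} {M : Ideal Cfsg.AlgInt}

local notation "CG[" Q "]" => Subgroup.centralizer (SetLike.coe Q)
local notation "sbc" => Cfsg.subgroupBlockCoeff

/-- Conjugate of a pair. -/
def conjPair (x : G) (a : Cfsg.BrauerPairIdx G) : Cfsg.BrauerPairIdx G :=
  ⟨a.1.map (MulAut.conj x).toMonoidHom, Cfsg.conjBlock a.1 x a.2⟩

variable [Finite G]

theorem idx_ext {a b : Cfsg.BrauerPairIdx G} (h1 : a.1 = b.1)
    (h2 : ∀ g, sbc CG[a.1] a.2 g = sbc CG[b.1] b.2 g) : a = b := by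
  obtain ⟨A, a⟩ := a
  obtain ⟨B, b⟩ := b
  dsimp only at h1
  subst h1
  exact congrArg (Sigma.mk A) (sbc_injective (funext h2))

theorem sbc_conjPair (x : G) (a : Cfsg.BrauerPairIdx G) (g : G) :
    sbc CG[(conjPair x a).1] (conjPair x a).2 g = sbc CG[a.1] a.2 (x⁻¹ * g * x) := by
  show sbc CG[a.1.map (MulAut.conj x).toMonoidHom] (Cfsg.conjBlock a.1 x a.2) g = _
  rw [conjBlock_eq_mapBlock, sbc_mapBlock]

theorem conjPair_conjPair (x y : G) (a : Cfsg.BrauerPairIdx G) :
    conjPair y (conjPair x a) = conjPair (y * x) a :=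
  idx_ext (DefectThms.map_conj_map_conj a.1 y x) fun g => by
    rw [sbc_conjPair, sbc_conjPair, sbc_conjPair]
    congr 1
    group

theorem conjPair_one (a : Cfsg.BrauerPairIdx G) : conjPair 1 a = a :=
  idx_ext (DefectThms.map_conj_one a.1) fun g => by rw [sbc_conjPair]; simp

theorem le_conjPair (hM : Cfsg.IsPModular p M) {a b : Cfsg.BrauerPairIdx G}
    (h : Relation.ReflTransGen (Cfsg.NormalSubpairRel p M) a b) (x : G) :
    Relation.ReflTransGen (Cfsg.NormalSubpairRel p M) (conjPair x a) (conjPair x b) :=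
  subpairLE_conj hM h x

theorem pair_conjPair (hM : Cfsg.IsPModular p M) {B : Set (Cfsg.IrrCharacter G)}
    {a : Cfsg.BrauerPairIdx G} (h : Cfsg.IsBrauerPairOf p M B a.1 a.2) (x : G) :
    Cfsg.IsBrauerPairOf p M B (conjPair x a).1 (conjPair x a).2 :=
  isBrauerPairOf_conj hM h x

theorem maximal_conjPair (hM : Cfsg.IsPModular p M) {B : Set (Cfsg.IrrCharacter G)}
    {a : Cfsg.BrauerPairIdx G} (h : Cfsg.IsMaximalBrauerPair p M B a.1 a.2) (x : G) :
    Cfsg.IsMaximalBrauerPair p M B (conjPair x a).1 (conjPair x a).2 := by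
  refine ⟨pair_conjPair hM h.1 x, fun R g hR hle => ?_⟩
  have h1 := le_conjPair hM (a := conjPair x a) (b := ⟨R, g⟩) hle x⁻¹
  rw [conjPair_conjPair, inv_mul_cancel, conjPair_one] at h1
  have h2 : (conjPair x⁻¹ ⟨R, g⟩).1 = a.1 :=
    h.2 _ _ (pair_conjPair hM (a := ⟨R, g⟩) hR x⁻¹) h1
  show R = a.1.map (MulAut.conj x).toMonoidHom
  rw [← h2]
  show R = (R.map _).map _
  rw [DefectThms.map_conj_map_conj, mul_inv_cancel, DefectThms.map_conj_one]

/-- An idempotent that is a unit somewhere on the centralizer of a p-subgroup has central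
character one modulo `M` at some character there. -/
theorem exists_omega_one (hM : Cfsg.IsPModular p M) [Fintype G] {R : Subgroup G}
    (hR : IsPGroup p R) {β : G → ℂ} (hβP : IsInv (R : Set G) β)
    (hβC : IsInv (CG[R] : Set G) β) (hβR : ∀ x, Cfsg.MemLocalRing M (β x))
    (hβ : conv β β = β) {y : G} (hy : y ∈ CG[R]) (hyu : ¬ Cfsg.MemLocalIdeal M (β y)) :
    ∃ η : Cfsg.IrrCharacter CG[R],
      Cfsg.MemLocalIdeal M (Cfsg.brauerOmega R β (η : CG[R] → ℂ) - 1) := by
  classical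
  letI := Fintype.ofFinite CG[R]
  by_contra hno
  have : Finite (ConjClasses CG[R]) := Quotient.finite _
  have := Fintype.ofFinite (ConjClasses CG[R])
  set v : CG[R] → ℂ := fun a => β (a : G) with hv
  have hvc : Cfsg.IsClassFunction CG[R] v := hβC.isClassFunction_res
  have hvidem : ∀ a, Cfsg.MemLocalIdeal M (conv v v a - v a) := fun a => by
    have h := memLocalIdeal_conv_res_sub_of_isInv hM hR hβP hβP hβR hβR a
    rw [hβ] at h
    simpa [hv] using memLocalIdeal_neg h
  have hω : ∀ η : Cfsg.IrrCharacter CG[R],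
      Cfsg.MemLocalIdeal M (omega (η : CG[R] → ℂ) v -
        if η ∈ (∅ : Set (Cfsg.IrrCharacter CG[R])) then 1 else 0) := by
    intro η
    rw [if_neg (Set.notMem_empty η), sub_zero]
    have hR1 := memLocalRing_omega hM η.2 hvc fun a => hβR a
    refine (memLocalIdeal_of_mul hM hR1 ((localRing hM).sub_mem hR1 (localRing hM).one_mem)
      ?_).resolve_right fun h => hno ⟨η, by rwa [brauerOmega_eq]⟩
    rw [show omega (η : CG[R] → ℂ) v * (omega (η : CG[R] → ℂ) v - 1) =
      omega (η : CG[R] → ℂ) (conv v v - v) by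
      rw [omega_sub, omega_conv η.2 hvc hvc]; ring,
      omega_eq_sum_classes (Char.isClassFunction_of_isIrr η.2) (fun x k => by
        simp only [Pi.sub_apply, hvc x k, isClassFunction_conv hvc hvc x k])]
    exact memLocalIdeal_sum hM _ fun D _ => memLocalIdeal_mul_right hM (hvidem _)
      (memLocalRing_centralChar hM η.2 _)
  have h0 : ∀ x, Cfsg.blockCoeff (∅ : Set (Cfsg.IrrCharacter CG[R])) x = 0 := fun x => by
    simp [Cfsg.blockCoeff]
  have := memLocalIdeal_sub_blockCoeff hM hvc (fun a => hβR a) hvidem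
    (fun x => by rw [h0]; exact (localRing hM).zero_mem) (fun η => by convert hω η) ⟨y, hy⟩
  rw [h0, sub_zero] at this
  exact hyu this

/-- A stable block whose idempotent is a unit on the centralizer of a larger p-group has a
pair above it. -/
theorem exists_normalSubpair_above (hM : Cfsg.IsPModular p M) {P R : Subgroup G}
    {f : Set (Cfsg.IrrCharacter CG[P])} (hf : Cfsg.IsPBlock M f) (hPR : P ≤ R)
    (hR : IsPGroup p R) (hRN : R ≤ Subgroup.normalizer (P : Set G))
    (hinv : IsInv (R : Set G) (sbc CG[P] f)) {y : G} (hy : y ∈ CG[R])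
    (hyu : ¬ Cfsg.MemLocalIdeal M (sbc CG[P] f y)) :
    ∃ g : Set (Cfsg.IrrCharacter CG[R]), Cfsg.IsNormalSubpair p M P f R g := by
  classical
  have := Fintype.ofFinite G
  letI := Fintype.ofFinite CG[R]
  obtain ⟨η, hη⟩ := exists_omega_one hM hR hinv (isInv_sbc_centralizer hPR f)
    (memLocalRing_sbc hM hf) (conv_sbc_self f) hy hyu
  refine ⟨Cfsg.blockOf M (η : CG[R] → ℂ), ⟨hR.to_le hPR, hf⟩, ⟨hR, isPBlock_blockOf η⟩, hPR,
    hRN, stabilizes_of_isInv hM hRN hf hinv, fun η' hη' => ?_⟩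
  have := memLocalIdeal_add hM (brauerOmega_sameBlock hM (isInv_sbc_centralizer hPR f)
    (memLocalRing_sbc hM hf) (isPBlock_blockOf η) hη' (mem_blockOf_self hM η)) hη
  simpa using this

theorem eq_of_normalSubpair_of_maximal (hM : Cfsg.IsPModular p M) {B : Set (Cfsg.IrrCharacter G)}
    {P R : Subgroup G} {e : Set (Cfsg.IrrCharacter CG[P])} {g : Set (Cfsg.IrrCharacter CG[R])}
    (hmax : Cfsg.IsMaximalBrauerPair p M B P e) (h : Cfsg.IsNormalSubpair p M P e R g) : R = P :=
  hmax.2 R g (isBrauerPairOf_of_normal hM h hmax.1) (Relation.ReflTransGen.single h)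

/-- Conjugation on the blocks of `C(P)`. -/
noncomputable def blockAct (M : Ideal Cfsg.AlgInt) {P R : Subgroup G}
    (hR : R ≤ Subgroup.normalizer (P : Set G)) : MulAction R (PBlock M CG[P]) where
  smul x f := ⟨mapBlock (BlockChar.conjIso CG[P] CG[P] x
      (mem_centralizer_iff_of_mem_normalizer (hR x.2))) f.1, isPBlock_mapBlock _ f.2⟩
  one_smul f := Subtype.ext (sbc_injective (funext fun g => by
    show sbc CG[P] (mapBlock _ f.1) g = _
    rw [sbc_mapBlock]; simp))
  mul_smul x y f := Subtype.ext (sbc_injective (funext fun g => by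
    show sbc CG[P] (mapBlock _ f.1) g = sbc CG[P] (mapBlock _ (mapBlock _ f.1)) g
    rw [sbc_mapBlock, sbc_mapBlock, sbc_mapBlock]
    simp [mul_assoc]))

theorem sbc_blockAct {P R : Subgroup G} (hR : R ≤ Subgroup.normalizer (P : Set G)) (x : R)
    (f : PBlock M CG[P]) (g : G) :
    sbc CG[P] ((blockAct M hR).smul x f).1 g = sbc CG[P] f.1 ((x : G)⁻¹ * g * x) :=
  sbc_mapBlock _ _ _ _ _ g

/-- `f` is conjugate to `e` under the normalizer of `P`. -/
def InOrb (P : Subgroup G) (e f : Set (Cfsg.IrrCharacter CG[P])) : Prop :=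
  ∃ n ∈ Subgroup.normalizer (P : Set G), ∀ g, sbc CG[P] f g = sbc CG[P] e (n⁻¹ * g * n)

theorem inOrb_iff_conjPair {P : Subgroup G} {e f : Set (Cfsg.IrrCharacter CG[P])} :
    InOrb P e f ↔ ∃ n, (⟨P, f⟩ : Cfsg.BrauerPairIdx G) = conjPair n ⟨P, e⟩ := by
  constructor
  · rintro ⟨n, hn, h⟩
    refine ⟨n, idx_ext (map_conj_eq hn).symm fun g => ?_⟩
    rw [sbc_conjPair]
    exact h g
  · rintro ⟨n, hn⟩
    have hPn : P = P.map (MulAut.conj n).toMonoidHom := congrArg Sigma.fst hn
    refine ⟨n, Subgroup.mem_normalizer_iff.2 fun x => ⟨fun hx => ?_, fun hx => ?_⟩, fun g => ?_⟩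
    · rw [hPn]; exact ⟨x, hx, rfl⟩
    · rw [hPn] at hx
      obtain ⟨q, hq, hqe⟩ := hx
      rwa [← (MulAut.conj n).injective hqe]
    · have h := sbc_conjPair n ⟨P, e⟩ g
      rw [← hn] at h
      exact h

/-- The idempotent of the orbit of `e` under the normalizer of `P`. -/
noncomputable def orbitIdem (M : Ideal Cfsg.AlgInt) (P : Subgroup G)
    (e : Set (Cfsg.IrrCharacter CG[P])) : G → ℂ :=
  open Classical in
  letI := Fintype.ofFinite (PBlock M CG[P])
  ∑ f ∈ Finset.univ.filter (fun f : PBlock M CG[P] => InOrb P e f.1), sbc CG[P] f.1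

variable {P : Subgroup G} {e : Set (Cfsg.IrrCharacter CG[P])}

theorem orbitIdem_support {y : G} (hy : y ∉ CG[P]) : orbitIdem M P e y = 0 := by
  simp only [orbitIdem, Finset.sum_apply]
  exact Finset.sum_eq_zero fun f _ => sbc_of_notMem f.1 hy

theorem memLocalRing_orbitIdem (hM : Cfsg.IsPModular p M) (y : G) :
    Cfsg.MemLocalRing M (orbitIdem M P e y) := by
  simp only [orbitIdem, Finset.sum_apply]
  exact (localRing hM).sum_mem fun f _ => memLocalRing_sbc hM f.2 y

theorem isInv_orbitIdem_centralizer : IsInv (CG[P] : Set G) (orbitIdem M P e) := fun k hk x => by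
  simp only [orbitIdem, Finset.sum_apply]
  exact Finset.sum_congr rfl fun f _ => isInv_sbc f.1 k hk x

theorem isInv_orbitIdem_normalizer :
    IsInv (Subgroup.normalizer (P : Set G) : Set G) (orbitIdem M P e) := by
  classical
  intro k hk x
  simp only [orbitIdem, Finset.sum_apply]
  letI := blockAct M (le_refl (Subgroup.normalizer (P : Set G)))
  let kN : Subgroup.normalizer (P : Set G) := ⟨k, hk⟩
  refine (Finset.sum_equiv (MulAction.toPerm kN) (fun f => ?_) fun f _ => ?_).symm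
  · simp only [Finset.mem_filter, Finset.mem_univ, true_and, MulAction.toPerm_apply]
    constructor
    · rintro ⟨n, hn, h⟩
      refine ⟨k * n, mul_mem hk hn, fun g => ?_⟩
      show sbc CG[P] ((blockAct M le_rfl).smul kN f).1 g = _
      rw [sbc_blockAct, h]
      congr 1
      simp only [kN]
      group
    · rintro ⟨n, hn, h⟩
      refine ⟨k⁻¹ * n, mul_mem (inv_mem hk) hn, fun g => ?_⟩
      have h1 := h (k * g * k⁻¹)
      rw [show sbc CG[P] ((kN • f).1) (k * g * k⁻¹) =
        sbc CG[P] f.1 (k⁻¹ * (k * g * k⁻¹) * k) from sbc_blockAct le_rfl kN f _] at h1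
      rw [show k⁻¹ * (k * g * k⁻¹) * k = g by group] at h1
      rw [h1]
      congr 1
      group
  · rw [MulAction.toPerm_apply]
    show sbc CG[P] f.1 x = sbc CG[P] ((blockAct M le_rfl).smul kN f).1 (k * x * k⁻¹)
    rw [sbc_blockAct]
    congr 1
    simp only [kN]
    group

open scoped Classical in
theorem brauerOmega_orbitIdem (hM : Cfsg.IsPModular p M) [Fintype CG[P]]
    (ξ : Cfsg.IrrCharacter CG[P]) :
    Cfsg.brauerOmega P (orbitIdem M P e) (ξ : CG[P] → ℂ) =
      if InOrb P e (Cfsg.blockOf M (ξ : CG[P] → ℂ)) then 1 else 0 := by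
  simp only [orbitIdem, brauerOmega_sum]
  have key : ∀ f : PBlock M CG[P], Cfsg.brauerOmega P (sbc CG[P] f.1) (ξ : CG[P] → ℂ) =
      if ξ ∈ f.1 then 1 else 0 := fun f => by
    rw [brauerOmega_eq]
    simp only [sbc_apply]
    rw [omega_blockCoeff]
  simp only [key]
  rw [Finset.sum_boole]
  split_ifs with h
  · rw [Finset.card_eq_one.2 ⟨⟨_, isPBlock_blockOf ξ⟩, Finset.ext fun f => ?_⟩, Nat.cast_one]
    simp only [Finset.mem_filter, Finset.mem_univ, true_and, Finset.mem_singleton]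
    exact ⟨fun hf => Subtype.ext (IsPBlock.eq_blockOf hM f.2 hf.2), fun hf => by
      subst hf; exact ⟨h, mem_blockOf_self hM ξ⟩⟩
  · rw [Finset.card_eq_zero.2 (Finset.eq_empty_of_forall_notMem fun f hf => ?_), Nat.cast_zero]
    simp only [Finset.mem_filter, Finset.mem_univ, true_and] at hf
    exact h (IsPBlock.eq_blockOf hM f.2 hf.2 ▸ hf.1)

variable {B : Set (Cfsg.IrrCharacter G)}

/-- Where the orbit idempotent of a maximal pair is a unit, `P` is a Sylow subgroup of the
centralizer. -/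
theorem isSylC_of_unit (hM : Cfsg.IsPModular p M) (hmax : Cfsg.IsMaximalBrauerPair p M B P e)
    {y : G} (hy : ¬ Cfsg.MemLocalIdeal M (orbitIdem M P e y)) : DefectThms.IsSylC p y P := by
  classical
  haveI := Fact.mk hM.1
  have hyC : y ∈ CG[P] := by
    by_contra h
    rw [orbitIdem_support h] at hy
    exact hy (memLocalIdeal_zero hM)
  have hPy : P ≤ Subgroup.centralizer ({y} : Set G) := fun q hq =>
    Subgroup.mem_centralizer_singleton_iff.2 (Subgroup.mem_centralizer_iff.1 hyC q hq)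
  obtain ⟨S, hS, hPS⟩ := DefectThms.exists_le_isSylC hmax.1.1.1 hPy
  by_cases hSP : S = P
  · exact hSP ▸ hS
  exfalso
  set R := S ⊓ Subgroup.normalizer (P : Set G)
  have hPR : P < R := lt_of_le_of_ne (le_inf hPS Subgroup.le_normalizer) fun h =>
    hSP (Embedded.eq_of_normalizer_inf_le hS.2.1 hPS h.ge).symm
  have hR : IsPGroup p R := hS.2.1.to_le inf_le_left
  have hRN : R ≤ Subgroup.normalizer (P : Set G) := inf_le_right
  have hyR : y ∈ CG[R] := BlockThms.mem_centralizer_of_le (inf_le_left.trans hS.1)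
  letI := blockAct M hRN
  letI := Fintype.ofFinite (PBlock M CG[P])
  let φ : PBlock M CG[P] → ℂ := fun f => if InOrb P e f.1 then sbc CG[P] f.1 y else 0
  have hφR : ∀ f, Cfsg.MemLocalRing M (φ f) := fun f => by
    simp only [φ]
    split_ifs
    · exact memLocalRing_sbc hM f.2 y
    · exact (localRing hM).zero_mem
  have hφinv : ∀ (x : R) f, φ (x • f) = φ f := fun x f => by
    have h1 : ∀ g, sbc CG[P] (x • f).1 g = sbc CG[P] f.1 ((x : G)⁻¹ * g * x) := fun g =>
      sbc_blockAct hRN x f g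
    have h2 : InOrb P e (x • f).1 ↔ InOrb P e f.1 := by
      constructor
      · rintro ⟨n, hn, h⟩
        refine ⟨(x : G)⁻¹ * n, mul_mem (inv_mem (hRN x.2)) hn, fun g => ?_⟩
        have h3 := h ((x : G) * g * (x : G)⁻¹)
        rw [h1, show (x : G)⁻¹ * ((x : G) * g * (x : G)⁻¹) * x = g by group] at h3
        rw [h3]
        congr 1
        group
      · rintro ⟨n, hn, h⟩
        refine ⟨(x : G) * n, mul_mem (hRN x.2) hn, fun g => ?_⟩
        rw [h1, h]
        congr 1
        group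
    have hxy : sbc CG[P] (x • f).1 y = sbc CG[P] f.1 y := by
      rw [h1, mul_assoc, ← Subgroup.mem_centralizer_iff.1 hyR x x.2, inv_mul_cancel_left]
    simp only [φ, h2, hxy]
  have hsum : ∑ f, φ f = orbitIdem M P e y := by
    simp only [φ, ← Finset.sum_filter, orbitIdem, Finset.sum_apply]
  obtain ⟨f, hffix, hfu⟩ : ∃ f ∈ MulAction.fixedPoints R (PBlock M CG[P]),
      ¬ Cfsg.MemLocalIdeal M (φ f) := by
    by_contra hno
    have h := memLocalIdeal_sum_sub_fixed hM hR φ hφR hφinv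
    rw [hsum] at h
    refine hy ?_
    have := memLocalIdeal_add hM h (memLocalIdeal_sum hM
      (Finset.univ.filter (· ∈ MulAction.fixedPoints R (PBlock M CG[P]))) fun f hf =>
        not_not.1 fun h' => hno ⟨f, (Finset.mem_filter.1 hf).2, h'⟩)
    simpa using this
  have hinv : IsInv (R : Set G) (sbc CG[P] f.1) := fun k hk g => by
    have h1 := sbc_blockAct hRN ⟨k, hk⟩ f (k * g * k⁻¹)
    rw [show (blockAct M hRN).smul ⟨k, hk⟩ f = f from hffix ⟨k, hk⟩] at h1
    rwa [show k⁻¹ * (k * g * k⁻¹) * k = g by group] at h1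
  simp only [φ] at hfu
  by_cases horb : InOrb P e f.1
  swap
  · rw [if_neg horb] at hfu; exact hfu (memLocalIdeal_zero hM)
  rw [if_pos horb] at hfu
  obtain ⟨g, hg⟩ := exists_normalSubpair_above hM f.2 hPR.le hR hRN hinv hyR hfu
  obtain ⟨n, hn⟩ := inOrb_iff_conjPair.1 horb
  have hfmax := maximal_conjPair hM (a := ⟨P, e⟩) hmax n
  rw [← hn] at hfmax
  exact hPR.ne (eq_of_normalSubpair_of_maximal hM hfmax hg).symm

/-- The orbit idempotent of a maximal pair is constant on the conjugates in `C(P)` of a point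
where it is a unit. -/
theorem orbitIdem_conj (hM : Cfsg.IsPModular p M) (hmax : Cfsg.IsMaximalBrauerPair p M B P e)
    {y : G} (hy : ¬ Cfsg.MemLocalIdeal M (orbitIdem M P e y)) {t : G}
    (ht : t * y * t⁻¹ ∈ CG[P]) : orbitIdem M P e (t * y * t⁻¹) = orbitIdem M P e y := by
  haveI := Fact.mk hM.1
  have hP := isSylC_of_unit hM hmax hy
  have hP1 := hP.conj t
  have hle : P ≤ Subgroup.centralizer ({t * y * t⁻¹} : Set G) := fun q hq =>
    Subgroup.mem_centralizer_singleton_iff.2 (Subgroup.mem_centralizer_iff.1 ht q hq)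
  obtain ⟨c, hc, hcle⟩ := hP1.exists_conj_le hmax.1.1.1 hle
  have heq : P.map (MulAut.conj c).toMonoidHom = P.map (MulAut.conj t).toMonoidHom :=
    Subgroup.eq_of_le_of_card_ge hcle (le_of_eq (by
      rw [DefectThms.card_map_conj, DefectThms.card_map_conj]))
  have hn : c⁻¹ * t ∈ Subgroup.normalizer (P : Set G) := by
    have h2 : P.map (MulAut.conj (c⁻¹ * t)).toMonoidHom = P := by
      rw [← DefectThms.map_conj_map_conj, ← heq, DefectThms.map_conj_map_conj, inv_mul_cancel,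
        DefectThms.map_conj_one]
    refine Subgroup.mem_normalizer_iff.2 fun x => ⟨fun hx => ?_, fun hx => ?_⟩
    · rw [← h2]; exact ⟨x, hx, rfl⟩
    · rw [← h2] at hx
      obtain ⟨q, hq, hqe⟩ := hx
      rwa [← (MulAut.conj (c⁻¹ * t)).injective hqe]
  have hfix : c⁻¹ * (t * y * t⁻¹) * c = t * y * t⁻¹ := by
    rw [mul_assoc, ← Subgroup.mem_centralizer_singleton_iff.1 hc, inv_mul_cancel_left]
  have h := isInv_orbitIdem_normalizer (M := M) (e := e) (c⁻¹ * t) hn y
  rwa [show c⁻¹ * t * y * (c⁻¹ * t)⁻¹ = c⁻¹ * (t * y * t⁻¹) * c by group, hfix] at h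

/-- The class function of `G` whose Brauer image at `P` is the orbit idempotent. -/
theorem exists_lift (hM : Cfsg.IsPModular p M) (hmax : Cfsg.IsMaximalBrauerPair p M B P e) :
    ∃ w : G → ℂ, Cfsg.IsClassFunction G w ∧ (∀ x, Cfsg.MemLocalRing M (w x)) ∧
      (∀ x ∈ CG[P], Cfsg.MemLocalIdeal M (w x - orbitIdem M P e x)) ∧
      ∀ x, ¬ Cfsg.MemLocalIdeal M (w x) →
        ∃ k : G, DefectThms.IsSylC p (k * x * k⁻¹) P := by
  classical
  let w : G → ℂ := fun x =>
    if h : ∃ k : G, ¬ Cfsg.MemLocalIdeal M (orbitIdem M P e (k * x * k⁻¹))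
      then orbitIdem M P e (h.choose * x * h.choose⁻¹) else 0
  have hmem : ∀ {z : G}, ¬ Cfsg.MemLocalIdeal M (orbitIdem M P e z) → z ∈ CG[P] := fun {z} hz => by
    by_contra h
    rw [orbitIdem_support h] at hz
    exact hz (memLocalIdeal_zero hM)
  have hval : ∀ x k, k * x * k⁻¹ ∈ CG[P] →
      (∃ k : G, ¬ Cfsg.MemLocalIdeal M (orbitIdem M P e (k * x * k⁻¹))) →
        w x = orbitIdem M P e (k * x * k⁻¹) := by
    intro x k hk h
    simp only [w, dif_pos h]
    generalize hj : h.choose = j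
    have hju : ¬ Cfsg.MemLocalIdeal M (orbitIdem M P e (j * x * j⁻¹)) := hj ▸ h.choose_spec
    have := orbitIdem_conj hM hmax hju (t := k * j⁻¹)
      (by rwa [show k * j⁻¹ * (j * x * j⁻¹) * (k * j⁻¹)⁻¹ = k * x * k⁻¹ by group])
    rw [show k * j⁻¹ * (j * x * j⁻¹) * (k * j⁻¹)⁻¹ = k * x * k⁻¹ by group] at this
    exact this.symm
  refine ⟨w, fun x g => ?_, fun x => ?_, fun x hx => ?_, fun x hx => ?_⟩
  · by_cases h : ∃ k : G, ¬ Cfsg.MemLocalIdeal M (orbitIdem M P e (k * x * k⁻¹))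
    · obtain ⟨k, hk⟩ := h
      rw [hval x k (hmem hk) ⟨k, hk⟩]
      have e1 : k * g⁻¹ * (g * x * g⁻¹) * (k * g⁻¹)⁻¹ = k * x * k⁻¹ := by group
      rw [hval (g * x * g⁻¹) (k * g⁻¹) (by rw [e1]; exact hmem hk) ⟨k * g⁻¹, by rwa [e1]⟩, e1]
    · have h' : ¬ ∃ k : G,
          ¬ Cfsg.MemLocalIdeal M (orbitIdem M P e (k * (g * x * g⁻¹) * k⁻¹)) := by
        rintro ⟨k, hk⟩
        exact h ⟨k * g, by rwa [show k * g * x * (k * g)⁻¹ = k * (g * x * g⁻¹) * k⁻¹ by group]⟩
      simp only [w, dif_neg h, dif_neg h']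
  · simp only [w]
    split_ifs
    · exact memLocalRing_orbitIdem hM _
    · exact (localRing hM).zero_mem
  · by_cases h : ∃ k : G, ¬ Cfsg.MemLocalIdeal M (orbitIdem M P e (k * x * k⁻¹))
    · rw [hval x 1 (by simpa using hx) h]
      simpa using memLocalIdeal_zero hM
    · simp only [w, dif_neg h, zero_sub]
      refine memLocalIdeal_neg (not_not.1 fun hn => h ⟨1, by simpa using hn⟩)
  · by_cases h : ∃ k : G, ¬ Cfsg.MemLocalIdeal M (orbitIdem M P e (k * x * k⁻¹))
    · obtain ⟨k, hk⟩ := h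
      exact ⟨k, isSylC_of_unit hM hmax hk⟩
    · simp only [w, dif_neg h] at hx
      exact absurd (memLocalIdeal_zero hM) hx

/-- On class functions the Brauer map followed by the central character of a pair of `B` is the
central character of `B`. -/
theorem omega_link (hM : Cfsg.IsPModular p M) [Fintype G] {Q : Subgroup G}
    [Fintype CG[Q]] {h : Set (Cfsg.IrrCharacter CG[Q])} (hQh : Cfsg.IsBrauerPairOf p M B Q h)
    {η : Cfsg.IrrCharacter CG[Q]} (hη : η ∈ h) {χ : Cfsg.IrrCharacter G} (hχ : χ ∈ B)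
    {z : G → ℂ} (hz : Cfsg.IsClassFunction G z) (hzR : ∀ x, Cfsg.MemLocalRing M (z x)) :
    Cfsg.MemLocalIdeal M (Cfsg.brauerOmega Q z (η : CG[Q] → ℂ) - omega (χ : G → ℂ) z) := by
  classical
  obtain ⟨χ₀, hχ₀⟩ := (isCenHom_res hM hQh.1.1 (mem_centralizer_iff_forall Q) η).exists_char hM
  have hmem : χ₀ ∈ B := by
    by_contra hn
    have h1 := hχ₀ _ (isClassFunction_blockCoeff B) (memLocalRing_blockCoeff hM hQh.2.1)
    rw [omega_blockCoeff, if_neg hn, sub_zero, ← brauerOmega_eq] at h1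
    exact not_memLocalIdeal_one hM (by simpa using memLocalIdeal_sub hM h1 (hQh.2.2 η hη))
  have := memLocalIdeal_add hM (hχ₀ z hz hzR)
    (memLocalIdeal_omega_sub hM χ₀.2 χ.2 hz hzR (IsPBlock.sameBlock hM hQh.2.1 hmem hχ))
  rw [← brauerOmega_eq] at this
  simpa using this

theorem brauerOmega_lift (hM : Cfsg.IsPModular p M) (hmax : Cfsg.IsMaximalBrauerPair p M B P e)
    {Q : Subgroup G} [Fintype CG[Q]] {h : Set (Cfsg.IrrCharacter CG[Q])}
    (hQh : Cfsg.IsBrauerPairOf p M B Q h) {η : Cfsg.IrrCharacter CG[Q]} (hη : η ∈ h)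
    {w : G → ℂ} (hw : Cfsg.IsClassFunction G w) (hwR : ∀ x, Cfsg.MemLocalRing M (w x))
    (hwP : ∀ x ∈ CG[P], Cfsg.MemLocalIdeal M (w x - orbitIdem M P e x)) :
    Cfsg.MemLocalIdeal M (Cfsg.brauerOmega Q w (η : CG[Q] → ℂ) - 1) := by
  classical
  have := Fintype.ofFinite G
  letI := Fintype.ofFinite CG[P]
  obtain ⟨ξ, hξ⟩ := IsPBlock.nonempty hM hmax.1.1.2
  obtain ⟨χ, hχ⟩ := IsPBlock.nonempty hM hQh.2.1
  have h1 := brauerOmega_congr hM (P := P) (IsInv.of_isClassFunction hw _)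
    isInv_orbitIdem_centralizer hwP ξ
  rw [brauerOmega_orbitIdem hM ξ, if_pos (by
    rw [← IsPBlock.eq_blockOf hM hmax.1.1.2 hξ]
    exact ⟨1, one_mem _, fun g => by simp⟩)] at h1
  have h2 := omega_link hM hmax.1 hξ hχ hw hwR
  have h3 := omega_link hM hQh hη hχ hw hwR
  have := memLocalIdeal_add hM (memLocalIdeal_sub hM h3 h2) h1
  simpa using this

/-- Every pair of `B` has its subgroup conjugate into that of a maximal pair. -/
theorem exists_conj_le_maximal (hM : Cfsg.IsPModular p M)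
    (hmax : Cfsg.IsMaximalBrauerPair p M B P e) {Q : Subgroup G}
    {h : Set (Cfsg.IrrCharacter CG[Q])} (hQh : Cfsg.IsBrauerPairOf p M B Q h) :
    ∃ x : G, Q.map (MulAut.conj x).toMonoidHom ≤ P := by
  classical
  haveI := Fact.mk hM.1
  letI := Fintype.ofFinite CG[Q]
  obtain ⟨w, hw, hwR, hwP, hwu⟩ := exists_lift hM hmax
  obtain ⟨η, hη⟩ := IsPBlock.nonempty hM hQh.1.2
  have h1 := brauerOmega_lift hM hmax hQh hη hw hwR hwP
  obtain ⟨y, hyQ, hy⟩ : ∃ y ∈ CG[Q], ¬ Cfsg.MemLocalIdeal M (w y) := by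
    by_contra hno
    have h2 := brauerOmega_congr hM (P := Q) (IsInv.of_isClassFunction hw _)
      (fun _ _ _ => rfl : IsInv _ (0 : G → ℂ))
      (fun x hx => by
        simpa using not_not.1 fun h' => hno ⟨x, hx, h'⟩) η
    rw [show Cfsg.brauerOmega Q (0 : G → ℂ) (η : CG[Q] → ℂ) = 0 by
      simp [brauerOmega_eq, omega], sub_zero] at h2
    exact not_memLocalIdeal_one hM (by simpa using memLocalIdeal_sub hM h2 h1)
  obtain ⟨k, hk⟩ := hwu y hy
  have hle : Q ≤ Subgroup.centralizer ({y} : Set G) := fun q hq =>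
    Subgroup.mem_centralizer_singleton_iff.2 (Subgroup.mem_centralizer_iff.1 hyQ q hq)
  obtain ⟨c, -, hc⟩ := hk.exists_conj_le (hQh.1.1.map _) (DefectThms.map_conj_le_centralizer hle k)
  exact ⟨c * k, by rwa [DefectThms.map_conj_map_conj] at hc⟩

/-- The pairs of `B` on the subgroup of a maximal pair are conjugate under the normalizer. -/
theorem inOrb_of_pair (hM : Cfsg.IsPModular p M) (hmax : Cfsg.IsMaximalBrauerPair p M B P e)
    {h : Set (Cfsg.IrrCharacter CG[P])} (hPh : Cfsg.IsBrauerPairOf p M B P h) : InOrb P e h := by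
  classical
  letI := Fintype.ofFinite CG[P]
  obtain ⟨w, hw, hwR, hwP, -⟩ := exists_lift hM hmax
  obtain ⟨η, hη⟩ := IsPBlock.nonempty hM hPh.1.2
  have h1 := brauerOmega_lift hM hmax hPh hη hw hwR hwP
  have h2 := brauerOmega_congr hM (P := P) (IsInv.of_isClassFunction hw _)
    isInv_orbitIdem_centralizer hwP η
  rw [brauerOmega_orbitIdem hM η, ← IsPBlock.eq_blockOf hM hPh.1.2 hη] at h2
  by_contra hn
  rw [if_neg hn, sub_zero] at h2
  exact not_memLocalIdeal_one hM (by simpa using memLocalIdeal_sub hM h2 h1)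

/-- The subgroup of a maximal pair is a defect group. -/
theorem isDefectGroup_of_maximal (hM : Cfsg.IsPModular p M)
    (hmax : Cfsg.IsMaximalBrauerPair p M B P e) : Cfsg.IsDefectGroup p M B P := by
  classical
  haveI := Fact.mk hM.1
  have := Fintype.ofFinite G
  have hB := hmax.1.2.1
  have hclass := isClassFunction_blockCoeff B
  have hloc := memLocalRing_blockCoeff hM hB
  obtain ⟨g, hg⟩ := exists_isDefectClass hM hB
  obtain ⟨D, hD⟩ := DefectThms.exists_isSylC p g
  have hgD : g ∈ CG[D] := BlockThms.mem_centralizer_of_le hD.1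
  letI := Fintype.ofFinite CG[D]
  obtain ⟨η, hη⟩ := exists_omega_one hM hD.2.1 (IsInv.of_isClassFunction hclass _)
    (IsInv.of_isClassFunction hclass _) hloc (blockCoeff_conv B) hgD hg.2.1
  have hpair : Cfsg.IsBrauerPairOf p M B D (Cfsg.blockOf M (η : CG[D] → ℂ)) :=
    memLocalIdeal_brauerOmega_block hM hD.2.1 (isPBlock_blockOf η) hB
      (mem_blockOf_self hM η) hη
  obtain ⟨x, hx⟩ := exists_conj_le_maximal hM hmax hpair
  letI := Fintype.ofFinite CG[P]
  obtain ⟨ξ, hξ⟩ := IsPBlock.nonempty hM hmax.1.1.2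
  obtain ⟨y, hyP, hy⟩ : ∃ y ∈ CG[P], ¬ Cfsg.MemLocalIdeal M (Cfsg.blockCoeff B y) := by
    by_contra hno
    have h2 := brauerOmega_congr hM (P := P) (IsInv.of_isClassFunction hclass _)
      (fun _ _ _ => rfl : IsInv _ (0 : G → ℂ))
      (fun x hx => by
        simpa using not_not.1 fun h' => hno ⟨x, hx, h'⟩) ξ
    rw [show Cfsg.brauerOmega P (0 : G → ℂ) (ξ : CG[P] → ℂ) = 0 by
      simp [brauerOmega_eq, omega], sub_zero] at h2
    exact not_memLocalIdeal_one hM (by simpa using memLocalIdeal_sub hM h2 (hmax.1.2.2 ξ hξ))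
  have hle : P ≤ Subgroup.centralizer ({y} : Set G) := fun q hq =>
    Subgroup.mem_centralizer_singleton_iff.2 (Subgroup.mem_centralizer_iff.1 hyP q hq)
  obtain ⟨S, hS, hPS⟩ := DefectThms.exists_le_isSylC hmax.1.1.1 hle
  obtain ⟨k, hk⟩ := DefectThms.exists_conj_le_of_unit_coeff hM hB hg hD hy hS
  have heq : D.map (MulAut.conj x).toMonoidHom = P := by
    refine Subgroup.eq_of_le_of_card_ge hx ?_
    rw [DefectThms.card_map_conj]
    calc Nat.card P ≤ Nat.card S := Subgroup.card_le_of_le hPS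
      _ = Nat.card (S.map (MulAut.conj k).toMonoidHom) := (DefectThms.card_map_conj S k).symm
      _ ≤ Nat.card D := Subgroup.card_le_of_le hk
  exact heq ▸ DefectThms.isDefectGroup_conj (DefectThms.isDefectGroup_iff.2 ⟨g, hg, hD⟩) x

/-- Above every pair of `B` lies a maximal one. -/
theorem exists_maximal_above (hM : Cfsg.IsPModular p M) {Q : Subgroup G}
    {f : Set (Cfsg.IrrCharacter CG[Q])} (hQf : Cfsg.IsBrauerPairOf p M B Q f) :
    ∃ a : Cfsg.BrauerPairIdx G, Cfsg.IsMaximalBrauerPair p M B a.1 a.2 ∧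
      Cfsg.SubpairLE p M Q f a.1 a.2 := by
  suffices ∀ (n : ℕ) (a : Cfsg.BrauerPairIdx G), Nat.card G ≤ n + Nat.card a.1 →
      Cfsg.IsBrauerPairOf p M B a.1 a.2 → Cfsg.SubpairLE p M Q f a.1 a.2 →
      ∃ b : Cfsg.BrauerPairIdx G, Cfsg.IsMaximalBrauerPair p M B b.1 b.2 ∧
        Cfsg.SubpairLE p M Q f b.1 b.2 from
    this (Nat.card G) ⟨Q, f⟩ (Nat.le_add_right _ _) hQf Relation.ReflTransGen.refl
  intro n
  induction n using Nat.strong_induction_on with
  | _ n ih =>
  intro a hn ha hle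
  by_cases hm : Cfsg.IsMaximalBrauerPair p M B a.1 a.2
  · exact ⟨a, hm, hle⟩
  obtain ⟨R, g, hR, hleR, hne⟩ : ∃ (R : Subgroup G) (g : Set (Cfsg.IrrCharacter CG[R])),
      Cfsg.IsBrauerPairOf p M B R g ∧ Cfsg.SubpairLE p M a.1 a.2 R g ∧ R ≠ a.1 := by
    by_contra hno
    exact hm ⟨ha, fun R g h1 h2 => not_not.1 fun h3 => hno ⟨R, g, h1, h2, h3⟩⟩
  have hlt : Nat.card a.1 < Nat.card R := by
    by_contra hcon
    exact hne (Subgroup.eq_of_le_of_card_ge (BlockChar.le_of_subpairLE hleR) (not_lt.1 hcon)).symm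
  have hRG : Nat.card R ≤ Nat.card G := Subgroup.card_le_card_group _
  exact ih (Nat.card G - Nat.card R) (by omega) ⟨R, g⟩
    (by show Nat.card G ≤ Nat.card G - Nat.card R + Nat.card R; omega) hR (hle.trans hleR)

/-- Every pair of `B` is conjugate below a given maximal pair. -/
theorem exists_conj_subpairLE (hM : Cfsg.IsPModular p M)
    (hmax : Cfsg.IsMaximalBrauerPair p M B P e) {Q : Subgroup G}
    {f : Set (Cfsg.IrrCharacter CG[Q])} (hQf : Cfsg.IsBrauerPairOf p M B Q f) :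
    ∃ x : G, Cfsg.SubpairLE p M (Q.map (MulAut.conj x).toMonoidHom) (Cfsg.conjBlock Q x f) P e := by
  obtain ⟨a, ha, hle⟩ := exists_maximal_above hM hQf
  obtain ⟨x, hx⟩ := exists_conj_le_maximal hM hmax ha.1
  obtain ⟨y, hy⟩ := exists_conj_le_maximal hM ha hmax.1
  have heq : a.1.map (MulAut.conj x).toMonoidHom = P := by
    refine Subgroup.eq_of_le_of_card_ge hx ?_
    calc Nat.card P = Nat.card (P.map (MulAut.conj y).toMonoidHom) :=
        (DefectThms.card_map_conj P y).symm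
      _ ≤ Nat.card a.1 := Subgroup.card_le_of_le hy
      _ = _ := (DefectThms.card_map_conj a.1 x).symm
  obtain ⟨A, h⟩ := a
  dsimp only at ha hle heq hx hy
  subst heq
  obtain ⟨n, hn⟩ := inOrb_iff_conjPair.1
    (inOrb_of_pair hM hmax (h := Cfsg.conjBlock A x h) (isBrauerPairOf_conj hM ha.1 x))
  have h1 := le_conjPair hM (a := ⟨Q, f⟩) (b := ⟨A, h⟩) hle (n⁻¹ * x)
  rw [← conjPair_conjPair x n⁻¹ ⟨A, h⟩,
    show conjPair x ⟨A, h⟩ = conjPair n ⟨A.map (MulAut.conj x).toMonoidHom, e⟩ from hn,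
    conjPair_conjPair, inv_mul_cancel, conjPair_one] at h1
  exact ⟨n⁻¹ * x, h1⟩

end Cfsg.Agent.BrauerPairs
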