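import Cfsg.Agent.BrauerPairs.Saturation
import Cfsg.Agent.FusSys.Inner

/-!
# Nilpotent blocks and their fusion systems
-/

namespace Cfsg.Agent.BrauerPairs

open Cfsg.Agent Cfsg.Agent.Blocks

universe u

variable {G : Type u} [Group G] [Finite G] {p : ℕ} {M : Ideal Cfsg.AlgInt}

local notation "CG[" Q "]" => Subgroup.centralizer (SetLike.coe Q)
local notation "sbc" => Cfsg.subgroupBlockCoeff

/-- The stabilizer of a pair. -/
theorem conjPair_eq_iff (hM : Cfsg.IsPModular p M) {Q : Subgroup G}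
    {f : Set (Cfsg.IrrCharacter CG[Q])} (hf : Cfsg.IsPBlock M f) (x : G) :
    conjPair x ⟨Q, f⟩ = ⟨Q, f⟩ ↔
      x ∈ Subgroup.normalizer (Q : Set G) ∧ Cfsg.StabilizesBlock CG[Q] f x := by
  constructor
  · intro h
    have himg : Q.map (MulAut.conj x).toMonoidHom = Q := congrArg Sigma.fst h
    have hx : x ∈ Subgroup.normalizer (Q : Set G) :=
      Subgroup.mem_normalizer_iff.2 fun q => ⟨fun hq => himg ▸ ⟨q, hq, rfl⟩, fun hq => by
        rw [← himg] at hq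
        obtain ⟨r, hr, hre⟩ := hq
        rwa [← (MulAut.conj x).injective hre]⟩
    refine ⟨hx, (stabilizesBlock_iff hM hx hf).2 fun k hk y => ?_⟩
    rw [Set.mem_singleton_iff.1 hk]
    have h' := sbc_conjPair x ⟨Q, f⟩ (x * y * x⁻¹)
    rw [h] at h'
    dsimp only at h'
    rw [show x⁻¹ * (x * y * x⁻¹) * x = y by group] at h'
    exact h'
  · rintro ⟨hx, hst⟩
    exact conjPair_self hx fun y => (stabilizesBlock_iff hM hx hf).1 hst x rfl y

theorem conjPair_pow_fixed {a : Cfsg.BrauerPairIdx G} {x : G} (h : conjPair x a = a) (n : ℕ) :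
    conjPair (x ^ n) a = a := by
  induction n with
  | zero => rw [pow_zero, conjPair_one]
  | succ n ih => rw [pow_succ, ← conjPair_conjPair, h, ih]

variable {B : Set (Cfsg.IrrCharacter G)} {P : Subgroup G} {e : Set (Cfsg.IrrCharacter CG[P])}
  {F : Cfsg.FusionSystem P}

/-- An automorphism in the system is induced by the stabilizer of the pair. -/
theorem exists_fixing_of_autGroup (hM : Cfsg.IsPModular p M)
    (hF : Cfsg.IsBlockFusionSystemOn p M B P e F) {Q : Subgroup G} (hQ : Q ≤ P)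
    {f : Set (Cfsg.IrrCharacter CG[Q])} (hf : PairLE p M ⟨Q, f⟩ ⟨P, e⟩) {α : MulAut Q}
    (hα : α ∈ F.autGroup Q) :
    ∃ g : G, conjPair g ⟨Q, f⟩ = ⟨Q, f⟩ ∧ ∀ x ∈ Q, FusSys.apl α x = g * x * g⁻¹ := by
  have hPe := hF.1.1.1
  obtain ⟨-, g, hg, f', hf', hfg⟩ := (mor_blockFusion hF).1 (FusSys.iso_apl hQ hα).mor
  have he : (⟨Q, f'⟩ : Cfsg.BrauerPairIdx G) = ⟨Q, f⟩ := pair_unique hM hPe hf' hf rfl
  rw [he] at hfg
  have himg : Q.map (MulAut.conj g).toMonoidHom = Q := by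
    refine Subgroup.eq_of_le_of_card_ge ?_ (le_of_eq (DefectThms.card_map_conj Q g).symm)
    rintro _ ⟨x, hx, rfl⟩
    show g * x * g⁻¹ ∈ Q
    rw [← hg x hx]
    exact FusSys.apl_mem α hx
  exact ⟨g, pair_unique hM hPe hfg hf himg, hg⟩

/-- If every map is inner, the block is nilpotent. -/
theorem nilpotent_of_hom_eq_inner (hM : Cfsg.IsPModular p M)
    (hF : Cfsg.IsBlockFusionSystemOn p M B P e F)
    (h : ∀ Q : Subgroup G, F.Hom Q ⊆ (Cfsg.innerFusionSystem P).Hom Q) :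
    Cfsg.IsNilpotentBlock p M B := by
  refine ⟨hF.1.1.2.1, fun Q f hQf x hxN hst hreg => ?_⟩
  haveI := Fact.mk hM.1
  obtain ⟨g, hg⟩ := exists_conj_subpairLE hM hF.1 hQf
  set Q' := Q.map (MulAut.conj g).toMonoidHom with hQ'
  have hfix : conjPair x ⟨Q, f⟩ = ⟨Q, f⟩ := (conjPair_eq_iff hM hQf.1.2 x).2 ⟨hxN, hst⟩
  have hfix' : conjPair (g * x * g⁻¹) (conjPair g ⟨Q, f⟩) = conjPair g ⟨Q, f⟩ := by
    rw [conjPair_conjPair, show g * x * g⁻¹ * g = g * x by group, ← conjPair_conjPair, hfix]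
  have hle : PairLE p M (conjPair (g * x * g⁻¹) (conjPair g ⟨Q, f⟩)) ⟨P, e⟩ := by
    rw [hfix']; exact hg
  obtain ⟨φ, hφ, hφv⟩ := (mor_blockFusion hF (φ := fun y => g * x * g⁻¹ * y * (g * x * g⁻¹)⁻¹)).2
    ⟨BlockChar.le_of_subpairLE hg, g * x * g⁻¹, fun y _ => rfl, Cfsg.conjBlock Q g f, hg, hle⟩
  obtain ⟨-, q, hq, hqv⟩ := h Q' hφ
  have hact : ∀ y ∈ Q', g * x * g⁻¹ * y * (g * x * g⁻¹)⁻¹ = q * y * q⁻¹ := fun y hy =>
    (hφv ⟨y, hy⟩).symm.trans (hqv ⟨y, hy⟩)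
  set z := g * x * g⁻¹ with hz
  have hzn : ∀ y ∈ Q', z * y * z⁻¹ ∈ Q' := by
    intro y hy
    obtain ⟨r, hr, rfl⟩ := hy
    refine ⟨x * r * x⁻¹, (Subgroup.mem_normalizer_iff.1 hxN r).1 hr, ?_⟩
    show g * (x * r * x⁻¹) * g⁻¹ = z * (g * r * g⁻¹) * z⁻¹
    rw [hz]; group
  have hmem : ∀ n : ℕ, ∀ y ∈ Q', z ^ n * y * (z ^ n)⁻¹ ∈ Q' ∧
      z ^ n * y * (z ^ n)⁻¹ = q ^ n * y * (q ^ n)⁻¹ := by
    intro n
    induction n with
    | zero => intro y hy; simp [hy]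
    | succ n ih =>
      intro y hy
      obtain ⟨h1, h2⟩ := ih y hy
      refine ⟨?_, ?_⟩
      · rw [pow_succ']
        convert hzn _ h1 using 1
        group
      · calc z ^ (n + 1) * y * (z ^ (n + 1))⁻¹ = z * (z ^ n * y * (z ^ n)⁻¹) * z⁻¹ := by
              rw [pow_succ']; group
          _ = q * (z ^ n * y * (z ^ n)⁻¹) * q⁻¹ := hact _ h1
          _ = q * (q ^ n * y * (q ^ n)⁻¹) * q⁻¹ := by rw [h2]
          _ = q ^ (n + 1) * y * (q ^ (n + 1))⁻¹ := by rw [pow_succ']; group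
  obtain ⟨j, hj⟩ := hF.1.1.1.1 ⟨q, hq⟩
  have hqj : q ^ (p ^ j) = 1 := congrArg Subtype.val hj
  have hxo : orderOf z = orderOf x :=
    orderOf_injective (MulAut.conj g).toMonoidHom (MulAut.conj g).injective x
  have hco : Nat.Coprime (p ^ j) (orderOf z) := by
    rw [hxo]
    exact Nat.Coprime.pow_left j ((hM.1.coprime_iff_not_dvd).2 hreg)
  obtain ⟨m, hm⟩ := exists_pow_eq_self_of_coprime hco
  have hzC : ∀ y ∈ Q', z * y * z⁻¹ = y := by
    intro y hy
    rw [← hm, ← pow_mul, (hmem _ y hy).2, pow_mul, hqj, one_pow]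
    group
  refine Subgroup.mem_centralizer_iff.2 fun r hr => ?_
  have h1 := hzC _ ⟨r, hr, rfl⟩
  have h2 : g * (x * r * x⁻¹) * g⁻¹ = g * r * g⁻¹ := by
    refine Eq.trans ?_ h1
    show _ = z * (g * r * g⁻¹) * z⁻¹
    rw [hz]; group
  have h3 : x * r * x⁻¹ = r := mul_left_cancel (mul_right_cancel h2)
  calc r * x = x * r * x⁻¹ * x := by rw [h3]
    _ = x * r := by group

/-- In a nilpotent block every map of the fusion system is inner. -/
theorem hom_eq_inner_of_nilpotent (hM : Cfsg.IsPModular p M)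
    (hF : Cfsg.IsBlockFusionSystemOn p M B P e F) (hnil : Cfsg.IsNilpotentBlock p M B) :
    F = Cfsg.innerFusionSystem P := by
  haveI := Fact.mk hM.1
  have hp := hM.1
  have hPe := hF.1.1.1
  refine FusSys.eq_inner_of_pGroups hPe.1 (isSaturated_blockFusion hM hF.1 hF) fun Q hQ => ?_
  obtain ⟨f, hf⟩ := exists_pair hM hPe hQ
  intro α
  obtain ⟨g, hfix, hg⟩ := exists_fixing_of_autGroup hM hF hQ hf α.2
  have hQf := (isBrauerPairOf_iff_of_subpairLE hM hf B).1 hF.1.1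
  obtain ⟨hgN, hgst⟩ := (conjPair_eq_iff hM hQf.1.2 g).1 hfix
  have hs : pPrimePartOf p g ∈ CG[Q] := by
    obtain ⟨h1, h2⟩ := (conjPair_eq_iff hM hQf.1.2 _).1
      (conjPair_pow_fixed hfix (pPrimeExp p (orderOf g)))
    exact hnil.2 Q f hQf _ h1 h2 (not_dvd_orderOf_pPrimePartOf hp g)
  obtain ⟨k, hk⟩ := orderOf_pPartOf hp g
  refine ⟨k, Subtype.ext (FusSys.apl_ext fun y hy => ?_)⟩
  have hpow : ∀ (n : ℕ), ∀ x ∈ Q, FusSys.apl ((α : MulAut Q) ^ n) x = g ^ n * x * (g ^ n)⁻¹ := by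
    intro n
    induction n with
    | zero => intro x hx; rw [pow_zero, FusSys.apl_one hx]; simp
    | succ n ih =>
      intro x hx
      rw [pow_succ', FusSys.apl_mul _ _ hx, ih x hx, hg _ (by
        rw [← ih x hx]; exact FusSys.apl_mem _ hx), pow_succ']
      group
  rw [Subgroup.coe_pow, Subgroup.coe_one, FusSys.apl_one hy, hpow _ y hy]
  have hg' : g ^ (p ^ k) = pPrimePartOf p g ^ (p ^ k) := by
    conv_lhs => rw [← pPartOf_mul_pPrimePartOf hp g]
    rw [Commute.mul_pow, ← hk, pow_orderOf_eq_one, one_mul]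
    exact Commute.pow_pow (Commute.refl g) _ _
  rw [hg', ← Subgroup.mem_centralizer_iff.1 (pow_mem hs _) y hy, mul_inv_cancel_right]

omit [Finite G] in
theorem mem_centralizer_sup {Q R : Subgroup G} {c : G} (hQ : c ∈ CG[Q]) (hR : c ∈ CG[R]) :
    c ∈ CG[Q ⊔ R] := by
  refine Subgroup.mem_centralizer_iff.2 fun a ha => ?_
  have h : Q ⊔ R ≤ Subgroup.centralizer {c} := sup_le
    (fun q hq => Subgroup.mem_centralizer_singleton_iff.2 (Subgroup.mem_centralizer_iff.1 hQ q hq))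
    fun q hq => Subgroup.mem_centralizer_singleton_iff.2 (Subgroup.mem_centralizer_iff.1 hR q hq)
  exact Subgroup.mem_centralizer_singleton_iff.1 (h ha)

/-- The centralizer inside `C(Q)`. -/
def supIso (Q : Subgroup G) (R : Subgroup CG[Q]) :
    CG[R] ≃* CG[Q ⊔ R.map CG[Q].subtype] where
  toFun c := ⟨((c : CG[Q]) : G), mem_centralizer_sup (c : CG[Q]).2
    (Subgroup.mem_centralizer_iff.2 fun a ha => by
      obtain ⟨r, hr, rfl⟩ := ha
      exact congrArg Subtype.val (Subgroup.mem_centralizer_iff.1 c.2 r hr))⟩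
  invFun c := ⟨⟨(c : G), Subgroup.centralizer_le (SetLike.coe_subset_coe.2 le_sup_left) c.2⟩,
    Subgroup.mem_centralizer_iff.2 fun r hr => Subtype.ext
      (Subgroup.mem_centralizer_iff.1 c.2 (r : G)
        ((le_sup_right : R.map CG[Q].subtype ≤ Q ⊔ R.map CG[Q].subtype) ⟨r, hr, rfl⟩))⟩
  left_inv c := Subtype.ext (Subtype.ext rfl)
  right_inv c := Subtype.ext rfl
  map_mul' a b := Subtype.ext rfl

/-- A Brauer pair of `f` in `C(Q)` gives a pair normally above `(Q, f)`. -/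
theorem isNormalSubpair_sup (hM : Cfsg.IsPModular p M) {Q : Subgroup G}
    {f : Set (Cfsg.IrrCharacter CG[Q])} (hQ : Cfsg.IsBrauerPair p M Q f) {R : Subgroup CG[Q]}
    {r : Set (Cfsg.IrrCharacter CG[R])} (h : Cfsg.IsBrauerPairOf p M f R r) :
    Cfsg.IsNormalSubpair p M Q f (Q ⊔ R.map CG[Q].subtype) (mapBlock (supIso Q R) r) := by
  classical
  haveI := Fact.mk hM.1
  set R' := R.map CG[Q].subtype with hR'
  have hR'C : R' ≤ CG[Q] := Subgroup.map_subtype_le R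
  have hR'p : IsPGroup p R' := h.1.1.map _
  have hCN : CG[Q] ≤ Subgroup.normalizer (Q : Set G) :=
    Subgroup.centralizer_le_normalizer (Q : Set G)
  have hN : Q ⊔ R' ≤ Subgroup.normalizer (Q : Set G) :=
    sup_le Subgroup.le_normalizer (hR'C.trans hCN)
  have hinv : ∀ k ∈ Q ⊔ R', ∀ x, sbc CG[Q] f (k * x * k⁻¹) = sbc CG[Q] f x := fun k hk =>
    (sup_le (fun q hq => isInv_sbc_of_mem_centralizer Q f q hq)
      (fun q hq => isInv_sbc f q (hR'C hq)) : Q ⊔ R' ≤ invSubgroup (sbc CG[Q] f)) hk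
  refine ⟨hQ, ⟨hQ.1.to_sup_of_normal_left' hR'p (hR'C.trans hCN), isPBlock_mapBlock _ h.1.2⟩,
    le_sup_left, hN, stabilizes_of_isInv hM hN hQ.2 hinv, fun ξ hξ => ?_⟩
  have h1 := h.2.2 (compIrr (supIso Q R) ξ) hξ
  convert h1 using 2
  letI := Fintype.ofFinite CG[Q ⊔ R']
  letI := Fintype.ofFinite CG[R]
  rw [brauerOmega_eq, brauerOmega_eq, omega, omega]
  show _ = (∑ c : CG[R], Cfsg.blockCoeff f (c : CG[Q]) *
    (ξ : CG[Q ⊔ R'] → ℂ) (supIso Q R c)) / (ξ : CG[Q ⊔ R'] → ℂ) (supIso Q R 1)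
  rw [map_one]
  congr 1
  symm
  refine Fintype.sum_equiv (supIso Q R).toEquiv _ _ fun c => ?_
  show _ = sbc CG[Q] f (((c : CG[Q]) : G)) * _
  rw [sbc_apply]
  rfl

/-- The blocks of a nilpotent block at its Brauer pairs are nilpotent. -/
theorem nilpotent_local (hM : Cfsg.IsPModular p M) (hnil : Cfsg.IsNilpotentBlock p M B)
    {Q : Subgroup G} {f : Set (Cfsg.IrrCharacter CG[Q])} (hQf : Cfsg.IsBrauerPairOf p M B Q f) :
    Cfsg.IsNilpotentBlock p M f := by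
  refine ⟨hQf.1.2, fun R r hRr x hxN hst hreg => ?_⟩
  have hn := isNormalSubpair_sup hM hQf.1 hRr
  have hpair := isBrauerPairOf_of_normal hM hn hQf
  set R' := R.map CG[Q].subtype with hR'
  have hxN' : (x : G) ∈ Subgroup.normalizer ((Q ⊔ R' : Subgroup G) : Set G) := by
    have hQx : Q.map (MulAut.conj (x : G)).toMonoidHom = Q :=
      map_conj_eq (Subgroup.centralizer_le_normalizer (Q : Set G) x.2)
    have hRx : R'.map (MulAut.conj (x : G)).toMonoidHom = R' := by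
      have h1 : R.map (MulAut.conj x).toMonoidHom = R := map_conj_eq hxN
      conv_rhs => rw [hR', ← h1]
      rw [hR', Subgroup.map_map, Subgroup.map_map]
      rfl
    have hS : (Q ⊔ R').map (MulAut.conj (x : G)).toMonoidHom = Q ⊔ R' := by
      rw [Subgroup.map_sup, hQx, hRx]
    refine Subgroup.mem_normalizer_iff.2 fun y => ⟨fun hy => hS ▸ ⟨y, hy, rfl⟩, fun hy => ?_⟩
    rw [← hS] at hy
    obtain ⟨z, hz, hze⟩ := hy
    rwa [← (MulAut.conj (x : G)).injective hze]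
  have hst' : Cfsg.StabilizesBlock CG[Q ⊔ R'] (mapBlock (supIso Q R) r) (x : G) := by
    refine (stabilizesBlock_iff hM hxN' hn.2.1.2).2 fun k hk y => ?_
    rw [Set.mem_singleton_iff.1 hk]
    have key : ∀ c : CG[R], sbc CG[Q ⊔ R'] (mapBlock (supIso Q R) r) ((c : CG[Q]) : G) =
        sbc CG[R] r (c : CG[Q]) := fun c => by
      rw [show ((c : CG[Q]) : G) = (supIso Q R c : G) from rfl, sbc_apply, sbc_apply,
        blockCoeff_mapBlock]
    have hinv : ∀ t : CG[Q], sbc CG[R] r (x * t * x⁻¹) = sbc CG[R] r t := fun t =>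
      (stabilizesBlock_iff hM hxN hRr.1.2).1 hst x rfl t
    have hmem : (x : G) * y * (x : G)⁻¹ ∈ CG[Q ⊔ R'] ↔ y ∈ CG[Q ⊔ R'] :=
      (mem_centralizer_iff_of_mem_normalizer hxN' y).symm
    by_cases hy : y ∈ CG[Q ⊔ R']
    · obtain ⟨c, rfl⟩ : ∃ c : CG[R], ((c : CG[Q]) : G) = y :=
        ⟨(supIso Q R).symm ⟨y, hy⟩, rfl⟩
      obtain ⟨c', hc'⟩ : ∃ c' : CG[R], ((c' : CG[Q]) : G) = x * ((c : CG[Q]) : G) * (x : G)⁻¹ :=
        ⟨(supIso Q R).symm ⟨_, hmem.2 hy⟩, rfl⟩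
      rw [← hc', key, key, show (c' : CG[Q]) = x * c * x⁻¹ from Subtype.ext hc', hinv]
    · rw [sbc_of_notMem _ hy, sbc_of_notMem _ fun h => hy (hmem.1 h)]
  have hreg' : Cfsg.IsPRegular p (x : G) := by
    show ¬ p ∣ orderOf (x : G)
    rw [Subgroup.orderOf_coe]
    exact hreg
  have hc := hnil.2 _ _ hpair _ hxN' hst' hreg'
  refine Subgroup.mem_centralizer_iff.2 fun a ha => Subtype.ext ?_
  exact Subgroup.mem_centralizer_iff.1 hc (a : G)
    ((le_sup_right : R' ≤ Q ⊔ R') ⟨a, ha, rfl⟩)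

/-- In a nilpotent block every subgroup of the defect group is fully centralized. -/
theorem isDefectGroup_of_nilpotent (hM : Cfsg.IsPModular p M)
    (hmax : Cfsg.IsMaximalBrauerPair p M B P e) (hnil : Cfsg.IsNilpotentBlock p M B)
    {Q : Subgroup G} {f : Set (Cfsg.IrrCharacter CG[Q])} (hle : Cfsg.SubpairLE p M Q f P e) :
    Cfsg.IsDefectGroup p M f ((P ⊓ CG[Q]).subgroupOf CG[Q]) := by
  obtain ⟨F, hF⟩ := exists_isBlockFusionSystemOn hM hmax
  rw [← fullyCentralized_iff hM hmax hF hle, hom_eq_inner_of_nilpotent hM hF hnil]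
  refine ⟨BlockChar.le_of_subpairLE hle, fun R hR => ?_⟩
  obtain ⟨φ, ⟨-, q, hq, hqv⟩, rfl⟩ := hR
  have hR : φ.range = Q.map (MulAut.conj q).toMonoidHom := by
    ext y
    constructor
    · rintro ⟨u, rfl⟩
      exact ⟨u, u.2, (hqv u).symm⟩
    · rintro ⟨u, hu, rfl⟩
      exact ⟨⟨u, hu⟩, hqv ⟨u, hu⟩⟩
  have heq : Cfsg.FusionSystem.centralizerIn P φ.range =
      (Cfsg.FusionSystem.centralizerIn P Q).map (MulAut.conj q).toMonoidHom := by
    rw [hR, Cfsg.FusionSystem.centralizerIn, Cfsg.FusionSystem.centralizerIn,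
      Subgroup.map_inf _ _ _ (MulAut.conj q).injective, map_centralizer_eq,
      map_conj_eq (Subgroup.le_normalizer hq)]
  rw [heq, DefectThms.card_map_conj]

end Cfsg.Agent.BrauerPairs
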