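import Cfsg.Agent.BrauerPairs.Inclusion
import Cfsg.Agent.BlockThms.Normal
import Cfsg.Agent.BlockChar.Support
import Cfsg.Agent.Coprime.Basic

/-!
# Blocks of a group and of a normal subgroup of p-power index
-/

namespace Cfsg.Agent.BrauerPairs

open Cfsg.Agent Cfsg.Agent.Blocks

universe u

section cover

variable {C D : Type u} [Group C] [Group D] [Finite C] [Finite D] {p : ℕ} {M : Ideal Cfsg.AlgInt}
  {j : D →* C}

theorem omega_compIrr [Fintype C] [Fintype D] (φ : D ≃* C) (χ : Cfsg.IrrCharacter C) (F : C → ℂ) :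
    omega (compIrr φ χ : D → ℂ) (fun d => F (φ d)) = omega (χ : C → ℂ) F := by
  rw [omega, omega, compIrr_apply, map_one]
  exact congrArg (· / _) (Fintype.sum_equiv φ.toEquiv _ _ fun d => rfl)

/-- Above a character of the normal subgroup there is one with the same central character. -/
theorem exists_irr_over [Fintype C] [Fintype D] (hj : Function.Injective j) (hn : j.range.Normal)
    (θ : Cfsg.IrrCharacter D) :
    ∃ ξ : Cfsg.IrrCharacter C, ∀ F : C → ℂ, Cfsg.IsClassFunction C F →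
      (∀ c, c ∉ j.range → F c = 0) → omega (ξ : C → ℂ) F = omega (θ : D → ℂ) fun d => F (j d) := by
  classical
  haveI := hn
  letI := Fintype.ofFinite j.range
  set ι := MonoidHom.ofInjective hj with hι
  set φ := compIrr ι.symm θ with hφ
  have hne : Cfsg.indFun j.range (φ : j.range → ℂ) ≠ 0 := fun h => by
    have h1 := congrFun h 1
    rw [Char.indFun_apply_one, Pi.zero_apply, mul_eq_zero] at h1
    exact h1.elim (fun h2 => Subgroup.index_ne_zero_of_finite (Nat.cast_eq_zero.1 h2))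
      (Char.IsIrr.one_ne_zero φ.2)
  obtain ⟨ψ, hψ⟩ := Char.IsChar.exists_constituent
    (Char.isCharacter_indFun j.range (Char.IsIrr.isCharacter φ.2)) hne
  rw [Char.classInner_indFun_left j.range _ (Char.isClassFunction_of_isIrr ψ.2)] at hψ
  have hψ' : Cfsg.classInner (fun m : j.range => (ψ : C → ℂ) m) (φ : j.range → ℂ) ≠ 0 := by
    rw [← Char.classInner_conj_symm, map_ne_zero]; exact hψ
  refine ⟨ψ, fun F hF hF0 => ?_⟩
  rw [BlockThms.omega_res_eq ψ.2 φ.2 hψ' hF hF0, ← omega_compIrr ι φ]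
  rw [hφ, show compIrr ι (compIrr ι.symm θ) = θ from (compIrrEquiv ι).apply_symm_apply θ]
  rfl

/-- Below a character there is one of the normal subgroup with the same central character. -/
theorem exists_irr_under [Fintype C] [Fintype D] (hj : Function.Injective j) (hn : j.range.Normal)
    (ξ : Cfsg.IrrCharacter C) :
    ∃ θ : Cfsg.IrrCharacter D, ∀ F : C → ℂ, Cfsg.IsClassFunction C F →
      (∀ c, c ∉ j.range → F c = 0) → omega (ξ : C → ℂ) F = omega (θ : D → ℂ) fun d => F (j d) := by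
  classical
  haveI := hn
  letI := Fintype.ofFinite j.range
  obtain ⟨η, hη⟩ := Char.exists_constituent_res (N := j.range) ξ.2
  refine ⟨compIrr (MonoidHom.ofInjective hj) η, fun F hF hF0 => ?_⟩
  rw [BlockThms.omega_res_eq ξ.2 η.2 hη hF hF0, ← omega_compIrr (MonoidHom.ofInjective hj) η]
  rfl

/-- The block `f` of the big group lies over the character `θ`. -/
def Over (j : D →* C) (f : Set (Cfsg.IrrCharacter C)) (θ : Cfsg.IrrCharacter D) : Prop :=
  letI := Fintype.ofFinite D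
  omega (θ : D → ℂ) (fun d => Cfsg.blockCoeff f (j d)) = 1

/-- The block idempotents of the big group live on the normal subgroup. -/
def SuppOn (M : Ideal Cfsg.AlgInt) (j : D →* C) : Prop :=
  ∀ f : Set (Cfsg.IrrCharacter C), Cfsg.IsPBlock M f →
    ∀ c, c ∉ j.range → Cfsg.blockCoeff f c = 0

theorem exists_mem_over (hM : Cfsg.IsPModular p M) (hj : Function.Injective j)
    (hn : j.range.Normal) (hsupp : SuppOn M j) (θ : Cfsg.IrrCharacter D) :
    ∃ ξ : Cfsg.IrrCharacter C, ∀ f : Set (Cfsg.IrrCharacter C), Cfsg.IsPBlock M f →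
      (Over j f θ ↔ ξ ∈ f) := by
  classical
  letI := Fintype.ofFinite C
  letI := Fintype.ofFinite D
  obtain ⟨ξ, hξ⟩ := exists_irr_over hj hn θ
  refine ⟨ξ, fun f hf => ?_⟩
  show omega _ _ = 1 ↔ _
  rw [← hξ _ (isClassFunction_blockCoeff f) (hsupp f hf), omega_blockCoeff]
  by_cases h : ξ ∈ f
  · simp [h]
  · simp [h]

theorem exists_over (hM : Cfsg.IsPModular p M) (hj : Function.Injective j) (hn : j.range.Normal)
    (hsupp : SuppOn M j) (θ : Cfsg.IrrCharacter D) :
    ∃ f : Set (Cfsg.IrrCharacter C), Cfsg.IsPBlock M f ∧ Over j f θ := by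
  obtain ⟨ξ, hξ⟩ := exists_mem_over hM hj hn hsupp θ
  exact ⟨_, isPBlock_blockOf ξ, (hξ _ (isPBlock_blockOf ξ)).2 (mem_blockOf_self hM ξ)⟩

theorem over_unique (hM : Cfsg.IsPModular p M) (hj : Function.Injective j) (hn : j.range.Normal)
    (hsupp : SuppOn M j) {θ : Cfsg.IrrCharacter D} {f f' : Set (Cfsg.IrrCharacter C)}
    (hf : Cfsg.IsPBlock M f) (hf' : Cfsg.IsPBlock M f') (h : Over j f θ) (h' : Over j f' θ) :
    f = f' := by
  obtain ⟨ξ, hξ⟩ := exists_mem_over hM hj hn hsupp θ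
  rw [IsPBlock.eq_blockOf hM hf ((hξ f hf).1 h), IsPBlock.eq_blockOf hM hf' ((hξ f' hf').1 h')]

theorem exists_under (hM : Cfsg.IsPModular p M) (hj : Function.Injective j) (hn : j.range.Normal)
    (hsupp : SuppOn M j) {f : Set (Cfsg.IrrCharacter C)} (hf : Cfsg.IsPBlock M f) :
    ∃ θ : Cfsg.IrrCharacter D, Over j f θ := by
  classical
  letI := Fintype.ofFinite C
  letI := Fintype.ofFinite D
  obtain ⟨ξ, hξ⟩ := IsPBlock.nonempty hM hf
  obtain ⟨θ, hθ⟩ := exists_irr_under hj hn ξ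
  refine ⟨θ, ?_⟩
  show omega _ _ = 1
  rw [← hθ _ (isClassFunction_blockCoeff f) (hsupp f hf), omega_blockCoeff, if_pos hξ]

theorem over_sameBlock (hM : Cfsg.IsPModular p M) (hj : Function.Injective j) (hn : j.range.Normal)
    (hsupp : SuppOn M j) {f : Set (Cfsg.IrrCharacter C)} (hf : Cfsg.IsPBlock M f)
    {θ θ' : Cfsg.IrrCharacter D} (hs : Cfsg.SameBlock M (θ : D → ℂ) (θ' : D → ℂ))
    (h : Over j f θ) : Over j f θ' := by
  classical
  letI := Fintype.ofFinite C
  letI := Fintype.ofFinite D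
  have h1 : omega (θ : D → ℂ) (fun d => Cfsg.blockCoeff f (j d)) = 1 := h
  obtain ⟨ξ, hξ⟩ := exists_irr_over hj hn θ'
  have h2 := hξ _ (isClassFunction_blockCoeff f) (hsupp f hf)
  show omega _ _ = 1
  rw [← h2, omega_blockCoeff, if_pos]
  by_contra hn'
  rw [omega_blockCoeff, if_neg hn'] at h2
  have h3 := memLocalIdeal_omega_sub hM θ.2 θ'.2 (f := fun d => Cfsg.blockCoeff f (j d))
    (fun x k => by simp only [map_mul, map_inv]; exact isClassFunction_blockCoeff f (j x) (j k))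
    (fun d => memLocalRing_blockCoeff hM hf (j d)) hs
  rw [h1, ← h2, sub_zero] at h3
  exact not_memLocalIdeal_one hM h3

theorem over_mapBlock {σ : C ≃* C} {τ : D ≃* D} (hστ : ∀ d, j (τ d) = σ (j d))
    (f : Set (Cfsg.IrrCharacter C)) (θ : Cfsg.IrrCharacter D) :
    Over j (mapBlock σ f) θ ↔ Over j f (compIrr τ θ) := by
  classical
  letI := Fintype.ofFinite C
  letI := Fintype.ofFinite D
  show omega _ _ = 1 ↔ omega _ _ = 1
  rw [← omega_compIrr τ θ fun d => Cfsg.blockCoeff (mapBlock σ f) (j d)]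
  simp only [hστ, blockCoeff_mapBlock]

end cover

/-- A p-regular element normalizing a group that acts through a p-group fixes a point of each
invariant orbit. -/
theorem exists_fixed_of_orbit {Y X : Type u} [Group Y] [Finite Y] [MulAction Y X] {p : ℕ}
    [Fact p.Prime] {M0 K : Subgroup Y} [M0.Normal] (hM0 : ∀ m ∈ M0, ∀ x : X, m • x = x) {g : Y}
    (hgK : g ∈ Subgroup.normalizer (K : Set Y)) (hreg : ¬ p ∣ orderOf g)
    (hKp : ∀ k ∈ K, ∃ n : ℕ, k ^ (p ^ n) ∈ M0) (x0 : X) (hx : ∃ k ∈ K, g • x0 = k • x0) :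
    ∃ k ∈ K, g • (k • x0) = k • x0 := by
  classical
  let L : Y ⧸ M0 →* Equiv.Perm X := QuotientGroup.lift M0 (MulAction.toPermHom Y X) fun m hm =>
    MonoidHom.mem_ker.2 (Equiv.ext fun x => hM0 m hm x)
  letI : MulAction (Y ⧸ M0) X := MulAction.compHom X L
  have hsm : ∀ (y : Y) (x : X), (QuotientGroup.mk' M0 y) • x = y • x := fun y x => rfl
  set π := QuotientGroup.mk' M0 with hπ
  set A := Subgroup.zpowers (π g) with hA
  set Kb := K.map π with hKb
  have hgKb : π g ∈ Subgroup.normalizer (Kb : Set (Y ⧸ M0)) :=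
    Subgroup.le_normalizer_map π ⟨g, hgK, rfl⟩
  have hAK : A ≤ Subgroup.normalizer (Kb : Set (Y ⧸ M0)) := Subgroup.zpowers_le.2 hgKb
  have hKbp : IsPGroup p Kb := by
    rintro ⟨_, k, hk, rfl⟩
    obtain ⟨n, hn⟩ := hKp k hk
    refine ⟨n, Subtype.ext ?_⟩
    show π k ^ (p ^ n) = 1
    rw [← map_pow]
    exact (QuotientGroup.eq_one_iff _).2 hn
  have hcop : (Nat.card A).Coprime (Nat.card Kb) := by
    obtain ⟨n, hn⟩ := IsPGroup.iff_card.1 hKbp
    rw [hn, Nat.card_zpowers]
    refine Nat.Coprime.pow_right n (Nat.Coprime.symm ((Fact.out : p.Prime).coprime_iff_not_dvd.2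
      fun h => hreg (h.trans (orderOf_map_dvd π g))))
  have hsolv : Group.IsSolvable A ∨ Group.IsSolvable Kb := Or.inr (by
    haveI := hKbp.isNilpotent
    infer_instance)
  have hall : ∀ a ∈ A, ∃ k ∈ Kb, a • x0 = k • x0 := by
    intro a ha
    obtain ⟨n, rfl⟩ : ∃ n : ℕ, π g ^ n = a := by
      rwa [hA, ← mem_powers_iff_mem_zpowers, Submonoid.mem_powers_iff] at ha
    induction n with
    | zero => exact ⟨1, one_mem _, by rw [pow_zero]⟩
    | succ n ih =>
      obtain ⟨k, hk, hkx⟩ := ih (Subgroup.pow_mem _ (Subgroup.mem_zpowers _) n)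
      obtain ⟨k₁, hk₁, hk₁x⟩ := hx
      refine ⟨π g * k * (π g)⁻¹ * π k₁,
        mul_mem ((Subgroup.mem_normalizer_iff.1 hgKb k).1 hk) ⟨k₁, hk₁, rfl⟩, ?_⟩
      rw [pow_succ', mul_smul, hkx, mul_smul _ (π k₁), hsm k₁, ← hk₁x, ← hsm g, ← mul_smul,
        ← mul_smul, inv_mul_cancel_right]
  obtain ⟨k, hk, hfix⟩ := Coprime.exists_fixed_point hAK hcop hsolv x0 hall
  obtain ⟨k', hk', rfl⟩ := hk
  exact ⟨k', hk', by simpa only [hsm] using hfix (π g) (Subgroup.mem_zpowers _)⟩

end Cfsg.Agent.BrauerPairs
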