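import Cfsg.Agent.BlockChar.RegInner
import Cfsg.Agent.BlockThms.DefectZero
import Cfsg.Agent.Blocks.PPart
import Cfsg.Agent.Char.Linear

/-!
# A character of defect zero modulo a central p-subgroup gives the defect of its block
-/

namespace Cfsg.Agent.BrauerPairs

open Cfsg.Agent Cfsg.Agent.Blocks
open scoped ComplexConjugate

universe u

variable {G : Type u} [Group G] [Finite G] {p : ℕ} {M : Ideal Cfsg.AlgInt}

/-- The degree of an irreducible character trivial on a normal subgroup divides the index. -/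
theorem degree_val_add_le (θ : Cfsg.IrrCharacter G) (N : Subgroup G) [N.Normal]
    (htriv : ∀ n ∈ N, (θ : G → ℂ) n = (θ : G → ℂ) 1) :
    (Cfsg.charDegree (θ : G → ℂ)).factorization p + (Nat.card N).factorization p ≤
      (Nat.card G).factorization p := by
  obtain ⟨φ, hφ, he⟩ := Char.IsIrr.exists_quotient N θ.2 htriv
  have hn : φ 1 = (Cfsg.charDegree (θ : G → ℂ) : ℂ) := by
    rw [← (CharArith.irr_degree_spec θ).1, he 1, QuotientGroup.mk_one]
  have hdvd := Char.IsIrr.degree_dvd_card hφ hn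
  rw [Subgroup.card_eq_card_quotient_mul_card_subgroup N,
    Nat.factorization_mul Nat.card_pos.ne' Nat.card_pos.ne', Finsupp.coe_add, Pi.add_apply]
  refine Nat.add_le_add_right ?_ _
  exact (Nat.factorization_le_iff_dvd (CharArith.irr_degree_spec θ).2.ne' Nat.card_pos.ne').2
    hdvd p

/-- A character trivial on a central p-subgroup `Z`, of defect zero on the quotient, lies in a
block of defect at most the exponent of `|Z|`. -/
theorem blockDefect_le_of_central (hM : Cfsg.IsPModular p M) {B : Set (Cfsg.IrrCharacter G)}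
    (hB : Cfsg.IsPBlock M B) {θ : Cfsg.IrrCharacter G} (hθ : θ ∈ B) (Z : Subgroup G) [Z.Normal]
    (hZ : IsPGroup p Z) (hcentral : ∀ z ∈ Z, ∀ g : G, Commute z g)
    (htriv : ∀ z ∈ Z, (θ : G → ℂ) z = (θ : G → ℂ) 1)
    (hdeg : (Cfsg.charDegree (θ : G → ℂ)).factorization p + (Nat.card Z).factorization p =
      (Nat.card G).factorization p) :
    Cfsg.blockDefect p B ≤ (Nat.card Z).factorization p := by
  classical
  haveI := Fact.mk hM.1
  have := Fintype.ofFinite G
  have := Fintype.ofFinite Z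
  have hp := hM.1
  obtain ⟨hn, hnpos⟩ := CharArith.irr_degree_spec θ
  set n := Cfsg.charDegree (θ : G → ℂ) with hn_def
  obtain ⟨φ, hφ, he⟩ := Char.IsIrr.exists_quotient Z θ.2 htriv
  have hφn : φ 1 = (n : ℂ) := by rw [← hn, he 1, QuotientGroup.mk_one]
  obtain ⟨c, hc⟩ := Char.IsIrr.degree_dvd_card hφ hφn
  have hcard := Subgroup.card_eq_card_quotient_mul_card_subgroup Z
  have hc0 : c ≠ 0 := by
    rintro rfl
    rw [mul_zero] at hc
    exact Nat.card_pos.ne' hc
  have hcp : ¬ p ∣ c := by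
    intro hdvd
    have h1 := Nat.Prime.factorization_pos_of_dvd hp hc0 hdvd
    rw [hcard, hc, Nat.factorization_mul (mul_ne_zero hnpos.ne' hc0) Nat.card_pos.ne',
      Nat.factorization_mul hnpos.ne' hc0] at hdeg
    simp only [Finsupp.coe_add, Pi.add_apply] at hdeg
    omega
  have hcod : ¬ p ∣ Nat.card (G ⧸ Z) / Cfsg.charDegree ((⟨φ, hφ⟩ : Cfsg.IrrCharacter (G ⧸ Z)) : G ⧸ Z → ℂ) := by
    have e : Cfsg.charDegree φ = n := by
      have h1 := (CharArith.irr_degree_spec (⟨φ, hφ⟩ : Cfsg.IrrCharacter (G ⧸ Z))).1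
      replace h1 : φ 1 = (Cfsg.charDegree φ : ℂ) := h1
      rw [hφn] at h1
      exact_mod_cast h1.symm
    show ¬ p ∣ Nat.card (G ⧸ Z) / Cfsg.charDegree φ
    rw [e, hc, Nat.mul_div_cancel_left _ hnpos]
    exact hcp
  -- vanishing off `Z` times the p-regular elements
  have hvan : ∀ g : G, pPartOf p g ∉ Z → (θ : G → ℂ) g = 0 := by
    intro g hg
    rw [he g]
    refine BlockThms.eq_zero_of_not_dvd_codegree hM ⟨φ, hφ⟩ hcod fun hreg => ?_
    obtain ⟨k, hk⟩ := orderOf_pPartOf hp g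
    have h1 : orderOf (QuotientGroup.mk' Z (pPartOf p g)) ∣ p ^ k :=
      hk ▸ orderOf_map_dvd (QuotientGroup.mk' Z) _
    have h2 : QuotientGroup.mk' Z (pPartOf p g) =
        QuotientGroup.mk' Z g ^ pExp p (orderOf g) := by
      rw [pPartOf, map_pow]
    have h3 : orderOf (QuotientGroup.mk' Z (pPartOf p g)) ∣ orderOf (QuotientGroup.mk' Z g) := by
      rw [h2]; exact orderOf_pow_dvd _
    obtain ⟨j, -, hj⟩ := (Nat.dvd_prime_pow hp).1 h1
    rcases Nat.eq_zero_or_pos j with rfl | hj0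
    · rw [pow_zero, orderOf_eq_one_iff] at hj
      exact hg ((QuotientGroup.eq_one_iff _).1 hj)
    · exact hreg ((dvd_pow_self p hj0.ne').trans (hj ▸ h3))
  -- the sum over the p-regular elements
  have hreg : ∀ (z : Z) (u : {u : G // Cfsg.IsPRegular p u}),
      pPartOf p ((z : G) * u) = z ∧ pPrimePartOf p ((z : G) * u) = u := fun z u =>
    parts_mul hp (hcentral z z.2 u) (by
      obtain ⟨k, hk⟩ := IsPGroup.iff_orderOf.1 hZ z
      exact ⟨k, by rw [Subgroup.orderOf_coe, hk]⟩) u.2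
  let ε : Z × {u : G // Cfsg.IsPRegular p u} ≃ {g : G // pPartOf p g ∈ Z} :=
    { toFun := fun x => ⟨(x.1 : G) * x.2, by rw [(hreg x.1 x.2).1]; exact x.1.2⟩
      invFun := fun g => (⟨pPartOf p g.1, g.2⟩,
        ⟨pPrimePartOf p g.1, not_dvd_orderOf_pPrimePartOf hp _⟩)
      left_inv := fun x => Prod.ext (Subtype.ext (hreg x.1 x.2).1) (Subtype.ext (hreg x.1 x.2).2)
      right_inv := fun g => Subtype.ext (pPartOf_mul_pPrimePartOf hp _) }
  have hsq : ∑ g : G, (θ : G → ℂ) g * conj ((θ : G → ℂ) g) = (Nat.card G : ℂ) := by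
    have h := Char.classInner_irr_self θ.2
    rw [Cfsg.classInner, inv_mul_eq_iff_eq_mul₀ Char.card_ne_zero, mul_one] at h
    exact h
  have hZreg : (Nat.card Z : ℂ) * (∑ u : {u : G // Cfsg.IsPRegular p u},
      (θ : G → ℂ) u * conj ((θ : G → ℂ) u)) = (Nat.card G : ℂ) := by
    rw [← hsq, ← Finset.sum_filter_add_sum_filter_not Finset.univ (fun g => pPartOf p g ∈ Z),
      Finset.sum_eq_zero (s := Finset.univ.filter fun g => ¬ pPartOf p g ∈ Z) (fun g hg => by
        rw [hvan g (Finset.mem_filter.1 hg).2, zero_mul]), add_zero,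
      Finset.sum_subtype _ (fun g => by simp :
        ∀ g, g ∈ Finset.univ.filter (fun g => pPartOf p g ∈ Z) ↔ pPartOf p g ∈ Z),
      ← ε.sum_comp, Fintype.sum_prod_type, Nat.card_eq_fintype_card]
    have hterm : ∀ (z : Z) (u : {u : G // Cfsg.IsPRegular p u}),
        (θ : G → ℂ) ((ε (z, u)).1) = (θ : G → ℂ) u := fun z u => by
      show (θ : G → ℂ) ((z : G) * u) = _
      rw [he, he, QuotientGroup.mk_mul, (QuotientGroup.eq_one_iff _).2 z.2, one_mul]
    simp only [hterm, Finset.sum_const, Finset.card_univ, nsmul_eq_mul]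
  have hW : omega (θ : G → ℂ) (BlockChar.regConj p (θ : G → ℂ)) = (c : ℂ) := by
    have e1 : (∑ g : G, BlockChar.regConj p (θ : G → ℂ) g * (θ : G → ℂ) g) =
        ∑ u : {u : G // Cfsg.IsPRegular p u}, (θ : G → ℂ) u * conj ((θ : G → ℂ) u) := by
      rw [← Finset.sum_subtype (Finset.univ.filter (fun g => Cfsg.IsPRegular p g))
        (fun g => by simp) (fun g => (θ : G → ℂ) g * conj ((θ : G → ℂ) g)), Finset.sum_filter]
      refine Finset.sum_congr rfl fun g _ => ?_
      simp only [BlockChar.regConj]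
      split_ifs
      · ring
      · rw [zero_mul]
    rw [omega, e1, hn, div_eq_iff (Nat.cast_ne_zero.2 hnpos.ne')]
    refine mul_left_cancel₀ (Nat.cast_ne_zero.2 (Nat.card_pos (α := Z)).ne') ?_
    rw [hZreg, hcard, hc]
    push_cast
    ring
  -- the height is zero
  obtain ⟨ψ, hψ, hψ0'⟩ := BlockChar.exists_height_zero (p := p) (IsPBlock.nonempty hM hB)
  have hψ0 : Cfsg.blockHeight p B (ψ : G → ℂ) = 0 := by
    rw [BlockChar.blockHeight_eq, hψ0', Nat.sub_self]
  have hh : Cfsg.blockHeight p B (θ : G → ℂ) = 0 := by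
    by_contra hne
    have hpd : p ∣ BlockChar.redDeg p B θ := by
      by_contra h
      exact hne ((BlockChar.not_dvd_redDeg_iff hp hθ).1 h)
    have h1 := (BlockChar.regM_memLocalIdeal_iff hM hθ ψ).2 (Or.inl hpd)
    rw [← BlockChar.regM_comm hM θ ψ, BlockChar.regM_memLocalIdeal_iff hM hψ θ] at h1
    have h2 := BlockChar.omega_regConj_congr hM hB hψ hθ θ
      (h1.resolve_left ((BlockChar.not_dvd_redDeg_iff hp hψ).2 hψ0))
    rw [hW, memLocalIdeal_natCast_iff hM] at h2
    exact hcp h2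
  have h3 := BlockChar.minVal_le (p := p) hθ
  have h4 := BlockChar.blockHeight_eq (p := p) (B := B) (θ : G → ℂ)
  have h5 := BlockChar.blockDefect_eq (p := p) (B := B)
  rw [hh] at h4
  rw [← hn_def] at h3 h4
  omega

end Cfsg.Agent.BrauerPairs
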