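import Cfsg.Agent.BrauerPairs.Maximal
import Cfsg.Agent.BrauerPairs.CentralDefect
import Cfsg.Agent.BlockThms.NormalCor

/-!
# Recognition of maximal Brauer pairs
-/

namespace Cfsg.Agent.BrauerPairs

open Cfsg.Agent Cfsg.Agent.Blocks

universe u

variable {G : Type u} [Group G] {p : ℕ} {M : Ideal Cfsg.AlgInt}

local notation "CG[" Q "]" => Subgroup.centralizer (SetLike.coe Q)
local notation "sbc" => Cfsg.subgroupBlockCoeff

/-- The elements whose conjugation fixes `f`. -/
def invSubgroup (f : G → ℂ) : Subgroup G where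
  carrier := {k | ∀ x, f (k * x * k⁻¹) = f x}
  one_mem' := by simp
  mul_mem' := fun {a b} ha hb x => by
    rw [show a * b * x * (a * b)⁻¹ = a * (b * x * b⁻¹) * a⁻¹ by group, ha, hb]
  inv_mem' := fun {a} ha x => by
    have := ha (a⁻¹ * x * a⁻¹⁻¹)
    rw [show a * (a⁻¹ * x * a⁻¹⁻¹) * a⁻¹ = x by group] at this
    exact this.symm

variable [Finite G]

theorem card_inter_centralizer (Q : Subgroup G) :
    Nat.card (Q.subgroupOf CG[Q]) = Nat.card ↥(Q ⊓ CG[Q]) :=
  Nat.card_congr ((MulEquiv.subgroupCongr (Subgroup.inf_subgroupOf_right Q CG[Q]).symm).trans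
    (Subgroup.subgroupOfEquivOfLe inf_le_right)).toEquiv

omit [Finite G] in
theorem commute_of_mem_subgroupOf {Q : Subgroup G} {z : CG[Q]} (hz : z ∈ Q.subgroupOf CG[Q])
    (g : CG[Q]) : Commute z g :=
  Subtype.ext (Subgroup.mem_centralizer_iff.1 g.2 (z : G) (Subgroup.mem_subgroupOf.1 hz))

omit [Finite G] in
theorem normal_inter_centralizer (Q : Subgroup G) : (Q.subgroupOf CG[Q]).Normal :=
  ⟨fun z hz g => by
    rw [← (commute_of_mem_subgroupOf hz g).eq, mul_inv_cancel_right]; exact hz⟩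

variable {P : Subgroup G} {e : Set (Cfsg.IrrCharacter CG[P])} {B : Set (Cfsg.IrrCharacter G)}

theorem blockDefect_le_of_maximal (hM : Cfsg.IsPModular p M)
    (hmax : Cfsg.IsMaximalBrauerPair p M B P e) :
    Cfsg.blockDefect p e ≤ (Nat.card ↥(P ⊓ CG[P])).factorization p := by
  classical
  haveI := Fact.mk hM.1
  have he := hmax.1.1.2
  obtain ⟨g, hg⟩ := exists_isDefectClass hM he
  obtain ⟨D, hD⟩ := DefectThms.exists_isSylC p g
  have hD' : Cfsg.IsDefectGroup p M e D := DefectThms.isDefectGroup_iff.2 ⟨g, hg, hD⟩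
  have hcard := BlockChar.card_defectGroup hM he hD'
  set DG := D.map CG[P].subtype with hDG
  have hDC : DG ≤ CG[P] := Subgroup.map_subtype_le _
  have hPD : DG ≤ Subgroup.normalizer (P : Set G) :=
    hDC.trans fun c hc => Subgroup.mem_normalizer_iff.2 fun x => by
      constructor
      · intro hx
        rwa [← Subgroup.mem_centralizer_iff.1 hc x hx, mul_inv_cancel_right]
      · intro hx
        have h1 := Subgroup.mem_centralizer_iff.1 hc _ hx
        have h2 : c * x * c⁻¹ = x := by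
          have h3 : c⁻¹ * (c * x * c⁻¹ * c) = c⁻¹ * (c * (c * x * c⁻¹)) := by rw [h1]
          simpa [mul_assoc] using h3.symm
        rwa [h2] at hx
  set R := P ⊔ DG
  have hR : IsPGroup p R := IsPGroup.to_sup_of_normal_left' hmax.1.1.1 (hD.2.1.map _) hPD
  have hRN : R ≤ Subgroup.normalizer (P : Set G) := sup_le Subgroup.le_normalizer hPD
  have hinv : IsInv (R : Set G) (sbc CG[P] e) := by
    have : R ≤ invSubgroup (sbc CG[P] e) := by
      refine sup_le (fun k hk x => ?_) fun k hk x => isInv_sbc e k (hDC hk) x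
      have hx := mem_centralizer_iff_of_mem_normalizer (Subgroup.le_normalizer hk) x
      by_cases h : x ∈ CG[P]
      · rw [Subgroup.mem_centralizer_iff.1 h k hk, mul_inv_cancel_right]
      · rw [sbc_of_notMem e h, sbc_of_notMem e fun h' => h (hx.2 h')]
    exact fun k hk => this hk
  have hgR : (g : G) ∈ CG[R] := by
    refine BlockThms.mem_centralizer_of_le (sup_le ?_ ?_)
    · exact fun q hq => Subgroup.mem_centralizer_singleton_iff.2
        (Subgroup.mem_centralizer_iff.1 g.2 q hq)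
    · rintro _ ⟨d, hd, rfl⟩
      exact Subgroup.mem_centralizer_singleton_iff.2
        (congrArg Subtype.val (Subgroup.mem_centralizer_singleton_iff.1 (hD.1 hd)))
  obtain ⟨g', hg'⟩ := exists_normalSubpair_above hM he (le_sup_left : P ≤ R) hR hRN hinv hgR
    (by rw [sbc_apply]; exact hg.2.1)
  have hRP : R = P := eq_of_normalSubpair_of_maximal hM hmax hg'
  have hle : DG ≤ P ⊓ CG[P] := le_inf (hRP ▸ le_sup_right) hDC
  have h1 : p ^ Cfsg.blockDefect p e ≤ p ^ (Nat.card ↥(P ⊓ CG[P])).factorization p := by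
    rw [← hcard, ← Subgroup.card_map_of_injective (Subgroup.subtype_injective CG[P]), ← hDG]
    refine (Subgroup.card_le_of_le hle).trans (le_of_eq ?_)
    obtain ⟨k, hk⟩ := IsPGroup.iff_card.1 (hmax.1.1.1.to_le (inf_le_left : P ⊓ CG[P] ≤ P))
    rw [hk, hM.1.factorization_pow, Finsupp.single_eq_same]
  exact (Nat.pow_le_pow_iff_right hM.1.one_lt).1 h1

theorem exists_character_of_maximal (hM : Cfsg.IsPModular p M)
    (hmax : Cfsg.IsMaximalBrauerPair p M B P e) :
    ∃ θ ∈ e, (∀ z : CG[P], (z : G) ∈ P → (θ : CG[P] → ℂ) z = (θ : CG[P] → ℂ) 1) ∧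
      (Cfsg.charDegree (θ : CG[P] → ℂ)).factorization p +
        (Nat.card ↥(P ⊓ CG[P])).factorization p = (Nat.card CG[P]).factorization p := by
  classical
  haveI := normal_inter_centralizer P
  have he := hmax.1.1.2
  have hZ : IsPGroup p (P.subgroupOf CG[P]) :=
    hmax.1.1.1.comap_of_injective _ (Subgroup.subtype_injective _)
  obtain ⟨θ, hθ, htriv⟩ := BlockThms.exists_mem_trivial_on (P.subgroupOf CG[P]) hM hZ he
  refine ⟨θ, hθ, fun z hz => htriv z (Subgroup.mem_subgroupOf.2 hz), ?_⟩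
  have h1 := degree_val_add_le (p := p) θ (P.subgroupOf CG[P]) htriv
  rw [card_inter_centralizer] at h1
  have h2 := blockDefect_le_of_maximal hM hmax
  have h3 := BlockChar.minVal_le (p := p) hθ
  have h4 := BlockChar.blockDefect_eq (p := p) (B := e)
  omega

omit [Finite G] in
theorem mul_pow_mem {H : Subgroup G} {c z : G} (hz : z ∈ Subgroup.normalizer (H : Set G))
    (hc : c ∈ H) : ∀ i : ℕ, (c * z) ^ i * (z ^ i)⁻¹ ∈ H
  | 0 => by simp
  | i + 1 => by
    have h := (Subgroup.mem_normalizer_iff.1 hz _).1 (mul_pow_mem hz hc i)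
    have e : (c * z) ^ (i + 1) * (z ^ (i + 1))⁻¹ = c * (z * ((c * z) ^ i * (z ^ i)⁻¹) * z⁻¹) := by
      rw [pow_succ', pow_succ]
      group
    rw [e]
    exact mul_mem hc h

/-- An element of p-power order normalizing a maximal pair lies in `P C(P)`. -/
theorem mem_sup_of_maximal (hM : Cfsg.IsPModular p M) (hmax : Cfsg.IsMaximalBrauerPair p M B P e)
    {g : G} (hgN : g ∈ Subgroup.normalizer (P : Set G))
    (hst : Cfsg.StabilizesBlock CG[P] e g) (hg : ∃ k : ℕ, orderOf g = p ^ k) :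
    g ∈ P ⊔ CG[P] := by
  classical
  haveI := Fact.mk hM.1
  have := Fintype.ofFinite G
  have hp := hM.1
  by_contra hgPC
  have he := hmax.1.1.2
  letI := Fintype.ofFinite CG[P]
  obtain ⟨ξ, hξ⟩ := IsPBlock.nonempty hM he
  have : Finite (ConjClasses CG[P]) := Quotient.finite _
  letI := Fintype.ofFinite (ConjClasses CG[P])
  set oe := orbitIdem M P e
  set R := Subgroup.zpowers g
  have hR : IsPGroup p R := by
    refine IsPGroup.iff_card.2 ?_
    obtain ⟨k, hk⟩ := hg
    exact ⟨k, by rw [Nat.card_zpowers, hk]⟩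
  have hginv := (stabilizesBlock_iff hM hgN he).1 hst
  have hstab : ∀ u ∈ R, u ∈ Subgroup.normalizer (P : Set G) ⊓ invSubgroup (sbc CG[P] e) :=
    fun u hu => (Subgroup.zpowers_le.2 (Subgroup.mem_inf.2
      ⟨hgN, show g ∈ invSubgroup (sbc CG[P] e) from fun x => hginv g (Set.mem_singleton g) x⟩)) hu
  let φ : R → CG[P] ≃* CG[P] := fun u => BlockChar.conjIso CG[P] CG[P] u
    (mem_centralizer_iff_of_mem_normalizer (hstab u u.2).1)
  have hφ : ∀ u a, ((φ u a : CG[P]) : G) = (u : G) * a * (u : G)⁻¹ := fun _ _ => rfl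
  letI : MulAction R (ConjClasses CG[P]) :=
    { smul := fun u => ConjClasses.map (φ u).toMonoidHom
      one_smul := fun D => by
        induction D using Quotient.inductionOn with
        | h a =>
          show ConjClasses.mk (φ 1 a) = ConjClasses.mk a
          congr 1
          exact Subtype.ext (by rw [hφ]; simp)
      mul_smul := fun u v D => by
        induction D using Quotient.inductionOn with
        | h a =>
          show ConjClasses.mk (φ (u * v) a) = ConjClasses.mk (φ u (φ v a))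
          congr 1
          exact Subtype.ext (by rw [hφ, hφ, hφ]; simp [mul_assoc]) }
  let T : ConjClasses CG[P] → ℂ := fun D =>
    oe (D.out : G) * Cfsg.centralChar (ξ : CG[P] → ℂ) D.out
  have hoecl : ∀ {a b : CG[P]}, IsConj a b → oe (a : G) = oe (b : G) := fun {a b} h => by
    obtain ⟨c, rfl⟩ := isConj_iff.1 h
    exact (isInv_orbitIdem_centralizer (c : G) c.2 (a : G)).symm
  have hTR : ∀ D, Cfsg.MemLocalRing M (T D) := fun D =>
    (localRing hM).mul_mem (memLocalRing_orbitIdem hM _) (memLocalRing_centralChar hM ξ.2 _)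
  have hsum : Cfsg.MemLocalIdeal M (∑ D, T D - 1) := by
    have h1 : Cfsg.brauerOmega P oe (ξ : CG[P] → ℂ) = 1 := by
      rw [brauerOmega_orbitIdem hM ξ, if_pos]
      rw [← IsPBlock.eq_blockOf hM he hξ]
      exact ⟨1, one_mem _, fun g => by simp⟩
    rw [brauerOmega_eq, omega_eq_sum_classes (Char.isClassFunction_of_isIrr ξ.2)
      isInv_orbitIdem_centralizer.isClassFunction_res] at h1
    rw [show ∑ D, T D = 1 from h1, sub_self]
    exact memLocalIdeal_zero hM
  have hTinv : ∀ (u : R) D, Cfsg.MemLocalIdeal M (T (u • D) - T D) := by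
    intro u D
    have hout : IsConj (u • D).out (φ u D.out) := by
      refine ConjClasses.mk_eq_mk_iff_isConj.1 ?_
      have e1 : ConjClasses.mk (u • D).out = u • D := Quotient.out_eq _
      rw [e1]
      conv_lhs => rw [← Quotient.out_eq D]
      rfl
    have h1 : oe ((u • D).out : G) = oe (D.out : G) := by
      rw [hoecl hout, hφ]
      exact isInv_orbitIdem_normalizer (u : G) (hstab u u.2).1 _
    have h2 : Cfsg.centralChar (ξ : CG[P] → ℂ) (u • D).out =
        Cfsg.centralChar (compIrr (φ u) ξ : CG[P] → ℂ) D.out := by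
      rw [centralChar_compIrr]
      obtain ⟨c, hc⟩ := isConj_iff.1 hout
      rw [← hc]
      have hcl := Char.isClassFunction_of_isIrr ξ.2
      rw [Cfsg.centralChar, Cfsg.centralChar, hcl _ c]
      congr 3
      rw [← Char.card_isConj_eq_index, ← Char.card_isConj_eq_index]
      refine Nat.card_congr (Equiv.subtypeEquivRight fun d => ?_)
      exact ⟨fun h => (isConj_iff.2 ⟨c, rfl⟩).symm.trans h, fun h => (isConj_iff.2 ⟨c, rfl⟩).trans h⟩
    have hmem : compIrr (φ u) ξ ∈ e := by
      have heq : mapBlock (φ u) e = e := sbc_injective (funext fun x => by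
        rw [sbc_mapBlock]
        have := (hstab u u.2).2 ((u : G)⁻¹ * x * u)
        rw [show (u : G) * ((u : G)⁻¹ * x * u) * (u : G)⁻¹ = x by group] at this
        exact this.symm)
      rw [← heq] at hξ
      exact hξ
    have h3 := IsPBlock.sameBlock hM he hmem hξ D.out
    simp only [T, h1, h2, ← mul_sub]
    exact memLocalIdeal_mul_left hM (memLocalRing_orbitIdem hM _) h3
  -- exactly invariant representatives
  let σ : Cfsg.AlgInt ⧸ M → Cfsg.AlgInt := Function.surjInv Ideal.Quotient.mk_surjective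
  let F : ConjClasses CG[P] → ℂ := fun D => ((σ (residue hM ⟨T D, hTR D⟩) : Cfsg.AlgInt) : ℂ)
  have hFT : ∀ D, Cfsg.MemLocalIdeal M (F D - T D) := fun D => by
    refine (residue_eq_iff hM ⟨F D, memLocalRing_coe hM _⟩ ⟨T D, hTR D⟩).1 ?_
    rw [residue_coe]
    exact Function.surjInv_eq Ideal.Quotient.mk_surjective _
  have hFinv : ∀ (u : R) D, F (u • D) = F D := fun u D => by
    simp only [F]
    rw [(residue_eq_iff hM ⟨T (u • D), hTR (u • D)⟩ ⟨T D, hTR D⟩).2 (hTinv u D)]
  obtain ⟨D, hDfix, hD⟩ : ∃ D ∈ MulAction.fixedPoints R (ConjClasses CG[P]),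
      ¬ Cfsg.MemLocalIdeal M (oe (D.out : G)) := by
    by_contra hno
    refine not_memLocalIdeal_one hM ?_
    have h1 := memLocalIdeal_sum_sub_fixed hM hR F (fun D => memLocalRing_coe hM _) hFinv
    have h2 : Cfsg.MemLocalIdeal M
        (∑ D ∈ Finset.univ.filter (· ∈ MulAction.fixedPoints R (ConjClasses CG[P])), F D) := by
      refine memLocalIdeal_sum hM _ fun D hD => ?_
      have h3 : Cfsg.MemLocalIdeal M (T D) := memLocalIdeal_mul_right hM
        (not_not.1 fun h => hno ⟨D, (Finset.mem_filter.1 hD).2, h⟩)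
        (memLocalRing_centralChar hM ξ.2 _)
      simpa using memLocalIdeal_add hM (hFT D) h3
    have h3 := memLocalIdeal_sum hM (Finset.univ : Finset (ConjClasses CG[P])) fun D _ => hFT D
    rw [Finset.sum_sub_distrib] at h3
    have := memLocalIdeal_sub hM (memLocalIdeal_sub hM (memLocalIdeal_add hM h1 h2) h3) hsum
    simpa using this
  set x : G := (D.out : G)
  have hfix := hDfix ⟨g, Subgroup.mem_zpowers g⟩
  have hconj : IsConj D.out (φ ⟨g, Subgroup.mem_zpowers g⟩ D.out) := by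
    refine ConjClasses.mk_eq_mk_iff_isConj.1 ?_
    have e1 : ConjClasses.mk D.out = D := Quotient.out_eq D
    conv_lhs => rw [e1, ← hfix, ← e1]
    rfl
  obtain ⟨c, hc⟩ := isConj_iff.1 hconj
  have hc' : (c : G) * x * (c : G)⁻¹ = g * x * g⁻¹ := by
    have := congrArg (fun a : CG[P] => (a : G)) hc
    simpa [hφ, x] using this
  set z := (c : G)⁻¹ * g
  have hzx : z * x * z⁻¹ = x := by
    rw [show z * x * z⁻¹ = (c : G)⁻¹ * (g * x * g⁻¹) * c by simp only [z]; group, ← hc']
    group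
  have hCN : CG[P] ≤ Subgroup.normalizer (P : Set G) := fun a ha =>
    Subgroup.mem_normalizer_iff.2 fun b => by
      constructor
      · intro hb
        rwa [← Subgroup.mem_centralizer_iff.1 ha b hb, mul_inv_cancel_right]
      · intro hb
        have h1 := Subgroup.mem_centralizer_iff.1 ha _ hb
        have h2 : a * b * a⁻¹ = b := by
          have h3 : a⁻¹ * (a * b * a⁻¹ * a) = a⁻¹ * (a * (a * b * a⁻¹)) := by rw [h1]
          simpa [mul_assoc] using h3.symm
        rwa [h2] at hb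
  have hzN : z ∈ Subgroup.normalizer (P : Set G) := mul_mem (inv_mem (hCN c.2)) hgN
  have hS := isSylC_of_unit hM hmax hD
  have hzC : z ∈ Subgroup.centralizer ({x} : Set G) :=
    Subgroup.mem_centralizer_singleton_iff.2 (mul_inv_eq_iff_eq_mul.1 hzx)
  -- the p-part of `z` is in `P`
  have hzP : pPartOf p z ∈ P := by
    obtain ⟨j, hj⟩ := orderOf_pPartOf hp z
    have hZp : IsPGroup p (Subgroup.zpowers (pPartOf p z)) :=
      IsPGroup.iff_card.2 ⟨j, by rw [Nat.card_zpowers, hj]⟩
    have hnorm : Subgroup.zpowers (pPartOf p z) ≤ Subgroup.normalizer (P : Set G) :=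
      Subgroup.zpowers_le.2 (pow_mem hzN _)
    have hK := IsPGroup.to_sup_of_normal_left' hmax.1.1.1 hZp hnorm
    have hKC : P ⊔ Subgroup.zpowers (pPartOf p z) ≤ Subgroup.centralizer ({x} : Set G) :=
      sup_le hS.1 (Subgroup.zpowers_le.2 (pow_mem hzC _))
    obtain ⟨S', hS', hle⟩ := DefectThms.exists_le_isSylC hK hKC
    have : P = S' := Subgroup.eq_of_le_of_card_ge (le_sup_left.trans hle)
      (le_of_eq (by rw [hS'.2.2, hS.2.2]))
    rw [this]
    exact hle (Subgroup.mem_sup_right (Subgroup.mem_zpowers _))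
  set H := P ⊔ CG[P]
  have hzH : z ∈ Subgroup.normalizer (H : Set G) := by
    refine Subgroup.mem_normalizer_iff.2 fun a => ?_
    have key : ∀ b ∈ Subgroup.normalizer (P : Set G), H ≤ H.comap (MulAut.conj b).toMonoidHom := by
      intro b hb
      refine sup_le (fun q hq => Subgroup.mem_sup_left ?_) fun q hq => Subgroup.mem_sup_right ?_
      · exact (Subgroup.mem_normalizer_iff.1 hb q).1 hq
      · exact (mem_centralizer_iff_of_mem_normalizer hb q).1 hq
    exact ⟨fun ha => key z hzN ha, fun ha => by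
      have := key z⁻¹ (inv_mem hzN) ha
      simpa [mul_assoc] using this⟩
  have hgz : g = (c : G) * z := by simp [z]
  set m := orderOf (pPrimePartOf p z) with hm
  have hzm : z ^ m ∈ H := by
    have h1 : z ^ m = pPartOf p z ^ m * pPrimePartOf p z ^ m := by
      rw [← (commute_pPartOf_pPrimePartOf z).mul_pow, pPartOf_mul_pPrimePartOf hp z]
    rw [h1, hm, pow_orderOf_eq_one, mul_one]
    exact Subgroup.mem_sup_left (pow_mem hzP _)
  have hgm : g ^ m ∈ H := by
    have h1 := mul_pow_mem hzH (Subgroup.mem_sup_right c.2 : (c : G) ∈ H) m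
    rw [← hgz] at h1
    have h2 := mul_mem h1 hzm
    simpa using h2
  obtain ⟨k, hk⟩ := hg
  have hco : Nat.Coprime (p ^ k) m :=
    Nat.Coprime.pow_left k ((hp.coprime_iff_not_dvd).2 (not_dvd_orderOf_pPrimePartOf hp z))
  have hbez := Nat.gcd_eq_gcd_ab (p ^ k) m
  rw [Nat.Coprime.gcd_eq_one hco] at hbez
  have : g = (g ^ (p ^ k)) ^ (Nat.gcdA (p ^ k) m) * (g ^ m) ^ (Nat.gcdB (p ^ k) m) := by
    rw [← zpow_natCast g (p ^ k), ← zpow_natCast g m, ← zpow_mul, ← zpow_mul, ← zpow_add, ← hbez]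
    simp
  apply hgPC
  rw [this, ← hk, pow_orderOf_eq_one, one_zpow, one_mul]
  exact zpow_mem hgm _

theorem isMaximal_of_criterion (hM : Cfsg.IsPModular p M) (hPe : Cfsg.IsBrauerPair p M P e)
    {θ : Cfsg.IrrCharacter CG[P]} (hθ : θ ∈ e)
    (htriv : ∀ z : CG[P], (z : G) ∈ P → (θ : CG[P] → ℂ) z = (θ : CG[P] → ℂ) 1)
    (hdeg : (Cfsg.charDegree (θ : CG[P] → ℂ)).factorization p +
      (Nat.card ↥(P ⊓ CG[P])).factorization p = (Nat.card CG[P]).factorization p)
    (hst : ∀ g : G, g ∈ Subgroup.normalizer (P : Set G) → Cfsg.StabilizesBlock CG[P] e g →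
      (∃ k : ℕ, orderOf g = p ^ k) → g ∈ P ⊔ CG[P]) :
    ∃ B : Set (Cfsg.IrrCharacter G), Cfsg.IsMaximalBrauerPair p M B P e := by
  classical
  haveI := Fact.mk hM.1
  have := Fintype.ofFinite G
  obtain ⟨B, hB⟩ := exists_isBrauerPairOf hM hPe
  refine ⟨B, hB, fun R g hR hle => ?_⟩
  by_contra hne
  have hPR : P ≤ R := BlockChar.le_of_subpairLE hle
  set R₁ := R ⊓ Subgroup.normalizer (P : Set G)
  have hlt : P < R₁ := lt_of_le_of_ne (le_inf hPR Subgroup.le_normalizer) fun h =>
    hne (Embedded.eq_of_normalizer_inf_le hR.1.1 hPR h.ge).symm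
  obtain ⟨g₁, hg₁, -⟩ := existsUnique_subpairLE hM hR.1 (inf_le_left : R₁ ≤ R)
  obtain ⟨f, hf, -⟩ := existsUnique_normalSubpair hM (isBrauerPair_of_subpairLE hR.1 hg₁)
    hlt.le inf_le_right
  have hfe : f = e := (existsUnique_subpairLE hM hR.1 hPR).unique
    (Relation.ReflTransGen.head (show Cfsg.NormalSubpairRel p M ⟨P, f⟩ ⟨R₁, g₁⟩ from hf) hg₁) hle
  subst hfe
  have hR₁ : IsPGroup p R₁ := hf.2.1.1
  have hsub : R₁ ≤ P ⊔ CG[P] := fun r hr => by
    refine hst r hr.2 (hf.2.2.2.2.1 r hr) ?_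
    obtain ⟨k, hk⟩ := IsPGroup.iff_orderOf.1 hR₁ ⟨r, hr⟩
    exact ⟨k, by rw [← hk, ← Subgroup.orderOf_coe]⟩
  have hCN : CG[P] ≤ Subgroup.normalizer (P : Set G) := fun a ha =>
    Subgroup.mem_normalizer_iff.2 fun b => by
      constructor
      · intro hb
        rwa [← Subgroup.mem_centralizer_iff.1 ha b hb, mul_inv_cancel_right]
      · intro hb
        have h1 := Subgroup.mem_centralizer_iff.1 ha _ hb
        have h2 : a * b * a⁻¹ = b := by
          have h3 : a⁻¹ * (a * b * a⁻¹ * a) = a⁻¹ * (a * (a * b * a⁻¹)) := by rw [h1]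
          simpa [mul_assoc] using h3.symm
        rwa [h2] at hb
  obtain ⟨r, hr, hrP⟩ := SetLike.exists_of_lt hlt
  have hr' : r ∈ ((P ⊔ CG[P] : Subgroup G) : Set G) := hsub hr
  rw [sup_comm, Subgroup.coe_mul_of_left_le_normalizer_right _ _ hCN] at hr'
  obtain ⟨c, hc, q, hq, hcq⟩ := Set.mem_mul.1 hr'
  have hcR : c ∈ R₁ := by
    have : c = r * q⁻¹ := by rw [← hcq, mul_inv_cancel_right]
    rw [this]
    exact mul_mem hr (inv_mem (hlt.le hq))
  have hcP : c ∉ P := fun h => hrP (hcq ▸ mul_mem h hq)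
  -- a point of `C(R₁)` where the idempotent of `e` is a unit
  letI := Fintype.ofFinite CG[R₁]
  obtain ⟨η, hη⟩ := IsPBlock.nonempty hM hf.2.1.2
  obtain ⟨y, hyR, hy⟩ : ∃ y ∈ CG[R₁], ¬ Cfsg.MemLocalIdeal M (sbc CG[P] f y) := by
    by_contra hno
    have h2 := brauerOmega_congr hM (P := R₁) (isInv_sbc_centralizer hlt.le f)
      (fun _ _ _ => rfl : IsInv _ (0 : G → ℂ))
      (fun x hx => by
        simpa using not_not.1 fun h' => hno ⟨x, hx, h'⟩) η
    rw [show Cfsg.brauerOmega R₁ (0 : G → ℂ) (η : CG[R₁] → ℂ) = 0 by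
      simp [brauerOmega_eq, omega], sub_zero] at h2
    exact not_memLocalIdeal_one hM (by
      simpa [R₁] using memLocalIdeal_sub hM h2 (hf.2.2.2.2.2 η hη))
  have hyC : y ∈ CG[P] := centralizer_mono hlt.le hyR
  set S0 := R₁.subgroupOf CG[P]
  have hS0 : IsPGroup p S0 := hR₁.comap_of_injective _ (Subgroup.subtype_injective _)
  have hS0C : S0 ≤ Subgroup.centralizer ({(⟨y, hyC⟩ : CG[P])} : Set CG[P]) := fun s hs =>
    Subgroup.mem_centralizer_singleton_iff.2 (Subtype.ext
      (Subgroup.mem_centralizer_iff.1 hyR (s : G) (Subgroup.mem_subgroupOf.1 hs)))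
  obtain ⟨S, hS, hle'⟩ := DefectThms.exists_le_isSylC hS0 hS0C
  obtain ⟨gd, hgd⟩ := exists_isDefectClass hM hPe.2
  obtain ⟨D, hD⟩ := DefectThms.exists_isSylC p gd
  obtain ⟨k, hk⟩ := DefectThms.exists_conj_le_of_unit_coeff hM hPe.2 hgd hD
    (h := (⟨y, hyC⟩ : CG[P])) (by rw [← sbc_apply]; exact hy) hS
  have hDcard := BlockChar.card_defectGroup hM hPe.2 (DefectThms.isDefectGroup_iff.2 ⟨gd, hgd, hD⟩)
  haveI := normal_inter_centralizer P
  have hZ : IsPGroup p (P.subgroupOf CG[P]) :=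
    hPe.1.comap_of_injective _ (Subgroup.subtype_injective _)
  have hdef := blockDefect_le_of_central hM hPe.2 hθ (P.subgroupOf CG[P]) hZ
    (fun z hz => commute_of_mem_subgroupOf hz)
    (fun z hz => htriv z (Subgroup.mem_subgroupOf.1 hz)) (by rwa [card_inter_centralizer])
  have hlt' : P.subgroupOf CG[P] < S0 := by
    refine lt_of_le_of_ne (fun z hz => Subgroup.mem_subgroupOf.2
      (hlt.le (Subgroup.mem_subgroupOf.1 hz))) fun h => hcP ?_
    have : (⟨c, hc⟩ : CG[P]) ∈ S0 := Subgroup.mem_subgroupOf.2 hcR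
    rw [← h] at this
    exact Subgroup.mem_subgroupOf.1 this
  have h1 : Nat.card (P.subgroupOf CG[P]) < Nat.card S0 := by
    by_contra hcon
    exact hlt'.ne (Subgroup.eq_of_le_of_card_ge hlt'.le (not_lt.1 hcon))
  have h2 : Nat.card S0 ≤ p ^ Cfsg.blockDefect p f := by
    rw [← hDcard]
    calc Nat.card S0 ≤ Nat.card S := Subgroup.card_le_of_le hle'
      _ = Nat.card (S.map (MulAut.conj k).toMonoidHom) := (DefectThms.card_map_conj S k).symm
      _ ≤ Nat.card D := Subgroup.card_le_of_le hk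
  obtain ⟨j, hj⟩ := IsPGroup.iff_card.1 hZ
  rw [hj, hM.1.factorization_pow, Finsupp.single_eq_same] at hdef
  have := Nat.pow_le_pow_right hM.1.pos hdef
  omega

end Cfsg.Agent.BrauerPairs
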