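import Cfsg.Agent.BrauerPairs.Nilpotent

/-!
# A centric pair fixed by the whole group
-/

namespace Cfsg.Agent.BrauerPairs

open Cfsg.Agent Cfsg.Agent.Blocks

universe u

variable {G : Type u} [Group G] [Finite G] {p : ℕ} {M : Ideal Cfsg.AlgInt}

local notation "CG[" Q "]" => Subgroup.centralizer (SetLike.coe Q)
local notation "sbc" => Cfsg.subgroupBlockCoeff

theorem isNormalSubpair_refl (hM : Cfsg.IsPModular p M) {Q : Subgroup G}
    {f : Set (Cfsg.IrrCharacter CG[Q])} (h : Cfsg.IsBrauerPair p M Q f) :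
    Cfsg.IsNormalSubpair p M Q f Q f := by
  obtain ⟨f', hf', -⟩ := existsUnique_normalSubpair hM h le_rfl Subgroup.le_normalizer
  have h1 := eq_of_isNormalSubpair_self hM hf'
  rwa [h1] at hf'

variable {B : Set (Cfsg.IrrCharacter G)} {Q : Subgroup G} {f : Set (Cfsg.IrrCharacter CG[Q])}

/-- If the whole group fixes `(Q, f)`, the block is given by the idempotent of `f`. -/
theorem blockCoeff_eq_sbc_of_fixed (hM : Cfsg.IsPModular p M)
    (hQf : Cfsg.IsBrauerPairOf p M B Q f) (hN : ∀ x : G, x ∈ Subgroup.normalizer (Q : Set G))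
    (hinv : IsInv (Set.univ : Set G) (sbc CG[Q] f)) (g : G) :
    Cfsg.blockCoeff B g = sbc CG[Q] f g := by
  obtain ⟨E, hE, hc⟩ := exists_block_of_stable hM (T := (⊤ : Subgroup G)) hQf.1.1 le_top le_top
    (fun x _ => hN x) hQf.1.2 fun k _ => hinv k trivial
  have hco : ∀ t : G, Cfsg.blockCoeff (mapBlock (Subgroup.topEquiv (G := G)) E) t =
      sbc CG[Q] f t := fun t => by
    rw [show t = Subgroup.topEquiv (G := G) ⟨t, trivial⟩ from rfl, blockCoeff_mapBlock, hc]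
    rfl
  have hpair : Cfsg.IsBrauerPairOf p M (mapBlock (Subgroup.topEquiv (G := G)) E) Q f := by
    refine ⟨hQf.1, isPBlock_mapBlock _ hE, fun ξ hξ => ?_⟩
    rw [show Cfsg.blockCoeff (mapBlock (Subgroup.topEquiv (G := G)) E) = sbc CG[Q] f from
      funext hco]
    exact (isNormalSubpair_refl hM hQf.1).2.2.2.2.2 ξ hξ
  rw [block_unique hM hQf hpair, hco]

variable {P : Subgroup G} {e : Set (Cfsg.IrrCharacter CG[P])} {F : Cfsg.FusionSystem P}

theorem exists_nilpotent_block_mul (hM : Cfsg.IsPModular p M)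
    (hF : Cfsg.IsBlockFusionSystemOn p M B P e F) (hle : Cfsg.SubpairLE p M Q f P e)
    (hcen : F.IsCentric Q) (hQn : ∀ x : G, x ∈ Subgroup.normalizer (Q : Set G)) :
    ∃ F' : Set (Cfsg.IrrCharacter ↥(Q ⊔ CG[Q])), Cfsg.IsPBlock M F' ∧
      (∀ t : ↥(Q ⊔ CG[Q]), Cfsg.blockCoeff F' t = sbc CG[Q] f (t : G)) ∧
      Cfsg.IsNilpotentBlock p M F' := by
  classical
  haveI := Fact.mk hM.1
  have hmax := hF.1
  have hQf := isBrauerPair_of_subpairLE hmax.1.1 hle
  have hQP : Q ≤ P := BlockChar.le_of_subpairLE hle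
  have hCN : CG[Q] ≤ Subgroup.normalizer (Q : Set G) := fun x _ => hQn x
  set L := Q ⊔ CG[Q] with hL
  have hQL : Q ≤ L := le_sup_left
  have hCL : CG[Q] ≤ L := le_sup_right
  have hLN : L ≤ Subgroup.normalizer (Q : Set G) := fun x _ => hQn x
  have hmul : ∀ y ∈ L, ∃ q ∈ Q, ∃ c ∈ CG[Q], q * c = y := by
    intro y hy
    have h' : y ∈ ((Q ⊔ CG[Q] : Subgroup G) : Set G) := hy
    rw [sup_comm, Subgroup.coe_mul_of_left_le_normalizer_right _ _ hCN] at h'
    obtain ⟨c, hc, q, hq, hcq⟩ := Set.mem_mul.1 h'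
    exact ⟨q, hq, c, hc, by rw [Subgroup.mem_centralizer_iff.1 hc q hq, hcq]⟩
  have hinv : IsInv (L : Set G) (sbc CG[Q] f) := by
    have : L ≤ invSubgroup (sbc CG[Q] f) :=
      sup_le (fun k hk x => isInv_sbc_of_mem_centralizer Q f k hk x)
        fun k hk x => isInv_sbc f k hk x
    exact fun k hk => this hk
  obtain ⟨E, hE, hcoeff⟩ := exists_block_of_stable hM hQf.1 hQL hCL hLN hQf.2 hinv
  have hself : F.IsConj Q Q := (isConj_iff_exists hM hF hle Q).2
    ⟨1, (DefectThms.map_conj_one Q).symm, by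
      have h' : PairLE p M (conjPair 1 ⟨Q, f⟩) ⟨P, e⟩ := by rw [conjPair_one]; exact hle
      exact h'⟩
  have hPL : P ⊓ L = Q := by
    refine le_antisymm ?_ (le_inf hQP hQL)
    rintro y ⟨hyP, hyL⟩
    obtain ⟨q, hq, c, hc, rfl⟩ := hmul y hyL
    refine Subgroup.mul_mem _ hq (hcen.2 Q hself ⟨?_, hc⟩)
    simpa using P.mul_mem (P.inv_mem (hQP hq)) hyP
  have hD : Cfsg.IsDefectGroup p M E ((P ⊓ L).subgroupOf L) := by
    rw [isDefectGroup_iff_max hM hmax hle hCL hLN hE hcoeff]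
    intro g _
    have hLg : L.map (MulAut.conj g).toMonoidHom = L := by
      rw [hL, Subgroup.map_sup, map_centralizer_eq, map_conj_eq (hQn g)]
    rw [hLg]
  have hCQL : CG[Q] ≤ L := hCL
  have hpair := isBrauerPairOf_res hQL hCQL hM hE hcoeff (isNormalSubpair_refl hM hQf)
  have hmaxQ : Cfsg.IsMaximalBrauerPair p M E (Q.subgroupOf L) (resBlock hQL hCQL f) := by
    refine ⟨hpair, fun R r hR hRle => ?_⟩
    obtain ⟨a, ha, hale⟩ := exists_maximal_above hM hR
    have h1 := BlockChar.card_defectGroup hM hE (isDefectGroup_of_maximal hM ha)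
    have h2 := BlockChar.card_defectGroup hM hE hD
    rw [hPL] at h2
    exact (Subgroup.eq_of_le_of_card_ge (BlockChar.le_of_subpairLE hRle) (by
      rw [h2, ← h1]; exact Subgroup.card_le_of_le (BlockChar.le_of_subpairLE hale))).symm
  refine ⟨E, hE, hcoeff, ?_⟩
  obtain ⟨FL, hFL⟩ := exists_isBlockFusionSystemOn hM hmaxQ
  refine nilpotent_of_hom_eq_inner hM hFL fun R φ hφ => ?_
  obtain ⟨hR, g, hg, -⟩ := (hFL.2 R φ).1 hφ
  obtain ⟨q, hq, c, hc, hqc⟩ := hmul g g.2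
  refine ⟨hR, ⟨q, hQL hq⟩, Subgroup.mem_subgroupOf.2 hq, fun u => ?_⟩
  rw [hg]
  apply Subtype.ext
  show (g : G) * ((u : L) : G) * (g : G)⁻¹ = q * ((u : L) : G) * q⁻¹
  have hu : ((u : L) : G) ∈ Q := Subgroup.mem_subgroupOf.1 (hR u.2)
  calc (g : G) * ((u : L) : G) * (g : G)⁻¹ = q * (c * ((u : L) : G) * c⁻¹) * q⁻¹ := by
        rw [← hqc]; group
    _ = _ := by rw [← Subgroup.mem_centralizer_iff.1 hc _ hu, mul_inv_cancel_right]

end Cfsg.Agent.BrauerPairs
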