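import Cfsg.Agent.BrauerPairs.Normal

/-!
# Inclusion of Brauer pairs: the pair on each subgroup is unique
-/

namespace Cfsg.Agent.BrauerPairs

open Cfsg.Agent Cfsg.Agent.Blocks

universe u

variable {G : Type u} [Group G] {p : ℕ} {M : Ideal Cfsg.AlgInt}

local notation "CG[" Q "]" => Subgroup.centralizer (SetLike.coe Q)
local notation "sbc" => Cfsg.subgroupBlockCoeff

variable [Finite G]

omit [Finite G] in
theorem mem_centralizer_iff_forall (Q : Subgroup G) (a : G) :
    a ∈ CG[Q] ↔ ∀ u ∈ Q, u * a = a * u :=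
  Subgroup.mem_centralizer_iff

theorem memLocalIdeal_brauerOmega_block (hM : Cfsg.IsPModular p M) {Q : Subgroup G}
    (hQ : IsPGroup p Q) {e : Set (Cfsg.IrrCharacter CG[Q])} (he : Cfsg.IsPBlock M e)
    {B : Set (Cfsg.IrrCharacter G)} (hB : Cfsg.IsPBlock M B) {ξ : Cfsg.IrrCharacter CG[Q]}
    (hξ : ξ ∈ e)
    (h : Cfsg.MemLocalIdeal M
      (Cfsg.brauerOmega Q (Cfsg.blockCoeff B) (ξ : CG[Q] → ℂ) - 1)) :
    Cfsg.IsBrauerPairOf p M B Q e := by
  classical
  have := Fintype.ofFinite G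
  letI := Fintype.ofFinite CG[Q]
  refine ⟨⟨hQ, he⟩, hB, fun η hη => ?_⟩
  have := memLocalIdeal_add hM (brauerOmega_sameBlock hM
    (IsInv.of_isClassFunction (isClassFunction_blockCoeff B) _) (memLocalRing_blockCoeff hM hB)
    he hη hξ) h
  simpa using this

/-- Every Brauer pair belongs to a block. -/
theorem exists_isBrauerPairOf (hM : Cfsg.IsPModular p M) {Q : Subgroup G}
    {e : Set (Cfsg.IrrCharacter CG[Q])} (hQe : Cfsg.IsBrauerPair p M Q e) :
    ∃ B : Set (Cfsg.IrrCharacter G), Cfsg.IsBrauerPairOf p M B Q e := by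
  classical
  have := Fintype.ofFinite G
  letI := Fintype.ofFinite CG[Q]
  obtain ⟨hQ, he⟩ := hQe
  obtain ⟨ξ, hξ⟩ := IsPBlock.nonempty hM he
  obtain ⟨χ, hχ⟩ := (isCenHom_res hM hQ (mem_centralizer_iff_forall Q) ξ).exists_char hM
  refine ⟨_, memLocalIdeal_brauerOmega_block hM hQ he (isPBlock_blockOf χ) hξ ?_⟩
  have h := hχ _ (isClassFunction_blockCoeff (Cfsg.blockOf M (χ : G → ℂ)))
    (memLocalRing_blockCoeff hM (isPBlock_blockOf χ))
  rw [omega_blockCoeff, if_pos (mem_blockOf_self hM χ)] at h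
  rwa [brauerOmega_eq]

/-- A Brauer pair belongs to only one block. -/
theorem block_unique (hM : Cfsg.IsPModular p M) {Q : Subgroup G}
    {e : Set (Cfsg.IrrCharacter CG[Q])} {B B' : Set (Cfsg.IrrCharacter G)}
    (h : Cfsg.IsBrauerPairOf p M B Q e) (h' : Cfsg.IsBrauerPairOf p M B' Q e) : B = B' := by
  classical
  have := Fintype.ofFinite G
  letI := Fintype.ofFinite CG[Q]
  obtain ⟨ξ, hξ⟩ := IsPBlock.nonempty hM h.1.2
  obtain ⟨χ, hχ⟩ := (isCenHom_res hM h.1.1 (mem_centralizer_iff_forall Q) ξ).exists_char hM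
  have key : ∀ C : Set (Cfsg.IrrCharacter G), Cfsg.IsBrauerPairOf p M C Q e → χ ∈ C := by
    intro C hC
    by_contra hn
    have h1 := hχ _ (isClassFunction_blockCoeff C) (memLocalRing_blockCoeff hM hC.2.1)
    rw [omega_blockCoeff, if_neg hn, sub_zero, ← brauerOmega_eq] at h1
    exact not_memLocalIdeal_one hM (by simpa using memLocalIdeal_sub hM h1 (hC.2.2 ξ hξ))
  rw [IsPBlock.eq_blockOf hM h.2.1 (key B h), IsPBlock.eq_blockOf hM h'.2.1 (key B' h')]

/-- Pairs related by a normal inclusion belong to the same block. -/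
theorem isBrauerPairOf_of_normal (hM : Cfsg.IsPModular p M) {Q P : Subgroup G}
    {f : Set (Cfsg.IrrCharacter CG[Q])} {e : Set (Cfsg.IrrCharacter CG[P])}
    (hle : Cfsg.IsNormalSubpair p M Q f P e) {B : Set (Cfsg.IrrCharacter G)}
    (h : Cfsg.IsBrauerPairOf p M B Q f) : Cfsg.IsBrauerPairOf p M B P e := by
  classical
  have := Fintype.ofFinite G
  refine ⟨hle.2.1, h.2.1, fun ξ hξ => ?_⟩
  have hB := isClassFunction_blockCoeff B
  exact brauerOmega_trans hM hle.2.1.1 hle.2.2.1 hle.2.2.2.1 (IsInv.of_isClassFunction hB _)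
    (IsInv.of_isClassFunction hB _) (memLocalRing_blockCoeff hM h.2.1) (blockCoeff_conv B)
    hle.1.2 (isInv_of_stabilizes hM hle.2.2.2.1 hle.1.2 hle.2.2.2.2.1) h.2.2 ξ (hle.2.2.2.2.2 ξ hξ)

/-- Pairs one below the other belong to the same block. -/
theorem isBrauerPairOf_iff_of_subpairLE (hM : Cfsg.IsPModular p M) {Q P : Subgroup G}
    {f : Set (Cfsg.IrrCharacter CG[Q])} {e : Set (Cfsg.IrrCharacter CG[P])}
    (hle : Cfsg.SubpairLE p M Q f P e) (B : Set (Cfsg.IrrCharacter G)) :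
    Cfsg.IsBrauerPairOf p M B P e ↔ Cfsg.IsBrauerPairOf p M B Q f := by
  suffices ∀ a b : Cfsg.BrauerPairIdx G,
      Relation.ReflTransGen (Cfsg.NormalSubpairRel p M) a b →
        (Cfsg.IsBrauerPairOf p M B b.1 b.2 ↔ Cfsg.IsBrauerPairOf p M B a.1 a.2) from
    this _ _ hle
  intro a b hab
  induction hab with
  | refl => rfl
  | tail _ hbc ih =>
    refine Iff.trans ⟨fun h => ?_, isBrauerPairOf_of_normal hM hbc⟩ ih
    obtain ⟨B', hB'⟩ := exists_isBrauerPairOf hM hbc.1
    rwa [block_unique hM h (isBrauerPairOf_of_normal hM hbc hB')]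

theorem isBrauerPair_of_subpairLE {Q P : Subgroup G} {f : Set (Cfsg.IrrCharacter CG[Q])}
    {e : Set (Cfsg.IrrCharacter CG[P])} (hPe : Cfsg.IsBrauerPair p M P e)
    (hle : Cfsg.SubpairLE p M Q f P e) : Cfsg.IsBrauerPair p M Q f := by
  suffices ∀ a b : Cfsg.BrauerPairIdx G,
      Relation.ReflTransGen (Cfsg.NormalSubpairRel p M) a b →
        Cfsg.IsBrauerPair p M b.1 b.2 → Cfsg.IsBrauerPair p M a.1 a.2 from this _ _ hle hPe
  intro a b hab
  induction hab with
  | refl => exact id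
  | tail _ hbc ih => exact fun _ => ih hbc.1

/-- Below a Brauer pair there is exactly one pair on each subgroup, and it is the normal
predecessor of the pair on the normalizer. -/
theorem existsUnique_subpairLE (hM : Cfsg.IsPModular p M) {P : Subgroup G}
    {e : Set (Cfsg.IrrCharacter CG[P])} (hPe : Cfsg.IsBrauerPair p M P e) {Q : Subgroup G}
    (hQP : Q ≤ P) : ∃! f : Set (Cfsg.IrrCharacter CG[Q]), Cfsg.SubpairLE p M Q f P e := by
  haveI := Fact.mk hM.1
  induction Q using WellFoundedGT.induction with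
  | _ Q ih =>
  -- the common predecessor
  obtain ⟨f₀, hf₀le, hf₀⟩ : ∃ f₀ : Set (Cfsg.IrrCharacter CG[Q]),
      Cfsg.SubpairLE p M Q f₀ P e ∧ ∀ (R : Subgroup G) (g : Set (Cfsg.IrrCharacter CG[R]))
        (f : Set (Cfsg.IrrCharacter CG[Q])), Cfsg.IsNormalSubpair p M Q f R g →
          Cfsg.SubpairLE p M R g P e → Q < R → f = f₀ := by
    by_cases hQ : Q = P
    · subst hQ
      exact ⟨e, Relation.ReflTransGen.refl, fun R g f _ hg hlt =>
        absurd (BlockChar.le_of_subpairLE hg) hlt.not_ge⟩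
    set N := P ⊓ Subgroup.normalizer (Q : Set G) with hN
    have hlt : Q < N := lt_of_le_of_ne (le_inf hQP Subgroup.le_normalizer) fun h =>
      hQ (Embedded.eq_of_normalizer_inf_le hPe.1 hQP h.ge)
    obtain ⟨gN, hgN, -⟩ := ih N hlt inf_le_left
    have hgNB : Cfsg.IsBrauerPair p M N gN := isBrauerPair_of_subpairLE hPe hgN
    obtain ⟨f₀, hf₀, hf₀u⟩ := existsUnique_normalSubpair hM hgNB hlt.le inf_le_right
    refine ⟨f₀, Relation.ReflTransGen.head (show Cfsg.NormalSubpairRel p M ⟨Q, f₀⟩ ⟨N, gN⟩ from hf₀) hgN, ?_⟩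
    -- every intermediate pair has `f₀` as predecessor
    have key : ∀ R : Subgroup G, Q < R → R ≤ N → ∀ g : Set (Cfsg.IrrCharacter CG[R]),
        Cfsg.SubpairLE p M R g P e → Cfsg.IsNormalSubpair p M Q f₀ R g := by
      intro R
      induction R using WellFoundedGT.induction with
      | _ R ihR =>
      intro hQR hRN g hg
      by_cases hR : R = N
      · subst hR
        rwa [(ih N hlt inf_le_left).unique hg hgN]
      set R₁ := N ⊓ Subgroup.normalizer (R : Set G)
      have hRR₁ : R < R₁ := lt_of_le_of_ne (le_inf hRN Subgroup.le_normalizer) fun h =>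
        hR (Embedded.eq_of_normalizer_inf_le hgNB.1 hRN h.ge)
      obtain ⟨g₁, hg₁, -⟩ := ih R₁ (hQR.trans hRR₁) (inf_le_left.trans inf_le_left)
      have h1 := ihR R₁ hRR₁ (hQR.trans hRR₁) inf_le_left g₁ hg₁
      obtain ⟨g', hg', -⟩ := existsUnique_normalSubpair hM h1.2.1 hRR₁.le inf_le_right
      have heq : g = g' := (ih R hQR (hRN.trans inf_le_left)).unique hg
        (Relation.ReflTransGen.head (show Cfsg.NormalSubpairRel p M ⟨R, g'⟩ ⟨R₁, g₁⟩ from hg') hg₁)
      rw [heq]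
      exact isNormalSubpair_of_common hM hQR.le h1 hg'
    intro R g f hf hg hQR
    have hR : R ≤ N := le_inf (BlockChar.le_of_subpairLE hg) hf.2.2.2.1
    exact (existsUnique_normalSubpair hM hf.2.1 hQR.le hf.2.2.2.1).unique hf (key R hQR hR g hg)
  refine ⟨f₀, hf₀le, fun f hf => ?_⟩
  suffices ∀ a : Cfsg.BrauerPairIdx G,
      Relation.ReflTransGen (Cfsg.NormalSubpairRel p M) a ⟨P, e⟩ →
        a.1 = Q → HEq a.2 f₀ from eq_of_heq (this ⟨Q, f⟩ hf rfl)
  intro a ha
  induction ha using Relation.ReflTransGen.head_induction_on with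
  | refl =>
    intro h
    dsimp only at h
    subst h
    refine heq_of_eq ?_
    by_contra hne
    rcases Relation.ReflTransGen.cases_head hf₀le with h | ⟨⟨R, g⟩, hstep, hrest⟩
    · exact hne (eq_of_heq (Sigma.mk.inj h).2).symm
    · have hRP : R = P := le_antisymm (BlockChar.le_of_subpairLE hrest) hstep.2.2.1
      subst hRP
      -- the chain stays at `P`, so it is trivial
      suffices ∀ b : Cfsg.BrauerPairIdx G,
          Relation.ReflTransGen (Cfsg.NormalSubpairRel p M) b ⟨R, e⟩ →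
            b.1 = R → b = ⟨R, e⟩ from
        hne (eq_of_heq (Sigma.mk.inj (this ⟨R, f₀⟩ hf₀le rfl)).2).symm
      intro b hb
      induction hb using Relation.ReflTransGen.head_induction_on with
      | refl => exact fun _ => rfl
      | @head b c hbc hcd ihb =>
        obtain ⟨B₁, b₂⟩ := b
        obtain ⟨C₁, c₂⟩ := c
        intro h
        dsimp only at h
        subst h
        have hC : C₁ = B₁ := le_antisymm (BlockChar.le_of_subpairLE hcd) hbc.2.2.1
        subst hC
        rw [show b₂ = c₂ from eq_of_isNormalSubpair_self hM hbc]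
        exact ihb rfl
  | @head a b hab hbc ihb =>
    obtain ⟨A₁, a₂⟩ := a
    obtain ⟨B₁, b₂⟩ := b
    intro h
    dsimp only at h
    subst h
    rcases eq_or_lt_of_le (show A₁ ≤ B₁ from hab.2.2.1) with rfl | hlt
    · rw [show a₂ = b₂ from eq_of_isNormalSubpair_self hM hab]
      exact ihb rfl
    · exact heq_of_eq (hf₀ B₁ b₂ a₂ hab hbc hlt)

/-- The pair on an intermediate subgroup is between. -/
theorem subpairLE_of_le (hM : Cfsg.IsPModular p M) {P Q R : Subgroup G}
    {e : Set (Cfsg.IrrCharacter CG[P])} {f : Set (Cfsg.IrrCharacter CG[Q])}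
    {g : Set (Cfsg.IrrCharacter CG[R])} (hPe : Cfsg.IsBrauerPair p M P e) (hQR : Q ≤ R)
    (hf : Cfsg.SubpairLE p M Q f P e) (hg : Cfsg.SubpairLE p M R g P e) :
    Cfsg.SubpairLE p M Q f R g := by
  obtain ⟨f', hf', -⟩ := existsUnique_subpairLE hM (isBrauerPair_of_subpairLE hPe hg) hQR
  have hQP : Q ≤ P := BlockChar.le_of_subpairLE hf
  rwa [(existsUnique_subpairLE hM hPe hQP).unique hf (hf'.trans hg)]

/-! ## Conjugation -/

theorem isBrauerPairOf_conj (hM : Cfsg.IsPModular p M) {B : Set (Cfsg.IrrCharacter G)}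
    {Q : Subgroup G} {f : Set (Cfsg.IrrCharacter CG[Q])} (h : Cfsg.IsBrauerPairOf p M B Q f)
    (x : G) :
    Cfsg.IsBrauerPairOf p M B (Q.map (MulAut.conj x).toMonoidHom) (Cfsg.conjBlock Q x f) := by
  classical
  have := Fintype.ofFinite G
  letI := Fintype.ofFinite CG[Q]
  letI := Fintype.ofFinite CG[Q.map (MulAut.conj x).toMonoidHom]
  have hQx := BlockChar.mem_centralizer_iff_conj (Q := Q) (g := x) rfl
  have hcb : Cfsg.conjBlock Q x f =
      mapBlock (BlockChar.conjIso _ _ x hQx) f := conjBlock_eq_mapBlock Q x f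
  rw [hcb]
  refine ⟨⟨h.1.1.map _, isPBlock_mapBlock _ h.1.2⟩, h.2.1, fun ξ' hξ' => ?_⟩
  rw [show Cfsg.blockCoeff B = fun y => Cfsg.blockCoeff B (x⁻¹ * y * x) from funext fun y => by
    have := isClassFunction_blockCoeff B y x⁻¹
    simpa using this.symm, brauerOmega_conjIso x hQx]
  exact h.2.2 _ hξ'

theorem isNormalSubpair_conj (hM : Cfsg.IsPModular p M) {Q P : Subgroup G}
    {f : Set (Cfsg.IrrCharacter CG[Q])} {e : Set (Cfsg.IrrCharacter CG[P])}
    (h : Cfsg.IsNormalSubpair p M Q f P e) (x : G) :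
    Cfsg.IsNormalSubpair p M (Q.map (MulAut.conj x).toMonoidHom) (Cfsg.conjBlock Q x f)
      (P.map (MulAut.conj x).toMonoidHom) (Cfsg.conjBlock P x e) := by
  classical
  letI := Fintype.ofFinite CG[P]
  letI := Fintype.ofFinite CG[P.map (MulAut.conj x).toMonoidHom]
  have hQx := BlockChar.mem_centralizer_iff_conj (Q := Q) (g := x) rfl
  have hPx := BlockChar.mem_centralizer_iff_conj (Q := P) (g := x) rfl
  rw [conjBlock_eq_mapBlock Q x f, conjBlock_eq_mapBlock P x e]
  have hN : P.map (MulAut.conj x).toMonoidHom ≤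
      Subgroup.normalizer ((Q.map (MulAut.conj x).toMonoidHom : Subgroup G) : Set G) :=
    (Subgroup.map_mono h.2.2.2.1).trans (Subgroup.le_normalizer_map _)
  have hinv := isInv_of_stabilizes hM h.2.2.2.1 h.1.2 h.2.2.2.2.1
  refine ⟨⟨h.1.1.map _, isPBlock_mapBlock _ h.1.2⟩, ⟨h.2.1.1.map _, isPBlock_mapBlock _ h.2.1.2⟩,
    Subgroup.map_mono h.2.2.1, hN,
    stabilizes_of_isInv hM hN (isPBlock_mapBlock _ h.1.2) ?_, fun ξ' hξ' => ?_⟩
  · rintro k ⟨q, hq, rfl⟩ y
    rw [sbc_mapBlock, sbc_mapBlock, ← hinv q hq (x⁻¹ * y * x)]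
    congr 1
    simp only [MulEquiv.coe_toMonoidHom, MulAut.conj_apply]
    group
  · rw [show sbc CG[Q.map (MulAut.conj x).toMonoidHom]
        (mapBlock (BlockChar.conjIso _ _ x hQx) f) = fun y => sbc CG[Q] f (x⁻¹ * y * x) from
      funext fun y => sbc_mapBlock _ _ _ _ _ _, brauerOmega_conjIso x hPx]
    exact h.2.2.2.2.2 _ hξ'

theorem subpairLE_conj (hM : Cfsg.IsPModular p M) {Q P : Subgroup G}
    {f : Set (Cfsg.IrrCharacter CG[Q])} {e : Set (Cfsg.IrrCharacter CG[P])}
    (h : Cfsg.SubpairLE p M Q f P e) (x : G) :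
    Cfsg.SubpairLE p M (Q.map (MulAut.conj x).toMonoidHom) (Cfsg.conjBlock Q x f)
      (P.map (MulAut.conj x).toMonoidHom) (Cfsg.conjBlock P x e) :=
  by
  let T : Cfsg.BrauerPairIdx G → Cfsg.BrauerPairIdx G := fun a =>
    ⟨a.1.map (MulAut.conj x).toMonoidHom, Cfsg.conjBlock a.1 x a.2⟩
  suffices ∀ a b : Cfsg.BrauerPairIdx G, Relation.ReflTransGen (Cfsg.NormalSubpairRel p M) a b →
      Relation.ReflTransGen (Cfsg.NormalSubpairRel p M) (T a) (T b) from this _ _ h
  intro a b hab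
  induction hab with
  | refl => exact Relation.ReflTransGen.refl
  | tail _ hbc ih => exact ih.tail (isNormalSubpair_conj hM hbc x)

end Cfsg.Agent.BrauerPairs
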