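import Cfsg.Agent.BrauerPairs.MaximalCriterion

/-!
# Defect groups of the blocks attached to a Brauer pair

For a pair `(Q, f)` below a maximal pair `(P, e)` and a subgroup `H` between `C(Q)` and the
stabilizer of `f`, whose block `E` has the idempotent of `f`, the group `P ⊓ H` lies in a defect
group of `E`, with equality after a suitable conjugation.
-/

namespace Cfsg.Agent.BrauerPairs

open Cfsg.Agent Cfsg.Agent.Blocks

universe u

variable {G : Type u} [Group G] {p : ℕ} {M : Ideal Cfsg.AlgInt}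

local notation "CG[" Q "]" => Subgroup.centralizer (SetLike.coe Q)
local notation "sbc" => Cfsg.subgroupBlockCoeff

theorem mem_normalizer_map_conj_iff (Q : Subgroup G) (x y : G) :
    y ∈ Subgroup.normalizer (Q : Set G) ↔
      x * y * x⁻¹ ∈ Subgroup.normalizer
        ((Q.map (MulAut.conj x).toMonoidHom : Subgroup G) : Set G) := by
  have key : ∀ z, z ∈ Q.map (MulAut.conj x).toMonoidHom ↔ x⁻¹ * z * x ∈ Q := fun z => by
    constructor
    · rintro ⟨q, hq, rfl⟩
      simpa [mul_assoc] using hq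
    · intro h
      exact ⟨_, h, by simp [mul_assoc]⟩
  simp only [Subgroup.mem_normalizer_iff, key]
  constructor
  · intro h z
    rw [h (x⁻¹ * z * x), show x⁻¹ * (x * y * x⁻¹ * z * (x * y * x⁻¹)⁻¹) * x =
      y * (x⁻¹ * z * x) * y⁻¹ by group]
  · intro h z
    have h1 := h (x * z * x⁻¹)
    rwa [show x⁻¹ * (x * z * x⁻¹) * x = z by group,
      show x⁻¹ * (x * y * x⁻¹ * (x * z * x⁻¹) * (x * y * x⁻¹)⁻¹) * x = y * z * y⁻¹ by group] at h1

variable [Finite G]

theorem isInv_sbc_of_mem_centralizer (Q : Subgroup G) (f : Set (Cfsg.IrrCharacter CG[Q])) :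
    IsInv (Q : Set G) (sbc CG[Q] f) := fun k hk x => by
  by_cases h : x ∈ CG[Q]
  · rw [Subgroup.mem_centralizer_iff.1 h k hk, mul_inv_cancel_right]
  · rw [sbc_of_notMem f h, sbc_of_notMem f fun h' =>
      h ((mem_centralizer_iff_of_mem_normalizer (Subgroup.le_normalizer hk) x).2 h')]

theorem isInv_sbc_of_blockCoeff {Q H : Subgroup G} (hCH : CG[Q] ≤ H)
    {f : Set (Cfsg.IrrCharacter CG[Q])} {E : Set (Cfsg.IrrCharacter H)}
    (hcoeff : ∀ t : H, Cfsg.blockCoeff E t = sbc CG[Q] f (t : G)) :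
    IsInv (H : Set G) (sbc CG[Q] f) := by
  have := Fintype.ofFinite H
  intro k hk x
  by_cases hx : x ∈ H
  · have h := isClassFunction_blockCoeff E ⟨x, hx⟩ ⟨k, hk⟩
    rw [hcoeff, hcoeff] at h
    exact h
  · rw [sbc_of_notMem f fun h => hx (hCH h), sbc_of_notMem f fun h => hx (by
      have h' := H.mul_mem (H.mul_mem (H.inv_mem hk) (hCH h)) hk
      simpa [mul_assoc] using h')]

/-- The stabilizer of `f` has a block with the idempotent of `f`. -/
theorem exists_block_of_stable (hM : Cfsg.IsPModular p M) {Q T : Subgroup G} (hQ : IsPGroup p Q)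
    (hQT : Q ≤ T) (hCT : CG[Q] ≤ T) (hTN : T ≤ Subgroup.normalizer (Q : Set G))
    {f : Set (Cfsg.IrrCharacter CG[Q])} (hf : Cfsg.IsPBlock M f)
    (hinv : IsInv (T : Set G) (sbc CG[Q] f)) :
    ∃ E : Set (Cfsg.IrrCharacter T), Cfsg.IsPBlock M E ∧
      ∀ t : T, Cfsg.blockCoeff E t = sbc CG[Q] f (t : G) := by
  classical
  haveI := Fact.mk hM.1
  have := Fintype.ofFinite G
  have := Fintype.ofFinite T
  have hsupp : ∀ x, x ∉ T → sbc CG[Q] f x = 0 := fun x hx => sbc_of_notMem f fun h => hx (hCT h)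
  set β : T → ℂ := fun t => sbc CG[Q] f (t : G) with hβ
  have hβc : Cfsg.IsClassFunction T β := hinv.isClassFunction_res
  have hβi : conv β β = β := funext fun t => by
    rw [hβ, ← conv_of_supported hsupp, conv_sbc_self]
  set A : Set (Cfsg.IrrCharacter T) := {χ | omega (χ : T → ℂ) β = 1} with hA
  have hω : ∀ χ : Cfsg.IrrCharacter T,
      omega (χ : T → ℂ) β = if χ ∈ A then 1 else 0 := fun χ => by
    have h := omega_conv χ.2 hβc hβc
    rw [hβi] at h
    by_cases hχ : χ ∈ A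
    · rw [if_pos hχ]; exact hχ
    · rw [if_neg hχ]
      exact ((IsIdempotentElem.iff_eq_zero_or_one).1 h.symm).resolve_right hχ
  have hAβ : β = Cfsg.blockCoeff A := eq_blockCoeff hβc A hω
  have hβR : ∀ t, Cfsg.MemLocalRing M (β t) := fun t => memLocalRing_sbc hM hf _
  have hblock : ∀ χ ∈ A, Cfsg.blockOf M (χ : T → ℂ) ⊆ A := fun χ hχ =>
    fun ψ hψ => mem_of_sameBlock_of_memLocalRing hM (fun t => hAβ ▸ hβR t) hχ (mem_blockOf.1 hψ)
  obtain ⟨χ, hχ⟩ : A.Nonempty := by
    by_contra hne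
    rw [Set.not_nonempty_iff_eq_empty] at hne
    obtain ⟨ξ, hξ⟩ := IsPBlock.nonempty hM hf
    have h0 : Cfsg.blockCoeff f =
        Cfsg.blockCoeff (∅ : Set (Cfsg.IrrCharacter CG[Q])) := funext fun c => by
      have := congrFun hAβ ⟨c, hCT c.2⟩
      simpa [hβ, hne, Cfsg.blockCoeff, sbc_apply] using this
    rw [blockCoeff_injective h0] at hξ
    exact hξ
  refine ⟨Cfsg.blockOf M (χ : T → ℂ), isPBlock_blockOf χ, fun t => ?_⟩
  suffices hsub : A ⊆ Cfsg.blockOf M (χ : T → ℂ) by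
    rw [Set.Subset.antisymm (hblock χ hχ) hsub, ← hAβ]
  intro χ' hχ'
  by_contra hne
  -- each block inside `A` has a unit central character at `f` after the Brauer map
  haveI : (Q.subgroupOf T).Normal := Subgroup.normal_subgroupOf_of_le_normalizer hTN
  have hunit : ∀ ψ ∈ A, ∀ η ∈ f, Cfsg.MemLocalIdeal M
      (Cfsg.brauerOmega Q (sbc T (Cfsg.blockOf M (ψ : T → ℂ))) (η : CG[Q] → ℂ) - 1) := by
    intro ψ hψ η hη
    letI := Fintype.ofFinite CG[Q]
    set E := Cfsg.blockOf M (ψ : T → ℂ)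
    have hE := isPBlock_blockOf (M := M) ψ
    obtain ⟨g, hg⟩ := exists_isDefectClass hM hE
    obtain ⟨D, hD⟩ := DefectThms.exists_isSylC p g
    have hQD := DefectThms.le_defectGroup_of_normal hM hE
      (DefectThms.isDefectGroup_iff.2 ⟨g, hg, hD⟩) (Q.subgroupOf T)
      (hQ.comap_of_injective _ (Subgroup.subtype_injective _))
    have hgQ : (g : G) ∈ CG[Q] := Subgroup.mem_centralizer_iff.2 fun q hq =>
      congrArg Subtype.val (Subgroup.mem_centralizer_singleton_iff.1
        (hD.1 (hQD (Subgroup.mem_subgroupOf.2 (show ((⟨q, hQT hq⟩ : T) : G) ∈ Q from hq)))))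
    have hEinv : IsInv (T : Set G) (sbc T E) := isInv_sbc E
    obtain ⟨η₀, hη₀⟩ := exists_omega_one hM hQ (hEinv.mono hQT) (hEinv.mono hCT)
      (memLocalRing_sbc hM hE) (conv_sbc_self E) hgQ (by rw [sbc_apply]; exact hg.2.1)
    have hmul : conv (sbc T E) (sbc CG[Q] f) = sbc T E := by
      funext z
      by_cases hz : z ∈ T
      · rw [← Subgroup.coe_mk T z hz, conv_of_supported (fun x hx => sbc_of_notMem E hx), sbc_apply]
        simp only [sbc_apply]
        rw [show (fun a : T => sbc CG[Q] f (a : G)) = Cfsg.blockCoeff A from hAβ]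
        refine congrFun (eq_blockCoeff (isClassFunction_conv (isClassFunction_blockCoeff E)
          (isClassFunction_blockCoeff A)) E fun φ => ?_) _
        rw [omega_conv φ.2 (isClassFunction_blockCoeff E) (isClassFunction_blockCoeff A),
          omega_blockCoeff, omega_blockCoeff]
        by_cases hφ : φ ∈ E
        · simp [hφ, hblock ψ hψ hφ]
        · simp [hφ]
      · rw [sbc_of_notMem E hz, conv_eq_zero_of_notMem (fun x hx => sbc_of_notMem E hx) hsupp hz]
    have hmulω := brauerOmega_conv hM hQ (hEinv.mono hQT) (hinv.mono hQT) (hEinv.mono hCT)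
      (isInv_sbc f) (memLocalRing_sbc hM hE) (memLocalRing_sbc hM hf) η₀
    rw [hmul] at hmulω
    have hη₀f : η₀ ∈ f := by
      by_contra hn
      have hz : Cfsg.brauerOmega Q (sbc CG[Q] f) (η₀ : CG[Q] → ℂ) = 0 := by
        rw [brauerOmega_eq]
        simp only [sbc_apply]
        rw [omega_blockCoeff, if_neg hn]
      rw [hz, mul_zero, sub_zero] at hmulω
      exact not_memLocalIdeal_one hM (by simpa using memLocalIdeal_sub hM hmulω hη₀)
    have := memLocalIdeal_add hM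
      (brauerOmega_sameBlock hM (hEinv.mono hCT) (memLocalRing_sbc hM hE) hf hη hη₀f) hη₀
    simpa using this
  obtain ⟨η, hη⟩ := IsPBlock.nonempty hM hf
  letI := Fintype.ofFinite CG[Q]
  set E := Cfsg.blockOf M (χ : T → ℂ)
  set E' := Cfsg.blockOf M (χ' : T → ℂ)
  have hE := isPBlock_blockOf (M := M) χ
  have hE' := isPBlock_blockOf (M := M) χ'
  have hdisj : Disjoint E E' := Set.disjoint_left.2 fun φ h1 h2 =>
    hne (by
      rw [show E = E' from eq_of_mem hM hE hE' h1 h2]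
      exact mem_blockOf_self hM χ')
  have h := brauerOmega_conv hM hQ ((isInv_sbc E).mono hQT) ((isInv_sbc E').mono hQT)
    ((isInv_sbc E).mono hCT) ((isInv_sbc E').mono hCT) (memLocalRing_sbc hM hE)
    (memLocalRing_sbc hM hE') η
  rw [conv_sbc_disjoint hdisj, show Cfsg.brauerOmega Q (0 : G → ℂ) (η : CG[Q] → ℂ) = 0 by
    simp [brauerOmega_eq, omega], zero_sub] at h
  set a := Cfsg.brauerOmega Q (sbc T E) (η : CG[Q] → ℂ)
  set b := Cfsg.brauerOmega Q (sbc T E') (η : CG[Q] → ℂ)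
  have hbR : Cfsg.MemLocalRing M b :=
    memLocalRing_brauerOmega hM ((isInv_sbc E').mono hCT) (memLocalRing_sbc hM hE') η
  have h1 := memLocalIdeal_sub hM (memLocalIdeal_neg h) (memLocalIdeal_add hM
    (memLocalIdeal_mul_right hM (hunit χ hχ η hη) hbR) (hunit χ' hχ' η hη))
  rw [show -(-(a * b)) - ((a - 1) * b + (b - 1)) = 1 by ring] at h1
  exact not_memLocalIdeal_one hM h1

/-! ## Transport of defect groups -/

theorem isSylC_map {A C : Type u} [Group A] [Group C] (φ : A ≃* C) {g : A} {D : Subgroup A}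
    (h : DefectThms.IsSylC p g D) : DefectThms.IsSylC p (φ g) (D.map φ.toMonoidHom) := by
  have hC : Subgroup.centralizer ({φ g} : Set C) =
      (Subgroup.centralizer ({g} : Set A)).map φ.toMonoidHom := by
    ext c
    constructor
    · intro hc
      refine ⟨φ.symm c, Subgroup.mem_centralizer_singleton_iff.2 (φ.injective ?_), by simp⟩
      simpa using Subgroup.mem_centralizer_singleton_iff.1 hc
    · rintro ⟨a, ha, rfl⟩
      refine Subgroup.mem_centralizer_singleton_iff.2 ?_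
      show φ a * φ g = φ g * φ a
      rw [← map_mul, ← map_mul, Subgroup.mem_centralizer_singleton_iff.1 ha]
  refine ⟨hC ▸ Subgroup.map_mono h.1, h.2.1.map _, ?_⟩
  rw [Subgroup.card_map_of_injective φ.injective, hC, Subgroup.card_map_of_injective φ.injective]
  exact h.2.2

theorem isDefectGroup_mapBlock {A C : Type u} [Group A] [Group C] [Finite A] [Finite C]
    (φ : A ≃* C) {E : Set (Cfsg.IrrCharacter A)} {D : Subgroup A}
    (h : Cfsg.IsDefectGroup p M E D) (hp : p.Prime) :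
    Cfsg.IsDefectGroup p M (mapBlock φ E) (D.map φ.toMonoidHom) := by
  haveI := Fact.mk hp
  obtain ⟨g, ⟨h1, h2, h3⟩, hD⟩ := DefectThms.isDefectGroup_iff.1 h
  refine DefectThms.isDefectGroup_iff.2 ⟨φ g, ⟨?_, ?_, fun χ hχ => ?_⟩, isSylC_map φ hD⟩
  · rwa [blockCoeff_mapBlock]
  · rwa [blockCoeff_mapBlock]
  · rw [← centralChar_compIrr φ χ g]
    exact h3 _ hχ

variable {B : Set (Cfsg.IrrCharacter G)} {P Q H : Subgroup G}
  {e : Set (Cfsg.IrrCharacter CG[P])} {f : Set (Cfsg.IrrCharacter CG[Q])}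

/-- The pair on an intermediate group normalizing `Q` is normally above. -/
theorem exists_normalSubpair_between (hM : Cfsg.IsPModular p M) (hPe : Cfsg.IsBrauerPair p M P e)
    (hle : Cfsg.SubpairLE p M Q f P e) {R : Subgroup G} (hQR : Q ≤ R) (hRP : R ≤ P)
    (hRN : R ≤ Subgroup.normalizer (Q : Set G)) :
    ∃ g : Set (Cfsg.IrrCharacter CG[R]),
      Cfsg.IsNormalSubpair p M Q f R g ∧ Cfsg.SubpairLE p M R g P e := by
  obtain ⟨g, hg, -⟩ := existsUnique_subpairLE hM hPe hRP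
  obtain ⟨f', hf', -⟩ := existsUnique_normalSubpair hM (isBrauerPair_of_subpairLE hPe hg) hQR hRN
  have hfe : f' = f := (existsUnique_subpairLE hM hPe (hQR.trans hRP)).unique
    (Relation.ReflTransGen.head (show Cfsg.NormalSubpairRel p M ⟨Q, f'⟩ ⟨R, g⟩ from hf') hg) hle
  subst hfe
  exact ⟨g, hf', hg⟩

theorem exists_defect_ge (hM : Cfsg.IsPModular p M) (hPe : Cfsg.IsBrauerPair p M P e)
    (hle : Cfsg.SubpairLE p M Q f P e) (hCH : CG[Q] ≤ H)
    (hHN : H ≤ Subgroup.normalizer (Q : Set G)) {E : Set (Cfsg.IrrCharacter H)}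
    (hE : Cfsg.IsPBlock M E) (hcoeff : ∀ t : H, Cfsg.blockCoeff E t = sbc CG[Q] f (t : G)) :
    ∃ D : Subgroup H, Cfsg.IsDefectGroup p M E D ∧ (P ⊓ H).subgroupOf H ≤ D := by
  classical
  haveI := Fact.mk hM.1
  have := Fintype.ofFinite G
  set R := Q ⊔ (P ⊓ H)
  have hQP : Q ≤ P := BlockChar.le_of_subpairLE hle
  have hRN : R ≤ Subgroup.normalizer (Q : Set G) :=
    sup_le Subgroup.le_normalizer (inf_le_right.trans hHN)
  obtain ⟨g, hg, -⟩ := exists_normalSubpair_between hM hPe hle (le_sup_left : Q ≤ R)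
    (sup_le hQP inf_le_left) hRN
  letI := Fintype.ofFinite CG[R]
  obtain ⟨η, hη⟩ := IsPBlock.nonempty hM hg.2.1.2
  obtain ⟨y, hyR, hy⟩ : ∃ y ∈ CG[R], ¬ Cfsg.MemLocalIdeal M (sbc CG[Q] f y) := by
    by_contra hno
    have h2 := brauerOmega_congr hM (P := R) (isInv_sbc_centralizer le_sup_left f)
      (fun _ _ _ => rfl : IsInv _ (0 : G → ℂ))
      (fun x hx => by
        simpa using not_not.1 fun h' => hno ⟨x, hx, h'⟩) η
    rw [show Cfsg.brauerOmega R (0 : G → ℂ) (η : CG[R] → ℂ) = 0 by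
      simp [brauerOmega_eq, omega], sub_zero] at h2
    exact not_memLocalIdeal_one hM (by
      simpa [R] using memLocalIdeal_sub hM h2 (hg.2.2.2.2.2 η hη))
  have hyH : y ∈ H := hCH (centralizer_mono (le_sup_left : Q ≤ R) hyR)
  set S0 := (P ⊓ H).subgroupOf H
  have hS0 : IsPGroup p S0 :=
    (hPe.1.to_le inf_le_left).comap_of_injective _ (Subgroup.subtype_injective _)
  have hS0C : S0 ≤ Subgroup.centralizer ({(⟨y, hyH⟩ : H)} : Set H) := fun s hs =>
    Subgroup.mem_centralizer_singleton_iff.2 (Subtype.ext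
      (Subgroup.mem_centralizer_iff.1 hyR (s : G)
        (Subgroup.mem_sup_right (Subgroup.mem_subgroupOf.1 hs))))
  obtain ⟨S, hS, hle'⟩ := DefectThms.exists_le_isSylC hS0 hS0C
  obtain ⟨gd, hgd⟩ := exists_isDefectClass hM hE
  obtain ⟨D, hD⟩ := DefectThms.exists_isSylC p gd
  obtain ⟨k, hk⟩ := DefectThms.exists_conj_le_of_unit_coeff hM hE hgd hD
    (h := (⟨y, hyH⟩ : H)) (by rw [hcoeff]; exact hy) hS
  refine ⟨D.map (MulAut.conj k⁻¹).toMonoidHom, DefectThms.isDefectGroup_conj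
    (DefectThms.isDefectGroup_iff.2 ⟨gd, hgd, hD⟩) k⁻¹, hle'.trans ?_⟩
  calc S = (S.map (MulAut.conj k).toMonoidHom).map (MulAut.conj k⁻¹).toMonoidHom := by
        rw [DefectThms.map_conj_map_conj, inv_mul_cancel, DefectThms.map_conj_one]
    _ ≤ _ := Subgroup.map_mono hk

theorem exists_conj_defect_le (hM : Cfsg.IsPModular p M)
    (hmax : Cfsg.IsMaximalBrauerPair p M B P e) (hle : Cfsg.SubpairLE p M Q f P e)
    (hQf : Cfsg.IsBrauerPair p M Q f) (hCH : CG[Q] ≤ H)
    (hHN : H ≤ Subgroup.normalizer (Q : Set G)) {E : Set (Cfsg.IrrCharacter H)}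
    (hcoeff : ∀ t : H, Cfsg.blockCoeff E t = sbc CG[Q] f (t : G))
    {D : Subgroup H} (hD : Cfsg.IsDefectGroup p M E D) :
    ∃ x : G, Cfsg.SubpairLE p M (Q.map (MulAut.conj x).toMonoidHom) (Cfsg.conjBlock Q x f) P e ∧
      (D.map H.subtype).map (MulAut.conj x).toMonoidHom ≤ P := by
  classical
  haveI := Fact.mk hM.1
  obtain ⟨g, hg, hgD⟩ := DefectThms.isDefectGroup_iff.1 hD
  set DG := D.map H.subtype
  have hDH : DG ≤ H := Subgroup.map_subtype_le _
  set R := Q ⊔ DG
  have hR : IsPGroup p R :=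
    IsPGroup.to_sup_of_normal_left' hQf.1 (hgD.2.1.map _) (hDH.trans hHN)
  have hRN : R ≤ Subgroup.normalizer (Q : Set G) := sup_le Subgroup.le_normalizer (hDH.trans hHN)
  have hinv : IsInv (R : Set G) (sbc CG[Q] f) := by
    have : R ≤ invSubgroup (sbc CG[Q] f) :=
      sup_le (fun k hk x => isInv_sbc_of_mem_centralizer Q f k hk x)
        fun k hk x => isInv_sbc_of_blockCoeff hCH hcoeff k (hDH hk) x
    exact fun k hk => this hk
  have hgu : ¬ Cfsg.MemLocalIdeal M (sbc CG[Q] f (g : G)) := hcoeff g ▸ hg.2.1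
  have hgQ : (g : G) ∈ CG[Q] := by
    by_contra h
    rw [sbc_of_notMem f h] at hgu
    exact hgu (memLocalIdeal_zero hM)
  have hgR : (g : G) ∈ CG[R] := by
    refine BlockThms.mem_centralizer_of_le (sup_le ?_ ?_)
    · exact fun q hq => Subgroup.mem_centralizer_singleton_iff.2
        (Subgroup.mem_centralizer_iff.1 hgQ q hq)
    · rintro _ ⟨d, hd, rfl⟩
      exact Subgroup.mem_centralizer_singleton_iff.2
        (congrArg Subtype.val (Subgroup.mem_centralizer_singleton_iff.1 (hgD.1 hd)))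
  obtain ⟨g', hg'⟩ := exists_normalSubpair_above hM hQf.2 (le_sup_left : Q ≤ R) hR hRN hinv hgR hgu
  obtain ⟨x, hx⟩ := exists_conj_subpairLE hM hmax (isBrauerPairOf_of_normal hM hg'
    ((isBrauerPairOf_iff_of_subpairLE hM hle B).1 hmax.1))
  refine ⟨x, (subpairLE_conj hM (Relation.ReflTransGen.single hg') x).trans hx, ?_⟩
  exact (Subgroup.map_mono (le_sup_right : DG ≤ R)).trans (BlockChar.le_of_subpairLE hx)

/-- After conjugation `P ⊓ H` is a defect group of the block of `H`. -/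
theorem exists_conj_isDefectGroup (hM : Cfsg.IsPModular p M)
    (hmax : Cfsg.IsMaximalBrauerPair p M B P e) (hle : Cfsg.SubpairLE p M Q f P e)
    (hQf : Cfsg.IsBrauerPair p M Q f) (hCH : CG[Q] ≤ H)
    (hHN : H ≤ Subgroup.normalizer (Q : Set G)) {E : Set (Cfsg.IrrCharacter H)}
    (hE : Cfsg.IsPBlock M E)
    (hcoeff : ∀ t : H, Cfsg.blockCoeff E t = sbc CG[Q] f (t : G)) :
    ∃ x : G, Cfsg.SubpairLE p M (Q.map (MulAut.conj x).toMonoidHom) (Cfsg.conjBlock Q x f) P e ∧
      ∀ (H' : Subgroup G) (h : ∀ y, y ∈ H ↔ x * y * x⁻¹ ∈ H'),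
        Cfsg.IsDefectGroup p M (mapBlock (BlockChar.conjIso H H' x h) E) ((P ⊓ H').subgroupOf H') ∧
          ∀ t : H', Cfsg.blockCoeff (mapBlock (BlockChar.conjIso H H' x h) E) t =
            sbc CG[Q.map (MulAut.conj x).toMonoidHom] (Cfsg.conjBlock Q x f) (t : G) := by
  classical
  haveI := Fact.mk hM.1
  obtain ⟨gd, hgd⟩ := exists_isDefectClass hM hE
  obtain ⟨D, hD'⟩ := DefectThms.exists_isSylC p gd
  have hD : Cfsg.IsDefectGroup p M E D := DefectThms.isDefectGroup_iff.2 ⟨gd, hgd, hD'⟩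
  obtain ⟨x, hx, hDx⟩ := exists_conj_defect_le hM hmax hle hQf hCH hHN hcoeff hD
  refine ⟨x, hx, fun H' h => ?_⟩
  set φ := BlockChar.conjIso H H' x h
  set Qx := Q.map (MulAut.conj x).toMonoidHom
  have hcoeff' : ∀ t : H', Cfsg.blockCoeff (mapBlock φ E) t =
      sbc CG[Qx] (Cfsg.conjBlock Q x f) (t : G) := fun t => by
    have h1 := sbc_conjPair x ⟨Q, f⟩ (t : G)
    rw [← sbc_apply, sbc_mapBlock H H' x h E]
    refine Eq.trans ?_ h1.symm
    have hm : x⁻¹ * (t : G) * x ∈ H := (h _).2 (by simpa [mul_assoc] using t.2)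
    rw [sbc_of_mem E hm, hcoeff]
  refine ⟨?_, hcoeff'⟩
  have hconj : ∀ y, x⁻¹ * y * x ∈ H → y ∈ H' := fun y hy => by
    simpa [mul_assoc] using (h _).1 hy
  have hCH' : CG[Qx] ≤ H' := fun y hy => hconj y (hCH ((BlockChar.mem_centralizer_iff_conj
    (Q := Q) (g := x) rfl _).2 (by simpa [Qx, mul_assoc] using hy)))
  have hHN' : H' ≤ Subgroup.normalizer (Qx : Set G) := fun y hy => by
    have h2 : x⁻¹ * y * x ∈ H := (h _).2 (by simpa [mul_assoc] using hy)
    have h3 := (mem_normalizer_map_conj_iff Q x _).1 (hHN h2)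
    rwa [show x * (x⁻¹ * y * x) * x⁻¹ = y by group] at h3
  obtain ⟨D'', hD'', hle''⟩ := exists_defect_ge hM hmax.1.1 hx hCH' hHN'
    (isPBlock_mapBlock φ hE) hcoeff'
  have hDφ := isDefectGroup_mapBlock φ hD hM.1
  have hDle : D.map φ.toMonoidHom ≤ (P ⊓ H').subgroupOf H' := by
    rintro _ ⟨d, hd, rfl⟩
    refine Subgroup.mem_subgroupOf.2 ⟨hDx ⟨(d : G), ⟨d, hd, rfl⟩, rfl⟩, ?_⟩
    exact (φ d).2
  have heq : (P ⊓ H').subgroupOf H' = D.map φ.toMonoidHom := by
    refine (Subgroup.eq_of_le_of_card_ge hDle ?_).symm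
    calc Nat.card ((P ⊓ H').subgroupOf H') ≤ Nat.card D'' := Subgroup.card_le_of_le hle''
      _ = Nat.card (D.map φ.toMonoidHom) := by
        rw [BlockChar.card_defectGroup hM (isPBlock_mapBlock φ hE) hD'',
          BlockChar.card_defectGroup hM (isPBlock_mapBlock φ hE) hDφ]
  rwa [heq]

end Cfsg.Agent.BrauerPairs
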