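import Cfsg.Agent.BrauerPairs.Maximal
import Cfsg.Agent.BrauerPairs.Local
import Cfsg.Agent.S4653

/-!
# Blocks and a normal p-subgroup
-/

namespace Cfsg.Agent.BrauerPairs

open Cfsg.Agent Cfsg.Agent.Blocks

universe u

variable {G : Type u} [Group G] [Finite G] {p : ℕ} {M : Ideal Cfsg.AlgInt}

local notation "CG[" Q "]" => Subgroup.centralizer (SetLike.coe Q)
local notation "sbc" => Cfsg.subgroupBlockCoeff

variable {P : Subgroup G} {e : Set (Cfsg.IrrCharacter CG[P])}

theorem conv_orbitIdem [Fintype G] (hM : Cfsg.IsPModular p M) :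
    conv (orbitIdem M P e) (orbitIdem M P e) = orbitIdem M P e := by
  classical
  letI := Fintype.ofFinite (PBlock M CG[P])
  simp only [orbitIdem]
  funext z
  simp only [conv, Finset.sum_apply, Finset.sum_mul, Finset.mul_sum]
  rw [Finset.sum_comm]
  refine Finset.sum_congr rfl fun f hf => ?_
  rw [Finset.sum_comm, Finset.sum_eq_single f]
  · exact congrFun (conv_sbc_self f.1) z
  · intro f' _ hne
    have hd : Disjoint f.1 f'.1 := Set.disjoint_left.2 fun ξ h h' =>
      hne (Subtype.ext (eq_of_mem hM f'.2 f.2 h' h))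
    exact congrFun (conv_sbc_disjoint hd.symm) z
  · exact fun h => absurd hf h

/-- A block over a normal p-subgroup is the orbit sum of a block of the centralizer. -/
theorem blockCoeff_eq_orbitIdem (hM : Cfsg.IsPModular p M) [P.Normal]
    {B : Set (Cfsg.IrrCharacter G)} (hBe : Cfsg.IsBrauerPairOf p M B P e) :
    Cfsg.blockCoeff B = orbitIdem M P e := by
  classical
  haveI := Fact.mk hM.1
  have := Fintype.ofFinite G
  letI := Fintype.ofFinite CG[P]
  have hN : ∀ x : G, x ∈ Subgroup.normalizer (P : Set G) := fun x => by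
    rw [Subgroup.normalizer_eq_top]; trivial
  have hoc : Cfsg.IsClassFunction G (orbitIdem M P e) := fun x k =>
    isInv_orbitIdem_normalizer k (hN k) x
  have hoR := memLocalRing_orbitIdem (P := P) (e := e) hM
  refine classFun_ext_omega (isClassFunction_blockCoeff B) hoc fun χ => ?_
  rw [omega_blockCoeff]
  have hid : omega (χ : G → ℂ) (orbitIdem M P e) * omega (χ : G → ℂ) (orbitIdem M P e) =
      omega (χ : G → ℂ) (orbitIdem M P e) := by
    rw [← omega_conv χ.2 hoc hoc, conv_orbitIdem hM]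
  have h01 : omega (χ : G → ℂ) (orbitIdem M P e) = 0 ∨
      omega (χ : G → ℂ) (orbitIdem M P e) = 1 := by
    rcases eq_or_ne (omega (χ : G → ℂ) (orbitIdem M P e)) 0 with h | h
    · exact Or.inl h
    · exact Or.inr (mul_left_cancel₀ h (by rw [hid, mul_one]))
  obtain ⟨ξ, hξ⟩ := IsPBlock.nonempty hM hBe.1.2
  by_cases hχ : χ ∈ B
  · rw [if_pos hχ]
    have h := omega_link hM hBe hξ hχ hoc hoR
    rw [brauerOmega_orbitIdem hM ξ, if_pos (by
      rw [← IsPBlock.eq_blockOf hM hBe.1.2 hξ]
      exact ⟨1, one_mem _, fun g => by simp⟩)] at h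
    rcases h01 with h0 | h1
    · rw [h0, sub_zero] at h
      exact absurd h (not_memLocalIdeal_one hM)
    · exact h1.symm
  · rw [if_neg hχ]
    rcases h01 with h0 | h1
    · exact h0.symm
    exfalso
    set B' := Cfsg.blockOf M (χ : G → ℂ) with hB'
    have hB'p := isPBlock_blockOf (M := M) χ
    have hcl := isClassFunction_blockCoeff B'
    obtain ⟨y, hy, hyu⟩ : ∃ y ∈ CG[P], ¬ Cfsg.MemLocalIdeal M (Cfsg.blockCoeff B' y) := by
      by_contra hno
      have : Finite (ConjClasses G) := Quotient.finite _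
      have := Fintype.ofFinite (ConjClasses G)
      have hz : Cfsg.MemLocalIdeal M (omega (χ : G → ℂ) (Cfsg.blockCoeff B')) := by
        rw [omega_eq_sum_classes (Char.isClassFunction_of_isIrr χ.2) hcl]
        refine memLocalIdeal_sum hM _ fun D _ => memLocalIdeal_mul_right hM ?_
          (memLocalRing_centralChar hM χ.2 _)
        by_cases hD : D.out ∈ CG[P]
        · exact not_not.1 fun h' => hno ⟨_, hD, h'⟩
        · rw [S4653.result p M hM P hBe.1.1 B' hB'p _ hD]
          exact memLocalIdeal_zero hM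
      rw [omega_blockCoeff, if_pos (mem_blockOf_self hM χ)] at hz
      exact not_memLocalIdeal_one hM hz
    obtain ⟨η, hη⟩ := exists_omega_one hM hBe.1.1 (IsInv.of_isClassFunction hcl _)
      (IsInv.of_isClassFunction hcl _) (memLocalRing_blockCoeff hM hB'p) (blockCoeff_conv B') hy hyu
    have hpair : Cfsg.IsBrauerPairOf p M B' P (Cfsg.blockOf M (η : CG[P] → ℂ)) :=
      memLocalIdeal_brauerOmega_block hM hBe.1.1 (isPBlock_blockOf η) hB'p
        (mem_blockOf_self hM η) hη
    have h := omega_link hM hpair (mem_blockOf_self hM η) (mem_blockOf_self hM χ) hoc hoR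
    rw [h1, brauerOmega_orbitIdem hM η] at h
    have horb : InOrb P e (Cfsg.blockOf M (η : CG[P] → ℂ)) := by
      by_contra hn
      rw [if_neg hn, zero_sub] at h
      exact not_memLocalIdeal_one hM (by simpa using memLocalIdeal_neg h)
    obtain ⟨n, hn⟩ := inOrb_iff_conjPair.1 horb
    have hp := pair_conjPair hM (a := (⟨P, e⟩ : Cfsg.BrauerPairIdx G)) hBe n
    rw [← hn] at hp
    exact hχ (block_unique hM hp hpair ▸ mem_blockOf_self hM χ)

/-- The orbit sum as an average over the group. -/
theorem orbitIdem_eq_average (hM : Cfsg.IsPModular p M) [Fintype G] [P.Normal]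
    (he : Cfsg.IsPBlock M e) {T : Subgroup G}
    (hT : ∀ x : G, x ∈ T ↔ Cfsg.StabilizesBlock CG[P] e x) (g : G) :
    orbitIdem M P e g = (Nat.card T : ℂ)⁻¹ * ∑ x : G, sbc CG[P] e (x⁻¹ * g * x) := by
  classical
  letI := Fintype.ofFinite (PBlock M CG[P])
  letI := Fintype.ofFinite T
  have hN : ∀ x : G, x ∈ Subgroup.normalizer (P : Set G) := fun x => by
    rw [Subgroup.normalizer_eq_top]; trivial
  letI := blockAct M (le_refl (Subgroup.normalizer (P : Set G)))
  let act : G → PBlock M CG[P] := fun x =>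
    (⟨x, hN x⟩ : Subgroup.normalizer (P : Set G)) • (⟨e, he⟩ : PBlock M CG[P])
  have hact : ∀ x y, sbc CG[P] (act x).1 y = sbc CG[P] e (x⁻¹ * y * x) := fun x y =>
    sbc_blockAct le_rfl ⟨x, hN x⟩ ⟨e, he⟩ y
  have hmem : ∀ f : PBlock M CG[P], InOrb P e f.1 ↔ ∃ x, act x = f := fun f => by
    constructor
    · rintro ⟨n, -, h⟩
      exact ⟨n, Subtype.ext (sbc_injective (funext fun y => by rw [hact, h]))⟩
    · rintro ⟨x, rfl⟩
      exact ⟨x, hN x, fun y => hact x y⟩
  have hfib : ∀ k x : G, act x = act k ↔ k⁻¹ * x ∈ T := fun k x => by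
    rw [hT, stabilizesBlock_iff hM (hN _) he]
    constructor
    · intro h z hz y
      rw [Set.mem_singleton_iff.1 hz]
      have h1 := congrArg (fun f : PBlock M CG[P] => sbc CG[P] f.1 (x * y * x⁻¹)) h
      simp only [hact] at h1
      rw [show x⁻¹ * (x * y * x⁻¹) * x = y by group,
        show k⁻¹ * (x * y * x⁻¹) * k = k⁻¹ * x * y * (k⁻¹ * x)⁻¹ by group] at h1
      exact h1.symm
    · intro h
      refine Subtype.ext (sbc_injective (funext fun y => ?_))
      rw [hact, hact]
      have h1 := h _ rfl (x⁻¹ * y * x)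
      rw [show k⁻¹ * x * (x⁻¹ * y * x) * (k⁻¹ * x)⁻¹ = k⁻¹ * y * k by group] at h1
      exact h1.symm
  rw [eq_inv_mul_iff_mul_eq₀ (Nat.cast_ne_zero.2 Nat.card_pos.ne'),
    ← Finset.sum_fiberwise (Finset.univ : Finset G) act]
  simp only [orbitIdem, Finset.sum_apply, Finset.mul_sum]
  rw [Finset.sum_filter]
  refine Finset.sum_congr rfl fun f _ => ?_
  split_ifs with hf
  · obtain ⟨k, rfl⟩ := (hmem f).1 hf
    rw [Finset.sum_congr rfl (g := fun _ => sbc CG[P] (act k).1 g) fun x hx => by
      rw [← hact x g, (Finset.mem_filter.1 hx).2], Finset.sum_const, nsmul_eq_mul]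
    congr 1
    have hset : Finset.univ.filter (fun x => act x = act k) =
        Finset.image (fun t : T => k * (t : G)) Finset.univ := by
      ext x
      simp only [Finset.mem_filter, Finset.mem_univ, true_and, Finset.mem_image]
      rw [hfib]
      exact ⟨fun h => ⟨⟨_, h⟩, mul_inv_cancel_left k x⟩, fun ⟨t, ht⟩ => by simp [← ht]⟩
    rw [hset, Finset.card_image_of_injective _ fun a b h => Subtype.ext (mul_left_cancel h),
      Finset.card_univ, Nat.card_eq_fintype_card]
  · rw [Finset.filter_eq_empty_iff.2 fun x _ hx => hf ((hmem f).2 ⟨x, hx⟩), Finset.sum_empty]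

end Cfsg.Agent.BrauerPairs
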