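import Cfsg.Agent.BlockChar.Support
import Cfsg.Agent.S4653

/-!
# Idempotents of blocks of chain normalizers
-/

namespace Cfsg.Agent.BrauerPairs

open Cfsg.Agent

universe u

variable {G : Type u} [Group G] [Finite G] {p : ℕ}

/-- A coprime element fixing a subgroup and its centralizer in a p-group fixes the p-group. -/
theorem fix_of_fix_centralizer [Fact p.Prime] {S H : Subgroup G} (hS : IsPGroup p S) (hHS : H ≤ S)
    {x : G} (hx : x ∈ Subgroup.normalizer (S : Set G)) (hreg : ¬ p ∣ orderOf x)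
    (hH : ∀ h ∈ H, x * h * x⁻¹ = h)
    (hC : ∀ c ∈ S, (∀ h ∈ H, c * h = h * c) → x * c * x⁻¹ = c) :
    ∀ k ∈ S, x * k * x⁻¹ = k := by
  haveI : Group.IsNilpotent S := hS.isNilpotent
  let K : Subgroup S :=
    { carrier := {k | x * (k : G) * x⁻¹ = k}
      one_mem' := by simp
      mul_mem' := fun {a b} ha hb => by
        show x * ((a : G) * b) * x⁻¹ = (a : G) * b
        rw [show x * ((a : G) * b) * x⁻¹ = (x * (a : G) * x⁻¹) * (x * (b : G) * x⁻¹) by group,
          show x * (a : G) * x⁻¹ = a from ha, show x * (b : G) * x⁻¹ = b from hb]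
      inv_mem' := fun {a} ha => by
        show x * (a : G)⁻¹ * x⁻¹ = (a : G)⁻¹
        rw [show x * (a : G)⁻¹ * x⁻¹ = (x * (a : G) * x⁻¹)⁻¹ by group,
          show x * (a : G) * x⁻¹ = a from ha] }
  suffices K = ⊤ by
    intro k hk
    have h : (⟨k, hk⟩ : S) ∈ K := this ▸ Subgroup.mem_top _
    exact h
  by_contra hne
  obtain ⟨k, hkN, hkK⟩ := SetLike.exists_of_lt
    (Group.normalizerCondition_of_isNilpotent (G := S) K (lt_top_iff_ne_top.2 hne))
  refine hkK ?_
  show x * (k : G) * x⁻¹ = k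
  have hxkS : x * (k : G) * x⁻¹ ∈ S := (Subgroup.mem_normalizer_iff.1 hx _).1 k.2
  set c := (k : G)⁻¹ * (x * (k : G) * x⁻¹) with hc
  have hcS : c ∈ S := mul_mem (inv_mem k.2) hxkS
  have hcH : ∀ h ∈ H, c * h = h * c := by
    intro h hh
    have h1 : x * ((k : G) * h * (k : G)⁻¹) * x⁻¹ = (k : G) * h * (k : G)⁻¹ :=
      (Subgroup.mem_normalizer_iff.1 hkN ⟨h, hHS hh⟩).1 (hH h hh)
    rw [show x * ((k : G) * h * (k : G)⁻¹) * x⁻¹ =
      (x * (k : G) * x⁻¹) * (x * h * x⁻¹) * (x * (k : G) * x⁻¹)⁻¹ by group, hH h hh] at h1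
    calc c * h = (k : G)⁻¹ * ((x * (k : G) * x⁻¹) * h * (x * (k : G) * x⁻¹)⁻¹) * (k : G) * c := by
          rw [hc]; group
      _ = (k : G)⁻¹ * ((k : G) * h * (k : G)⁻¹) * (k : G) * c := by rw [h1]
      _ = h * c := by group
  have hcx := hC c hcS hcH
  have hk1 : x * (k : G) * x⁻¹ = (k : G) * c := by rw [hc]; group
  have hpow : ∀ i : ℕ, x ^ i * (k : G) * (x ^ i)⁻¹ = (k : G) * c ^ i := by
    intro i
    induction i with
    | zero => simp
    | succ i ih =>
      rw [pow_succ', show x * x ^ i * (k : G) * (x * x ^ i)⁻¹ =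
        x * (x ^ i * (k : G) * (x ^ i)⁻¹) * x⁻¹ by group, ih]
      have hci : x * c ^ i * x⁻¹ = c ^ i := by rw [← conj_pow, hcx]
      calc x * ((k : G) * c ^ i) * x⁻¹ = (x * (k : G) * x⁻¹) * (x * c ^ i * x⁻¹) := by group
        _ = (k : G) * c * c ^ i := by rw [hk1, hci]
        _ = (k : G) * c ^ (i + 1) := by rw [pow_succ']; group
  have h1 := hpow (orderOf x)
  rw [pow_orderOf_eq_one] at h1
  have hcr : c ^ orderOf x = 1 := by simpa using h1.symm
  obtain ⟨j, hj⟩ := hS ⟨c, hcS⟩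
  have hcj : c ^ (p ^ j) = 1 := congrArg Subtype.val hj
  have h2 := (pow_gcd_eq_one (a := c)).2 ⟨hcr, hcj⟩
  rw [(Nat.Coprime.pow_right j (((Fact.out : p.Prime).coprime_iff_not_dvd.2 hreg).symm)).gcd_eq_one,
    pow_one] at h2
  rw [hk1, h2, mul_one]

/-- The idempotents of the chain normalizer are supported on the centralizer of the chain. -/
theorem blockCoeff_chain_eq_zero {M : Ideal Cfsg.AlgInt} (hM : Cfsg.IsPModular p M) {m : ℕ}
    (Q : Fin (m + 1) → Subgroup G) (hQ : Monotone Q) (hQp : ∀ i, IsPGroup p (Q i))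
    {N : Subgroup G} (hN : ∀ g : G, g ∈ N ↔ ∀ i, g ∈ Subgroup.normalizer (Q i : Set G))
    {E : Set (Cfsg.IrrCharacter N)} (hE : Cfsg.IsPBlock M E) {n : N}
    (hn : Cfsg.blockCoeff E n ≠ 0) (j : Fin (m + 1)) :
    (n : G) ∈ Subgroup.centralizer (Q j : Set G) := by
  classical
  haveI := Fact.mk hM.1
  letI := Fintype.ofFinite N
  have hreg : ¬ p ∣ orderOf (n : G) := by
    rw [Subgroup.orderOf_coe]
    intro h
    exact hn (BlockChar.blockCoeff_eq_zero hM hE fun h' => h' h)
  have hfix : ∀ j, ∀ a ∈ Q j, a ∈ N → (n : G) * a * (n : G)⁻¹ = a := by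
    intro j a ha haN
    haveI : ((Q j).subgroupOf N).Normal := ⟨fun u hu k =>
      (Subgroup.mem_normalizer_iff.1 ((hN k).1 k.2 j) (u : G)).1 hu⟩
    have hC : n ∈ Subgroup.centralizer (((Q j).subgroupOf N : Subgroup N) : Set N) := by
      by_contra h
      exact hn (S4653.result (G := N) p M hM ((Q j).subgroupOf N)
        ((hQp j).comap_of_injective _ (Subgroup.subtype_injective N)) E hE n h)
    have h1 : a * (n : G) = (n : G) * a :=
      congrArg Subtype.val (Subgroup.mem_centralizer_iff.1 hC ⟨a, haN⟩ ha)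
    rw [← h1, mul_inv_cancel_right]
  have key : ∀ j, ∀ a ∈ Q j, (n : G) * a * (n : G)⁻¹ = a := by
    intro j
    induction j using Fin.induction with
    | zero =>
      intro a ha
      exact hfix 0 a ha ((hN a).2 fun i => Subgroup.le_normalizer (hQ (Fin.zero_le i) ha))
    | succ j ih =>
      refine fix_of_fix_centralizer (hQp j.succ) (hQ (Fin.castSucc_le_succ j))
        ((hN _).1 n.2 j.succ) hreg ih fun c hc hcc => hfix j.succ c hc ((hN c).2 fun i => ?_)
      rcases le_or_gt j.succ i with h | h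
      · exact Subgroup.le_normalizer (hQ h hc)
      · refine Subgroup.centralizer_le_normalizer _ (Subgroup.mem_centralizer_iff.2 fun a ha => ?_)
        exact (hcc a (hQ (Fin.le_castSucc_iff.2 h) ha)).symm
  refine Subgroup.mem_centralizer_iff.2 fun a ha => ?_
  calc a * (n : G) = (n : G) * a * (n : G)⁻¹ * (n : G) := by rw [key j a ha]
    _ = (n : G) * a := by group

end Cfsg.Agent.BrauerPairs
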