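import Cfsg.Agent.BrauerPairs.CentralDefect
import Cfsg.Agent.BrauerPairs.MaximalCriterion
import Cfsg.Agent.BrauerPairs.Sub
import Cfsg.Agent.Char.Clifford
import Cfsg.Agent.S0887

/-!
# A character of defect zero over a normal p-subgroup
-/

namespace Cfsg.Agent.BrauerPairs

open Cfsg.Agent Cfsg.Agent.Blocks
open scoped ComplexConjugate

universe u

variable {G : Type u} [Group G] [Finite G] {p : ℕ} {M : Ideal Cfsg.AlgInt}

local notation "CG[" Q "]" => Subgroup.centralizer (SetLike.coe Q)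
local notation "sbc" => Cfsg.subgroupBlockCoeff

/-- The character vanishes where the p-part is outside the normal subgroup. -/
theorem vanish_of_defect_zero_quotient (hM : Cfsg.IsPModular p M) (θ : Cfsg.IrrCharacter G)
    (Z : Subgroup G) [Z.Normal] (htriv : ∀ z ∈ Z, (θ : G → ℂ) z = (θ : G → ℂ) 1)
    (hdeg : (Cfsg.charDegree (θ : G → ℂ)).factorization p + (Nat.card Z).factorization p =
      (Nat.card G).factorization p) {g : G} (hg : pPartOf p g ∉ Z) : (θ : G → ℂ) g = 0 := by
  classical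
  have hp := hM.1
  obtain ⟨hn, hnpos⟩ := CharArith.irr_degree_spec θ
  obtain ⟨φ, hφ, he⟩ := Char.IsIrr.exists_quotient Z θ.2 htriv
  have hφn : φ 1 = (Cfsg.charDegree (θ : G → ℂ) : ℂ) := by
    rw [← hn, he 1, QuotientGroup.mk_one]
  obtain ⟨c, hc⟩ := Char.IsIrr.degree_dvd_card hφ hφn
  have hcard := Subgroup.card_eq_card_quotient_mul_card_subgroup Z
  have hc0 : c ≠ 0 := by
    rintro rfl
    rw [mul_zero] at hc
    exact Nat.card_pos.ne' hc
  have hcp : ¬ p ∣ c := by
    intro hdvd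
    have h1 := Nat.Prime.factorization_pos_of_dvd hp hc0 hdvd
    rw [hcard, hc, Nat.factorization_mul (mul_ne_zero hnpos.ne' hc0) Nat.card_pos.ne',
      Nat.factorization_mul hnpos.ne' hc0] at hdeg
    simp only [Finsupp.coe_add, Pi.add_apply] at hdeg
    omega
  have hcod : ¬ p ∣ Nat.card (G ⧸ Z) /
      Cfsg.charDegree ((⟨φ, hφ⟩ : Cfsg.IrrCharacter (G ⧸ Z)) : G ⧸ Z → ℂ) := by
    have e : Cfsg.charDegree φ = Cfsg.charDegree (θ : G → ℂ) := by
      have h1 := (CharArith.irr_degree_spec (⟨φ, hφ⟩ : Cfsg.IrrCharacter (G ⧸ Z))).1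
      replace h1 : φ 1 = (Cfsg.charDegree φ : ℂ) := h1
      rw [hφn] at h1
      exact_mod_cast h1.symm
    show ¬ p ∣ Nat.card (G ⧸ Z) / Cfsg.charDegree φ
    rw [e, hc, Nat.mul_div_cancel_left _ hnpos]
    exact hcp
  rw [he g]
  refine BlockThms.eq_zero_of_not_dvd_codegree hM ⟨φ, hφ⟩ hcod fun hreg => ?_
  obtain ⟨k, hk⟩ := orderOf_pPartOf hp g
  have h1 : orderOf (QuotientGroup.mk' Z (pPartOf p g)) ∣ p ^ k :=
    hk ▸ orderOf_map_dvd (QuotientGroup.mk' Z) _
  have h2 : QuotientGroup.mk' Z (pPartOf p g) =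
      QuotientGroup.mk' Z g ^ pExp p (orderOf g) := by
    rw [pPartOf, map_pow]
  have h3 : orderOf (QuotientGroup.mk' Z (pPartOf p g)) ∣ orderOf (QuotientGroup.mk' Z g) := by
    rw [h2]; exact orderOf_pow_dvd _
  obtain ⟨j, -, hj⟩ := (Nat.dvd_prime_pow hp).1 h1
  rcases Nat.eq_zero_or_pos j with rfl | hj0
  · rw [pow_zero, orderOf_eq_one_iff] at hj
    exact hg ((QuotientGroup.eq_one_iff _).1 hj)
  · exact hreg ((dvd_pow_self p hj0.ne').trans (hj ▸ h3))

variable (Q : Subgroup G) [Q.Normal] {χ : Cfsg.IrrCharacter G}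

/-- A group with a character of defect zero modulo `Q` has no larger normal p-subgroup. -/
theorem le_of_defect_zero_quotient (hM : Cfsg.IsPModular p M) (hQ : IsPGroup p Q)
    (htriv : ∀ q ∈ Q, (χ : G → ℂ) q = (χ : G → ℂ) 1)
    (hdeg : (Cfsg.charDegree (χ : G → ℂ)).factorization p + (Nat.card Q).factorization p =
      (Nat.card G).factorization p)
    (R : Subgroup G) [R.Normal] (hR : IsPGroup p R) : R ≤ Q := by
  classical
  haveI := Fact.mk hM.1
  letI := Fintype.ofFinite G
  set S := R ⊔ Q with hS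
  haveI : S.Normal := Subgroup.sup_normal R Q
  have hSp : IsPGroup p S := hR.to_sup_of_normal_right hQ
  let f : G → ℂ := fun g => if g ∈ S then 1 else 0
  have hfc : Cfsg.IsClassFunction G f := fun x k =>
    if_congr ⟨fun h => by
      simpa [mul_assoc] using (inferInstance : S.Normal).conj_mem _ h k⁻¹,
      fun h => (inferInstance : S.Normal).conj_mem x h k⟩ rfl rfl
  have hχ1 : (χ : G → ℂ) 1 ≠ 0 := Char.IsIrr.one_ne_zero χ.2
  have hω : omega (χ : G → ℂ) f = (Nat.card Q : ℂ) := by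
    rw [omega, div_eq_iff hχ1, Nat.card_eq_fintype_card,
      Finset.sum_congr rfl (g := fun g => if g ∈ Q then (χ : G → ℂ) 1 else 0) fun g _ => ?_,
      ← Finset.sum_filter, Finset.sum_const, nsmul_eq_mul]
    · congr 2
      rw [Fintype.card_subtype]
    · simp only [f]
      by_cases hgQ : g ∈ Q
      · rw [if_pos (Subgroup.mem_sup_right hgQ), if_pos hgQ, one_mul, htriv g hgQ]
      · rw [if_neg hgQ]
        split_ifs with hgS
        · rw [one_mul]
          refine vanish_of_defect_zero_quotient hM χ Q htriv hdeg ?_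
          rwa [show pPartOf p g = g from ?_]
          have h := pPartOf_mul_pPrimePartOf hM.1 g
          have h2 : pPrimePartOf p g = 1 := by
            obtain ⟨k, hk⟩ := IsPGroup.iff_orderOf.1 hSp ⟨g, hgS⟩
            rw [← Subgroup.orderOf_coe] at hk
            have h3 : orderOf (pPrimePartOf p g) ∣ p ^ k := hk ▸ orderOf_pow_dvd _
            obtain ⟨j, -, hj⟩ := (Nat.dvd_prime_pow hM.1).1 h3
            rcases Nat.eq_zero_or_pos j with rfl | hj0
            · rwa [pow_zero, orderOf_eq_one_iff] at hj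
            · exact absurd (hj ▸ dvd_pow_self p hj0.ne') (not_dvd_orderOf_pPrimePartOf hM.1 g)
          rwa [h2, mul_one] at h
        · rw [zero_mul]
  have hconv : conv f f = (Nat.card S : ℂ) • f := by
    funext z
    rw [Pi.smul_apply, smul_eq_mul]
    show ∑ g, f g * f (g⁻¹ * z) = _
    simp only [f]
    split_ifs with hz
    · rw [mul_one, Nat.card_eq_fintype_card, Fintype.card_subtype]
      rw [← Finset.sum_boole]
      refine Finset.sum_congr rfl fun g _ => ?_
      by_cases hg : g ∈ S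
      · rw [if_pos hg, if_pos (mul_mem (inv_mem hg) hz), mul_one]
      · rw [if_neg hg, zero_mul]
    · rw [mul_zero]
      refine Finset.sum_eq_zero fun g _ => ?_
      by_cases hg : g ∈ S
      · rw [if_neg (fun h : g⁻¹ * z ∈ S => hz (by simpa using mul_mem hg h)), mul_zero]
      · rw [if_neg hg, zero_mul]
  have h := omega_conv χ.2 hfc hfc
  rw [hconv, omega_smul, hω] at h
  have h' : Nat.card S = Nat.card Q := by
    exact_mod_cast mul_right_cancel₀ (Nat.cast_ne_zero.2 Nat.card_pos.ne' :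
      (Nat.card Q : ℂ) ≠ 0) h
  have heq : Q = S := Subgroup.eq_of_le_of_card_ge le_sup_right h'.le
  rw [heq]
  exact le_sup_left

/-- The block of `C(Q)` below a character of defect zero modulo `Q`. -/
theorem isDefectGroup_of_defect_zero_quotient (hM : Cfsg.IsPModular p M) (hQ : IsPGroup p Q)
    {F' : Set (Cfsg.IrrCharacter G)} (hχ : χ ∈ F') {e : Set (Cfsg.IrrCharacter CG[Q])}
    (he : Cfsg.IsPBlock M e) (hF'e : ∀ t, Cfsg.blockCoeff F' t = sbc CG[Q] e t)
    (htriv : ∀ q ∈ Q, (χ : G → ℂ) q = (χ : G → ℂ) 1)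
    (hdeg : (Cfsg.charDegree (χ : G → ℂ)).factorization p + (Nat.card Q).factorization p =
      (Nat.card G).factorization p) :
    Cfsg.IsDefectGroup p M e ((Q ⊓ CG[Q]).subgroupOf CG[Q]) := by
  classical
  haveI := Fact.mk hM.1
  letI := Fintype.ofFinite G
  set K := Q ⊔ CG[Q] with hK
  haveI : K.Normal := Subgroup.sup_normal Q CG[Q]
  letI := Fintype.ofFinite K
  letI := Fintype.ofFinite CG[Q]
  have hCN : CG[Q] ≤ Subgroup.normalizer (Q : Set G) :=
    Subgroup.centralizer_le_normalizer (Q : Set G)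
  obtain ⟨ψ, hψ⟩ := Char.exists_constituent_res (N := K) χ.2
  -- `ψ` is trivial on `Q`
  have hψQ : ∀ q ∈ Q.subgroupOf K, (ψ : K → ℂ) q = (ψ : K → ℂ) 1 := fun q hq =>
    Char.IsChar.constituent_kernel (Char.isCharacter_res K (Char.IsIrr.isCharacter χ.2)) ψ.2 hψ
      (htriv (q : G) (Subgroup.mem_subgroupOf.1 hq))
  haveI : (Q.subgroupOf K).Normal := Subgroup.normal_subgroupOf
  obtain ⟨φ, hφ, hφv⟩ := Char.IsIrr.exists_quotient (Q.subgroupOf K) ψ.2 hψQ
  let inc : CG[Q] →* K := Subgroup.inclusion le_sup_right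
  have hsurj : Function.Surjective ((QuotientGroup.mk' (Q.subgroupOf K)).comp inc) := by
    intro x
    induction x using QuotientGroup.induction_on with | _ y =>
    have h' : (y : G) ∈ ((Q ⊔ CG[Q] : Subgroup G) : Set G) := y.2
    rw [sup_comm, Subgroup.coe_mul_of_left_le_normalizer_right _ _ hCN] at h'
    obtain ⟨c, hc, q, hq, hcq⟩ := Set.mem_mul.1 h'
    refine ⟨⟨c, hc⟩, QuotientGroup.eq.2 ?_⟩
    rw [Subgroup.mem_subgroupOf]
    show c⁻¹ * (y : G) ∈ Q
    rw [← hcq, inv_mul_cancel_left]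
    exact hq
  have hθirr : Cfsg.IsIrrCharacter CG[Q] fun c => (ψ : K → ℂ) (inc c) := by
    have := Char.isIrrCharacter_comp _ hsurj hφ
    convert this using 1
    funext c
    exact hφv (inc c)
  let θ : Cfsg.IrrCharacter CG[Q] := ⟨_, hθirr⟩
  -- `θ` lies in `e`
  have hθe : θ ∈ e := by
    have hω : omega (χ : G → ℂ) (sbc CG[Q] e) = 1 := by
      rw [← funext hF'e, omega_blockCoeff, if_pos hχ]
    have hconj : ∀ k : G, ∀ y : G, sbc CG[Q] e (k * y * k⁻¹) = sbc CG[Q] e y := fun k y => by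
      rw [← hF'e, ← hF'e]; exact isClassFunction_blockCoeff F' y k
    have hCn : ∀ k y : G, y ∈ CG[Q] → k * y * k⁻¹ ∈ CG[Q] := fun k y hy =>
      (inferInstance : (CG[Q]).Normal).conj_mem y hy k
    have hone : ∀ η ∈ Char.orbit (G := G) (ψ : K → ℂ),
        ∑ c : CG[Q], Cfsg.blockCoeff e c * η (inc c) =
          ∑ c : CG[Q], Cfsg.blockCoeff e c * (ψ : K → ℂ) (inc c) := by
      intro η hη
      obtain ⟨k, rfl⟩ := Char.mem_orbit.1 hη
      refine Fintype.sum_equiv
        { toFun := fun c => ⟨k * (c : G) * k⁻¹, hCn k c c.2⟩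
          invFun := fun c => ⟨k⁻¹ * (c : G) * k, by simpa using hCn k⁻¹ c c.2⟩
          left_inv := fun c => Subtype.ext (show k⁻¹ * (k * (c : G) * k⁻¹) * k = (c : G) by group)
          right_inv := fun c => Subtype.ext (show k * (k⁻¹ * (c : G) * k) * k⁻¹ = (c : G) by group) }
        _ _ fun c => ?_
      show _ = Cfsg.blockCoeff e ⟨k * (c : G) * k⁻¹, _⟩ * _
      rw [← sbc_apply e c, ← sbc_apply e ⟨k * (c : G) * k⁻¹, hCn k c c.2⟩, hconj]
      rfl
    have hsum : ∑ g : G, sbc CG[Q] e g * (χ : G → ℂ) g =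
        ∑ c : CG[Q], Cfsg.blockCoeff e c * (χ : G → ℂ) c := by
      rw [← Finset.sum_filter_add_sum_filter_not Finset.univ (fun g => g ∈ CG[Q]),
        Finset.sum_eq_zero (s := Finset.univ.filter fun g => ¬ g ∈ CG[Q]) (fun g hg => by
          rw [sbc_of_notMem e (Finset.mem_filter.1 hg).2, zero_mul]), add_zero,
        Finset.sum_subtype (Finset.univ.filter fun g => g ∈ CG[Q]) (fun g => by simp :
          ∀ g, g ∈ Finset.univ.filter (fun g => g ∈ CG[Q]) ↔ g ∈ CG[Q])]
      exact Finset.sum_congr rfl fun c _ => by rw [sbc_apply]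
    have hcl := Char.clifford χ.2 ψ.2 hψ
    have hc2 : ∀ c : CG[Q], (χ : G → ℂ) c =
        Cfsg.classInner (fun n : K => (χ : G → ℂ) n) (ψ : K → ℂ) *
          ∑ η ∈ Char.orbit (G := G) (ψ : K → ℂ), η (inc c) := fun c => by
      have := congrFun hcl (inc c)
      simpa [inc, Finset.sum_apply] using this
    have hne : omega (θ : CG[Q] → ℂ) (Cfsg.blockCoeff e) ≠ 0 := by
      intro h0
      have h1 : ∑ c : CG[Q], Cfsg.blockCoeff e c * (ψ : K → ℂ) (inc c) = 0 := by
        rw [omega, div_eq_zero_iff] at h0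
        exact h0.resolve_right (Char.IsIrr.one_ne_zero θ.2)
      have h2 : omega (χ : G → ℂ) (sbc CG[Q] e) = 0 := by
        rw [omega, hsum]
        simp only [hc2, Finset.mul_sum, mul_left_comm (Cfsg.blockCoeff e _)]
        rw [Finset.sum_comm, Finset.sum_eq_zero, zero_div]
        intro η hη
        rw [← Finset.mul_sum, hone η hη, h1, mul_zero]
      rw [h2] at hω
      exact zero_ne_one hω
    rw [omega_blockCoeff] at hne
    by_contra hn
    exact hne (if_neg hn)
  haveI := normal_inter_centralizer Q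
  have hZ : IsPGroup p (Q.subgroupOf CG[Q]) :=
    hQ.comap_of_injective _ (Subgroup.subtype_injective _)
  have hθtriv : ∀ z ∈ Q.subgroupOf CG[Q], (θ : CG[Q] → ℂ) z = (θ : CG[Q] → ℂ) 1 := fun z hz => by
    show (ψ : K → ℂ) (inc z) = (ψ : K → ℂ) (inc 1)
    rw [map_one]
    exact hψQ _ (Subgroup.mem_subgroupOf.2 (show ((inc z : K) : G) ∈ Q from
      Subgroup.mem_subgroupOf.1 hz))
  have hdegθ : (Cfsg.charDegree (θ : CG[Q] → ℂ)).factorization p +
      (Nat.card (Q.subgroupOf CG[Q])).factorization p = (Nat.card CG[Q]).factorization p := by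
    refine le_antisymm (degree_val_add_le θ _ hθtriv) ?_
    have hd : Cfsg.charDegree (θ : CG[Q] → ℂ) = Cfsg.charDegree (ψ : K → ℂ) := by
      have h1 := (CharArith.irr_degree_spec θ).1
      have h2 := (CharArith.irr_degree_spec ψ).1
      have h3 : (θ : CG[Q] → ℂ) 1 = (ψ : K → ℂ) 1 := congrArg (ψ : K → ℂ) (map_one inc)
      rw [h1, h2] at h3
      exact_mod_cast h3
    obtain ⟨hdvd, hidx⟩ := S0887.result K (χ : G → ℂ) χ.2 (ψ : K → ℂ) ψ.2 hψ _ _
      (CharArith.irr_degree_spec χ).1 (CharArith.irr_degree_spec ψ).1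
    have hψpos := (CharArith.irr_degree_spec ψ).2
    have hχpos := (CharArith.irr_degree_spec χ).2
    have hk := (Nat.factorization_le_iff_dvd
      (Nat.div_pos (Nat.le_of_dvd hχpos hdvd) hψpos).ne'
      Subgroup.index_ne_zero_of_finite).2 hidx p
    rw [Nat.factorization_div hdvd, Finsupp.tsub_apply] at hk
    have hGK := congrArg (fun n : ℕ => n.factorization p) (Subgroup.card_mul_index K)
    simp only [Nat.factorization_mul Nat.card_pos.ne' Subgroup.index_ne_zero_of_finite,
      Finsupp.coe_add, Pi.add_apply] at hGK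
    have hKC : Nat.card K * Nat.card (Q.subgroupOf CG[Q]) = Nat.card Q * Nat.card CG[Q] := by
      have h1 := Subgroup.card_eq_card_quotient_mul_card_subgroup (Q.subgroupOf K)
      have h2 : Nat.card (K ⧸ Q.subgroupOf K) * Nat.card (Q.subgroupOf CG[Q]) = Nat.card CG[Q] := by
        have hker : ((QuotientGroup.mk' (Q.subgroupOf K)).comp inc).ker = Q.subgroupOf CG[Q] := by
          ext c
          rw [MonoidHom.mem_ker, MonoidHom.comp_apply, QuotientGroup.mk'_apply,
            QuotientGroup.eq_one_iff, Subgroup.mem_subgroupOf, Subgroup.mem_subgroupOf]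
          rfl
        rw [← Nat.card_congr (QuotientGroup.quotientKerEquivOfSurjective _ hsurj).toEquiv, hker,
          ← Subgroup.card_eq_card_quotient_mul_card_subgroup]
      rw [h1, Nat.card_congr (Subgroup.subgroupOfEquivOfLe (le_sup_left : Q ≤ K)).toEquiv, ← h2]
      ring
    have hKC' := congrArg (fun n : ℕ => n.factorization p) hKC
    simp only [Nat.factorization_mul Nat.card_pos.ne' Nat.card_pos.ne',
      Finsupp.coe_add, Pi.add_apply] at hKC'
    rw [hd]
    omega
  have hdef := blockDefect_le_of_central hM he hθe (Q.subgroupOf CG[Q]) hZ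
    (fun z hz => commute_of_mem_subgroupOf hz) hθtriv hdegθ
  obtain ⟨gd, hgd⟩ := exists_isDefectClass hM he
  obtain ⟨D, hD⟩ := DefectThms.exists_isSylC p gd
  have hDd : Cfsg.IsDefectGroup p M e D := DefectThms.isDefectGroup_iff.2 ⟨gd, hgd, hD⟩
  have hle := DefectThms.le_defectGroup_of_normal hM he hDd (Q.subgroupOf CG[Q]) hZ
  have hcard := BlockChar.card_defectGroup hM he hDd
  obtain ⟨j, hj⟩ := IsPGroup.iff_card.1 hZ
  rw [hj, hM.1.factorization_pow, Finsupp.single_eq_same] at hdef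
  have heq : Q.subgroupOf CG[Q] = D := Subgroup.eq_of_le_of_card_ge hle (by
    rw [hcard, hj]; exact Nat.pow_le_pow_right hM.1.pos hdef)
  rw [Subgroup.inf_subgroupOf_right, heq]
  exact hDd

end Cfsg.Agent.BrauerPairs
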