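import Mathlib
import Cfsg.Agent.BrauerPairs.FirstMain
import Cfsg.Agent.BlockThms.NormalCor
import Cfsg.Agent.Char.Glauberman.Correspondence
import Cfsg.Agent.Char.Glauberman.Bridge
import Cfsg.Agent.Char.Clifford
import Cfsg.Agent.OddLocal.InvTransitivity
import Cfsg.Prelude.Def_OddOrderLocal

/-!
# Normal subgroups of order prime to `p` in the kernels of blocks, along Brauer pairs

For a `p'`-subgroup `W` the Brauer map at `R` sends the idempotent of the trivial character of `W`
to a unit multiple of that of `W ∩ C(R)`; so "`W` lies in the kernel" passes along inclusions.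
-/

set_option autoImplicit false
set_option linter.style.haveILetI false
set_option linter.unusedSectionVars false

namespace Cfsg.Agent.BrauerPairs.KernelTransfer

open Cfsg.Agent Cfsg.Agent.Blocks Cfsg.Agent.BrauerPairs

universe u

variable {G : Type u} [Group G] [Finite G] {p : ℕ} {M : Ideal Cfsg.AlgInt}

local notation "CG[" Q "]" => Subgroup.centralizer (SetLike.coe Q)
local notation "sbc" => Cfsg.subgroupBlockCoeff

open scoped Classical in
/-- The idempotent of the trivial character of `W`. -/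
noncomputable def ind (W : Subgroup G) : G → ℂ :=
  fun g => if g ∈ W then (Nat.card W : ℂ)⁻¹ else 0

theorem memLocalRing_ind (hM : Cfsg.IsPModular p M) {W : Subgroup G} (hW : ¬ p ∣ Nat.card W)
    (g : G) : Cfsg.MemLocalRing M (ind W g) := by
  unfold ind
  split_ifs
  · exact memLocalRing_natCast_inv hM hW
  · exact (localRing hM).zero_mem

theorem isInv_ind {W S : Subgroup G} (h : S ≤ Subgroup.normalizer (W : Set G)) :
    IsInv (S : Set G) (ind W) := by
  classical
  intro k hk x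
  unfold ind
  exact if_congr (Subgroup.mem_normalizer_iff.1 (h hk) x).symm rfl rfl

open scoped Classical in
/-- The central character of a character on the idempotent of a normal subgroup. -/
theorem omega_ind {K : Type u} [Group K] [Fintype K] (V : Subgroup K) [V.Normal]
    (ξ : Cfsg.IrrCharacter K) :
    omega (ξ : K → ℂ) (ind V) =
      if ∀ v ∈ V, (ξ : K → ℂ) v = (ξ : K → ℂ) 1 then 1 else 0 := by
  let one : Cfsg.IrrCharacter V := ⟨fun _ => 1, Char.isIrrCharacter_one⟩
  have h1 : omega (ξ : K → ℂ) (ind V) =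
      Cfsg.classInner (fun v : V => (ξ : K → ℂ) v) (one : V → ℂ) / (ξ : K → ℂ) 1 := by
    rw [omega, Cfsg.classInner, Finset.mul_sum]
    congr 1
    rw [BlockThms.sum_eq_sum_subgroup (N := V) fun g hg => by simp [ind, hg]]
    refine Finset.sum_congr rfl fun v _ => ?_
    simp [ind, one]
  have hone := Char.IsIrr.one_ne_zero ξ.2
  by_cases h0 : Cfsg.classInner (fun v : V => (ξ : K → ℂ) v) (one : V → ℂ) = 0
  · rw [h1, h0, zero_div, if_neg fun hk => hone ?_]
    rw [show (fun v : V => (ξ : K → ℂ) v) = (ξ : K → ℂ) 1 • (one : V → ℂ) from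
      funext fun v => by simp [one, hk v v.2], Char.classInner_smul_left,
      Char.classInner_irr_self one.2, mul_one] at h0
    exact h0
  · have hcl := Char.clifford ξ.2 one.2 h0
    have horb : Char.orbit (one : V → ℂ) = {fun _ => 1} :=
      Finset.eq_singleton_iff_unique_mem.2 ⟨Char.self_mem_orbit _, fun ψ hψ => by
        obtain ⟨g, rfl⟩ := Char.mem_orbit.1 hψ; rfl⟩
    rw [horb, Finset.sum_singleton] at hcl
    have h3 := congrFun hcl 1
    simp only [Pi.smul_apply, smul_eq_mul, mul_one, OneMemClass.coe_one] at h3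
    rw [h1, if_pos fun v hv => ?_, ← h3, div_self hone]
    have h2 := congrFun hcl ⟨v, hv⟩
    simp only [Pi.smul_apply, smul_eq_mul, mul_one] at h2
    rw [h2, h3]

theorem ind_res (W H : Subgroup G) :
    (fun a : H => ind W (a : G)) =
      ((Nat.card (W.subgroupOf H) : ℂ) / (Nat.card W : ℂ)) • ind (W.subgroupOf H) := by
  funext a
  rw [Pi.smul_apply, smul_eq_mul]
  unfold ind
  have hne : (Nat.card (W.subgroupOf H) : ℂ) ≠ 0 := Nat.cast_ne_zero.2 Nat.card_pos.ne'
  by_cases ha : (a : G) ∈ W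
  · rw [if_pos ha, if_pos (Subgroup.mem_subgroupOf.2 ha), div_mul_eq_mul_div, mul_inv_cancel₀ hne,
      one_div]
  · rw [if_neg ha, if_neg (mt Subgroup.mem_subgroupOf.1 ha), mul_zero]

theorem card_inf_modEq [hp : Fact p.Prime] {W R : Subgroup G} (hR : IsPGroup p R)
    (hRW : R ≤ Subgroup.normalizer (W : Set G)) :
    (Nat.card W : ZMod p) = (Nat.card ↥(W ⊓ CG[R]) : ZMod p) := by
  classical
  have hn : ∀ s ∈ R, ∀ g ∈ W, s * g * s⁻¹ ∈ W := fun s hs g hg =>
    (Subgroup.mem_normalizer_iff.1 (hRW hs) g).1 hg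
  have := Fintype.ofFinite W
  have := Fintype.ofFinite (Char.Glauberman.Fixed (Char.Glauberman.conjOp hn))
  rw [Char.Glauberman.card_cast_eq (a := Char.Glauberman.conjOp hn) hR,
    Nat.card_congr (Char.Glauberman.fixedEquiv hn rfl inf_le_left).toEquiv]

/-- `W` is in the kernel of every member of `b`. -/
def InKer {H : Subgroup G} (W : Subgroup G) (b : Set (Cfsg.IrrCharacter H)) : Prop :=
  ∀ ξ ∈ b, ∀ a : H, (a : G) ∈ W → (ξ : H → ℂ) a = (ξ : H → ℂ) 1

/-- A normal `p'`-subgroup in the kernel of one member is in the kernel of the block. -/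
theorem inKer_of_mem (hM : Cfsg.IsPModular p M) {H W : Subgroup G}
    (hHW : H ≤ Subgroup.normalizer (W : Set G)) (hW : ¬ p ∣ Nat.card W)
    {b : Set (Cfsg.IrrCharacter H)} (hb : Cfsg.IsPBlock M b) {ξ : Cfsg.IrrCharacter H}
    (hξ : ξ ∈ b) (h : ∀ a : H, (a : G) ∈ W → (ξ : H → ℂ) a = (ξ : H → ℂ) 1) :
    InKer W b := by
  have hVn : (W.subgroupOf H).Normal := Subgroup.normal_subgroupOf_of_le_normalizer hHW
  have hVp : ¬ p ∣ Nat.card (W.subgroupOf H) := fun hd => hW (hd.trans (by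
    rw [← Subgroup.inf_subgroupOf_right,
      Nat.card_congr (Subgroup.subgroupOfEquivOfLe (inf_le_right : W ⊓ H ≤ H)).toEquiv]
    exact Subgroup.card_dvd_of_le inf_le_left))
  obtain ⟨K, -, hK, -, -, hmax⟩ := BlockThms.exists_blockKer hM hb hξ
  intro ψ hψ a ha
  have h1 : a ∈ (K : Set H) :=
    hmax _ hVn hVp (fun v hv => h v (Subgroup.mem_subgroupOf.1 hv)) (Subgroup.mem_subgroupOf.2 ha)
  rw [hK] at h1
  exact h1 ψ hψ

/-- The idempotent of `b` times that of `W`. -/
theorem conv_sbc_ind [Fintype G] (hM : Cfsg.IsPModular p M) {H W : Subgroup G} (hWH : W ≤ H)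
    (hHW : H ≤ Subgroup.normalizer (W : Set G)) (hW : ¬ p ∣ Nat.card W)
    {b : Set (Cfsg.IrrCharacter H)} (hb : Cfsg.IsPBlock M b) [Decidable (InKer W b)] :
    conv (sbc H b) (ind W) = if InKer W b then sbc H b else 0 := by
  classical
  have := Fintype.ofFinite H
  haveI : (W.subgroupOf H).Normal := Subgroup.normal_subgroupOf_of_le_normalizer hHW
  have hsup : ∀ g, g ∉ H → ind W g = 0 := fun g hg => if_neg fun h => hg (hWH h)
  funext z
  by_cases hz : z ∈ H
  · lift z to H using hz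
    rw [conv_of_supported (fun g hg => sbc_of_notMem b hg)]
    simp only [sbc_apply]
    have hcl1 := isClassFunction_blockCoeff b
    have hcl2 : Cfsg.IsClassFunction H fun a : H => ind W (a : G) :=
      (isInv_ind hHW).isClassFunction_res
    have key : conv (Cfsg.blockCoeff b) (fun a : H => ind W (a : G)) =
        if InKer W b then Cfsg.blockCoeff b else 0 := by
      refine classFun_ext_omega (isClassFunction_conv hcl1 hcl2)
        (by split_ifs; exacts [hcl1, fun _ _ => rfl]) fun χ => ?_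
      rw [omega_conv χ.2 hcl1 hcl2, omega_blockCoeff, ind_res, omega_smul, omega_ind]
      rw [show (Nat.card (W.subgroupOf H) : ℂ) / (Nat.card W : ℂ) = 1 by
        rw [Nat.card_congr (Subgroup.subgroupOfEquivOfLe hWH).toEquiv,
          div_self (Nat.cast_ne_zero.2 Nat.card_pos.ne')], one_mul]
      by_cases hk : InKer W b
      · rw [if_pos hk, omega_blockCoeff]
        by_cases hχ : χ ∈ b
        · rw [if_pos hχ, if_pos fun v hv => hk χ hχ v (Subgroup.mem_subgroupOf.1 hv), mul_one]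
        · rw [if_neg hχ, zero_mul]
      · rw [if_neg hk, show omega (χ : H → ℂ) (0 : H → ℂ) = 0 by simp [omega]]
        by_cases hχ : χ ∈ b
        · rw [if_pos hχ, if_neg fun hv => hk (inKer_of_mem hM hHW hW hb hχ fun a ha => hv a ha), mul_zero]
        · rw [if_neg hχ, zero_mul]
    rw [congrFun key z]
    split_ifs
    · rw [sbc_apply]
    · rfl
  · rw [conv_eq_zero_of_notMem (fun g hg => sbc_of_notMem b hg) hsup hz]
    split_ifs
    · rw [sbc_of_notMem b hz]
    · rfl

/-- **Kernels along the Brauer map.** -/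
theorem inKer_iff (hM : Cfsg.IsPModular p M) {H W R : Subgroup G} (hWH : W ≤ H)
    (hHW : H ≤ Subgroup.normalizer (W : Set G)) (hW : ¬ p ∣ Nat.card W)
    {b : Set (Cfsg.IrrCharacter H)} (hb : Cfsg.IsPBlock M b) (hR : IsPGroup p R)
    (hRW : R ≤ Subgroup.normalizer (W : Set G))
    (hCW : CG[R] ≤ Subgroup.normalizer (W : Set G))
    (hbR : IsInv (R : Set G) (sbc H b)) (hbC : IsInv (CG[R] : Set G) (sbc H b))
    (η : Cfsg.IrrCharacter CG[R])
    (hη : Cfsg.MemLocalIdeal M (Cfsg.brauerOmega R (sbc H b) (η : CG[R] → ℂ) - 1)) :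
    InKer W b ↔ ∀ a : CG[R], (a : G) ∈ W → (η : CG[R] → ℂ) a = (η : CG[R] → ℂ) 1 := by
  classical
  haveI := Fact.mk hM.1
  have := Fintype.ofFinite G
  letI := Fintype.ofFinite CG[R]
  haveI : (W.subgroupOf CG[R]).Normal := Subgroup.normal_subgroupOf_of_le_normalizer hCW
  have h := brauerOmega_conv hM hR hbR (isInv_ind hRW) hbC (isInv_ind hCW)
    (memLocalRing_sbc hM hb) (memLocalRing_ind hM hW) η
  rw [conv_sbc_ind hM hWH hHW hW hb] at h
  set c : ℂ := (Nat.card (W.subgroupOf CG[R]) : ℂ) / (Nat.card W : ℂ) with hc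
  have hωW : Cfsg.brauerOmega R (ind W) (η : CG[R] → ℂ) =
      c * if ∀ v ∈ W.subgroupOf CG[R], (η : CG[R] → ℂ) v = (η : CG[R] → ℂ) 1 then 1 else 0 := by
    rw [brauerOmega_eq, ind_res, omega_smul, omega_ind]
  rw [hωW] at h
  have hcR : Cfsg.MemLocalRing M c := by
    rw [hc, div_eq_mul_inv]
    exact (localRing hM).mul_mem (memLocalRing_natCast hM _) (memLocalRing_natCast_inv hM hW)
  have hcn : ¬ Cfsg.MemLocalIdeal M c := by
    intro hI
    have h2 := memLocalIdeal_mul_left hM (memLocalRing_natCast hM (Nat.card W)) hI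
    rw [hc, mul_div_cancel₀ _ (Nat.cast_ne_zero.2 Nat.card_pos.ne'),
      memLocalIdeal_natCast_iff hM, ← ZMod.natCast_eq_zero_iff,
      ← Subgroup.inf_subgroupOf_right,
      Nat.card_congr (Subgroup.subgroupOfEquivOfLe (inf_le_right : W ⊓ CG[R] ≤ CG[R])).toEquiv,
      ← card_inf_modEq hR hRW, ZMod.natCast_eq_zero_iff] at h2
    exact hW h2
  have hiff : (∀ v ∈ W.subgroupOf CG[R], (η : CG[R] → ℂ) v = (η : CG[R] → ℂ) 1) ↔
      ∀ a : CG[R], (a : G) ∈ W → (η : CG[R] → ℂ) a = (η : CG[R] → ℂ) 1 := Iff.rfl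
  rw [← hiff]
  constructor
  · intro hk
    by_contra hn
    rw [if_pos hk, if_neg hn, mul_zero, mul_zero, sub_zero] at h
    have h1 := memLocalIdeal_sub hM h hη
    rw [sub_sub_cancel] at h1
    exact not_memLocalIdeal_one hM h1
  · intro hk
    by_contra hn
    rw [if_neg hn, if_pos hk, mul_one,
      show Cfsg.brauerOmega R (0 : G → ℂ) (η : CG[R] → ℂ) = 0 by simp [brauerOmega_eq, omega],
      zero_sub] at h
    have h1 := memLocalIdeal_neg h
    rw [neg_neg] at h1
    apply hcn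
    have h2 := memLocalIdeal_sub hM h1 (memLocalIdeal_mul_right hM hη hcR)
    rwa [sub_mul, one_mul, sub_sub_cancel] at h2

/-- A pair of a block inducing `B` is a pair of `B`. -/
theorem pair_of_induced (hM : Cfsg.IsPModular p M) {H R : Subgroup G} [Fintype H] (hRH : R ≤ H)
    (hCH : CG[R] ≤ H) (hR : IsPGroup p R) {b : Set (Cfsg.IrrCharacter H)}
    {B : Set (Cfsg.IrrCharacter G)} (hind : Cfsg.IsInducedBlock M H b B)
    (η : Cfsg.IrrCharacter CG[R])
    (hη : Cfsg.MemLocalIdeal M (Cfsg.brauerOmega R (sbc H b) (η : CG[R] → ℂ) - 1)) :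
    Cfsg.IsBrauerPairOf p M B R (Cfsg.blockOf M (η : CG[R] → ℂ)) := by
  classical
  have := Fintype.ofFinite G
  have : Finite (ConjClasses G) := Quotient.finite _
  have := Fintype.ofFinite (ConjClasses G)
  letI := Fintype.ofFinite CG[R]
  letI := Fintype.ofFinite CG[R.subgroupOf H]
  have hpair := (pair_sbc_iff hM hRH hCH hR hind.1 η).1 hη
  have hmem : compIrr (centIso hRH hCH) η ∈
      resBlock hRH hCH (Cfsg.blockOf M (η : CG[R] → ℂ)) := by
    show compIrr (centIso hRH hCH).symm (compIrr (centIso hRH hCH) η) ∈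
      Cfsg.blockOf M (η : CG[R] → ℂ)
    rw [show compIrr (centIso hRH hCH).symm (compIrr (centIso hRH hCH) η) = η from
      (compIrrEquiv (centIso hRH hCH)).symm_apply_apply η]
    exact mem_blockOf_self hM η
  obtain ⟨χ, hχ⟩ := IsPBlock.nonempty hM hind.1
  obtain ⟨ψ, hψ⟩ := IsPBlock.nonempty hM hind.2.1
  set f := Cfsg.blockCoeff B with hf
  have hfc : Cfsg.IsClassFunction G f := isClassFunction_blockCoeff B
  have hfR := memLocalRing_blockCoeff hM hind.2.1
  have hlink := omega_link hM hpair hmem hχ (z := fun t : H => f (t : G))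
    (isClassFunction_res H hfc) fun t => hfR _
  have hres : Cfsg.brauerOmega (R.subgroupOf H) (fun t : H => f (t : G))
      (compIrr (centIso hRH hCH) η : CG[R.subgroupOf H] → ℂ) =
      Cfsg.brauerOmega R f (η : CG[R] → ℂ) := by
    rw [← brauerOmega_res hRH hCH]
    rfl
  rw [hres] at hlink
  -- the induced central character on the idempotent
  have hexp : (fun t : H => f (t : G)) =
      ∑ C : ConjClasses G, f C.out • fun t : H => classInd C.out (t : G) := by
    funext t
    rw [Finset.sum_apply, Finset.sum_eq_single (ConjClasses.mk (t : G))]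
    · have h1 : IsConj (ConjClasses.mk (t : G)).out (t : G) :=
        ConjClasses.mk_eq_mk_iff_isConj.1 (Quotient.out_eq _)
      rw [Pi.smul_apply, classInd_apply, if_pos h1, smul_eq_mul, mul_one,
        Char.classFun_isConj hfc h1]
    · intro C _ hC
      rw [Pi.smul_apply, classInd_apply, if_neg, smul_zero]
      intro h1
      refine hC ?_
      rw [← ConjClasses.mk_eq_mk_iff_isConj.2 h1]
      exact (Quotient.out_eq C).symm
    · simp
  have hone : Cfsg.MemLocalIdeal M (omega (χ : H → ℂ) (fun t : H => f (t : G)) -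
      omega (ψ : G → ℂ) f) := by
    rw [hexp, omega_sum, omega_eq_sum_classes (Char.isClassFunction_of_isIrr ψ.2) hfc,
      ← Finset.sum_sub_distrib]
    refine memLocalIdeal_sum hM _ fun C _ => ?_
    rw [omega_smul, ← inducedCentralChar_eq_omega, ← mul_sub]
    exact memLocalIdeal_mul_left hM (hfR _) (hind.2.2 χ hχ ψ hψ _)
  have h1 : omega (ψ : G → ℂ) f = 1 := by rw [hf, omega_blockCoeff, if_pos hψ]
  rw [h1] at hone
  refine memLocalIdeal_brauerOmega_block hM hR (isPBlock_blockOf η) hind.2.1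
    (mem_blockOf_self hM η) ?_
  have := memLocalIdeal_add hM hlink hone
  simpa using this

/-- Below a defect group of `b` there is a character pairing with `b`. -/
theorem exists_root (hM : Cfsg.IsPModular p M) {H : Subgroup G} {b : Set (Cfsg.IrrCharacter H)}
    (hb : Cfsg.IsPBlock M b) {D : Subgroup H} (hD : Cfsg.IsDefectGroup p M b D) {R : Subgroup G}
    (hRD : R ≤ D.map H.subtype) (hR : IsPGroup p R) (hCH : CG[R] ≤ H) :
    ∃ η : Cfsg.IrrCharacter CG[R],
      Cfsg.MemLocalIdeal M (Cfsg.brauerOmega R (sbc H b) (η : CG[R] → ℂ) - 1) := by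
  have := Fintype.ofFinite G
  obtain ⟨g, hg, S, rfl⟩ := hD
  have hgC : (g : G) ∈ CG[R] := Subgroup.mem_centralizer_iff.2 fun u hu => by
    obtain ⟨v, ⟨w, -, rfl⟩, rfl⟩ := hRD hu
    exact congrArg Subtype.val (Subgroup.mem_centralizer_singleton_iff.1 w.2)
  refine exists_omega_one hM hR ((isInv_sbc b).mono fun u hu => Subgroup.map_subtype_le _ (hRD hu))
    ((isInv_sbc b).mono hCH) (memLocalRing_sbc hM hb) (conv_sbc_self b) hgC ?_
  rw [sbc_apply]
  exact hg.2.1

/-- Every pair on a defect group is maximal. -/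
theorem maximal_of_defect (hM : Cfsg.IsPModular p M) {B : Set (Cfsg.IrrCharacter G)}
    {D : Subgroup G} (hD : Cfsg.IsDefectGroup p M B D)
    {e : Set (Cfsg.IrrCharacter CG[D])} (h : Cfsg.IsBrauerPairOf p M B D e) :
    Cfsg.IsMaximalBrauerPair p M B D e := by
  refine ⟨h, fun R r hR hle => ?_⟩
  obtain ⟨a, ha, hale⟩ := exists_maximal_above hM hR
  have h1 := BlockChar.card_defectGroup hM h.2.1 (isDefectGroup_of_maximal hM ha)
  have h2 := BlockChar.card_defectGroup hM h.2.1 hD
  exact (Subgroup.eq_of_le_of_card_ge (BlockChar.le_of_subpairLE hle) (by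
    rw [h2, ← h1]; exact Subgroup.card_le_of_le (BlockChar.le_of_subpairLE hale))).symm

/-! ### The largest normal subgroup without prime divisors in `π` -/

variable {π : Set ℕ}

/-- `O_π'(C(Q))` inside `G`. -/
noncomputable def core (π : Set ℕ) (Q : Subgroup G) : Subgroup G :=
  Cfsg.piCoreOf {q | q ∉ π} CG[Q]

/-- `O_π'(C(Q))` lies in the kernel of the block of the pair. -/
def KerPair (π : Set ℕ) (a : Cfsg.BrauerPairIdx G) : Prop := InKer (core π a.1) a.2

/-- `O_π'(C(Q))` contains every `π'`-element of `C(Q)`. -/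
def HallPair (π : Set ℕ) (Q : Subgroup G) : Prop :=
  ∀ x ∈ CG[Q], (∀ q : ℕ, q.Prime → q ∣ orderOf x → q ∉ π) → x ∈ core π Q

theorem not_dvd_piCoreOf (hp : p.Prime) (hpπ : p ∈ π) (X : Subgroup G) :
    ¬ p ∣ Nat.card (Cfsg.piCoreOf {q | q ∉ π} X) := fun h =>
  OddLocal.piNum_piCoreOf _ X p hp h hpπ

theorem conj_mem_core (Q : Subgroup G) (x : G) {y : G} (hy : y ∈ core π Q) :
    x * y * x⁻¹ ∈ core π (Q.map (MulAut.conj x).toMonoidHom) := by
  set c := (MulAut.conj x).toMonoidHom with hc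
  have hC : (CG[Q]).map c ≤ CG[Q.map c] := by
    rintro _ ⟨a, ha, rfl⟩
    rw [Subgroup.mem_centralizer_iff]
    rintro _ ⟨u, hu, rfl⟩
    rw [← map_mul, ← map_mul, Subgroup.mem_centralizer_iff.1 ha u hu]
  have hle : (core π Q).map c ≤ core π (Q.map c) := by
    refine OddLocal.le_piCoreOf ((Subgroup.map_mono (OddLocal.piCoreOf_le _ _)).trans hC) ?_ ?_
    · intro z hz
      have hz' : x⁻¹ * z * x ∈ CG[Q] := Subgroup.mem_centralizer_iff.2 fun u hu => by
        have h := Subgroup.mem_centralizer_iff.1 hz (x * u * x⁻¹) ⟨u, hu, rfl⟩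
        calc u * (x⁻¹ * z * x) = x⁻¹ * (x * u * x⁻¹ * z) * x := by group
          _ = x⁻¹ * z * x * u := by rw [h]; group
      have hn := Subgroup.le_normalizer_map (H := core π Q) c
        ⟨x⁻¹ * z * x, OddLocal.le_normalizer_piCoreOf _ _ hz', rfl⟩
      have e : c (x⁻¹ * z * x) = z := by
        show x * (x⁻¹ * z * x) * x⁻¹ = z
        group
      rwa [e] at hn
    · exact OddLocal.piNum_of_card_eq (OddLocal.piNum_piCoreOf _ CG[Q])
        (Subgroup.card_map_of_injective (MulAut.conj x).injective)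
  exact hle ⟨y, hy, rfl⟩

theorem le_normalizer_core {Q R : Subgroup G} (hRQ : R ≤ Subgroup.normalizer (Q : Set G)) :
    R ≤ Subgroup.normalizer (core π Q : Set G) := by
  intro x hx
  rw [Subgroup.mem_normalizer_iff]
  intro y
  constructor
  · intro hy
    have h := conj_mem_core Q x hy
    rwa [map_conj_eq (hRQ hx)] at h
  · intro hy
    have h := conj_mem_core Q x⁻¹ hy
    rw [map_conj_eq (hRQ (inv_mem hx))] at h
    simpa [mul_assoc] using h

theorem kerPair_conj (hM : Cfsg.IsPModular p M) (a : Cfsg.BrauerPairIdx G) (x : G)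
    (h : KerPair π (conjPair x a)) : KerPair π a := by
  intro ξ hξ c hc
  have hmem : ∀ y, y ∈ CG[a.1] ↔ x * y * x⁻¹ ∈ CG[a.1.map (MulAut.conj x).toMonoidHom] :=
    BlockChar.mem_centralizer_iff_conj rfl
  set φ := BlockChar.conjIso CG[a.1] CG[a.1.map (MulAut.conj x).toMonoidHom] x hmem with hφ
  let ξ' : Cfsg.IrrCharacter CG[a.1.map (MulAut.conj x).toMonoidHom] :=
    ⟨fun d => (ξ : CG[a.1] → ℂ) (φ.symm d), (Char.isIrrCharacter_comp_equiv φ.symm).2 ξ.2⟩
  have hξ' : ξ' ∈ (conjPair x a).2 := by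
    refine ⟨ξ, hξ, fun d d' e => ?_⟩
    have : d' = φ d := Subtype.ext e
    show (ξ : CG[a.1] → ℂ) (φ.symm d') = _
    rw [this, MulEquiv.symm_apply_apply]
  have h1 := h ξ' hξ' (φ c) (conj_mem_core a.1 x hc)
  show (ξ : CG[a.1] → ℂ) c = _
  change (ξ : CG[a.1] → ℂ) (φ.symm (φ c)) = (ξ : CG[a.1] → ℂ) (φ.symm 1) at h1
  rwa [MulEquiv.symm_apply_apply, map_one] at h1

theorem kerPair_iff_step (hM : Cfsg.IsPModular p M) (hpπ : p ∈ π) {Q R : Subgroup G}
    {b : Set (Cfsg.IrrCharacter CG[Q])} {c : Set (Cfsg.IrrCharacter CG[R])}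
    (h : Cfsg.IsNormalSubpair p M Q b R c) :
    KerPair π (⟨Q, b⟩ : Cfsg.BrauerPairIdx G) ↔ InKer (core π Q) c := by
  obtain ⟨⟨-, hb⟩, ⟨hR, hc⟩, hQR, hRN, hst, hω⟩ := h
  have hQQ : CG[Q] ≤ Subgroup.normalizer (core π Q : Set G) :=
    OddLocal.le_normalizer_piCoreOf _ _
  have key := fun η hη => inKer_iff hM (W := core π Q) (R := R) (OddLocal.piCoreOf_le _ _) hQQ
    (not_dvd_piCoreOf hM.1 hpπ _) hb hR (le_normalizer_core hRN)
    ((centralizer_mono hQR).trans hQQ) (isInv_of_stabilizes hM hRN hb hst)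
    (isInv_sbc_centralizer hQR b) η (hω η hη)
  obtain ⟨η, hη⟩ := IsPBlock.nonempty hM hc
  exact ⟨fun hk ξ hξ => (key ξ hξ).1 hk, fun hk => (key η hη).2 (hk η hη)⟩

theorem kerPair_down (hM : Cfsg.IsPModular p M) (hpπ : p ∈ π) {a c : Cfsg.BrauerPairIdx G}
    (h : Relation.ReflTransGen (Cfsg.NormalSubpairRel p M) a c) (hc : KerPair π c) :
    KerPair π a := by
  induction h using Relation.ReflTransGen.head_induction_on with
  | refl => exact hc
  | head hac _ ih =>
    refine (kerPair_iff_step hM hpπ hac).2 fun ξ hξ d hd => ih ξ hξ d ?_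
    exact OddLocal.piCoreOf_inf_le (centralizer_mono hac.2.2.1) ⟨hd, d.2⟩

theorem kerPair_up (hM : Cfsg.IsPModular p M) (hpπ : p ∈ π) {a c : Cfsg.BrauerPairIdx G}
    (h : Relation.ReflTransGen (Cfsg.NormalSubpairRel p M) a c) (ha : KerPair π a)
    (hH : HallPair π a.1) : KerPair π c ∧ HallPair π c.1 := by
  induction h with
  | refl => exact ⟨ha, hH⟩
  | @tail b c _ hbc ih =>
    obtain ⟨hk, hh⟩ := ih
    have hle : CG[c.1] ≤ CG[b.1] := centralizer_mono hbc.2.2.1
    refine ⟨fun ξ hξ d hd => (kerPair_iff_step hM hpπ hbc).1 hk ξ hξ d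
      (hh d (hle d.2) fun q hq hdq => ?_), fun x hx hπ => OddLocal.piCoreOf_inf_le hle
        ⟨hh x (hle hx) hπ, hx⟩⟩
    exact OddLocal.piNum_piCoreOf {q | q ∉ π} CG[c.1] q hq (hdq.trans (by
      rw [← Subgroup.orderOf_mk (a := (d : G)) hd]
      exact orderOf_dvd_natCard _))

/-- The pairs on a normalised defect group. -/
theorem exists_maximal_core (hM : Cfsg.IsPModular p M) (hpπ : p ∈ π)
    {B : Set (Cfsg.IrrCharacter G)} {D : Subgroup G} (hBD : Cfsg.IsDefectGroup p M B D)
    {B₁ : Set (Cfsg.IrrCharacter ↥(Subgroup.normalizer (D : Set G)))}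
    (hB₁ : Cfsg.IsInducedBlock M (Subgroup.normalizer (D : Set G)) B₁ B)
    (hB₁D : Cfsg.IsDefectGroup p M B₁ (D.subgroupOf (Subgroup.normalizer (D : Set G)))) :
    ∃ e : Set (Cfsg.IrrCharacter CG[D]), Cfsg.IsMaximalBrauerPair p M B D e ∧
      ((∀ n : ↥(Subgroup.normalizer (D : Set G)),
        n ∈ Cfsg.piCore {q | q ∉ π} ↥(Subgroup.normalizer (D : Set G)) → n ∈ Cfsg.blockKer B₁) ↔
          KerPair π (⟨D, e⟩ : Cfsg.BrauerPairIdx G)) := by
  classical
  haveI := Fact.mk hM.1
  have := Fintype.ofFinite ↥(Subgroup.normalizer (D : Set G))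
  have hDN : D ≤ (Subgroup.normalizer (D : Set G)) := Subgroup.le_normalizer
  have hCN : CG[D] ≤ (Subgroup.normalizer (D : Set G)) := Subgroup.centralizer_le_normalizer _
  have hDp : IsPGroup p D := by
    obtain ⟨g, -, S, rfl⟩ := hBD
    exact S.2.map _
  obtain ⟨η, hη⟩ := exists_root hM hB₁.1 hB₁D (R := D)
    (by rw [Subgroup.map_subgroupOf_eq_of_le hDN]) hDp hCN
  refine ⟨_, maximal_of_defect hM hBD (pair_of_induced hM hDN hCN hDp hB₁ η hη), ?_⟩
  set W := Cfsg.piCoreOf {q | q ∉ π} (Subgroup.normalizer (D : Set G)) with hW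
  have hWn : (Subgroup.normalizer (D : Set G)) ≤ Subgroup.normalizer (W : Set G) := OddLocal.le_normalizer_piCoreOf _ _
  have key := inKer_iff hM (W := W) (R := D) (OddLocal.piCoreOf_le _ _) hWn
    (not_dvd_piCoreOf hM.1 hpπ _) hB₁.1 hDp (hDN.trans hWn) (hCN.trans hWn)
    ((isInv_sbc B₁).mono hDN) ((isInv_sbc B₁).mono hCN) η hη
  have hcore : ∀ d : CG[D], (d : G) ∈ W ↔ (d : G) ∈ core π D := fun d =>
    ⟨fun h => OddLocal.piCoreOf_inf_le hCN ⟨h, d.2⟩, fun h =>
      OddLocal.le_piCoreOf ((OddLocal.piCoreOf_le _ _).trans hCN) (le_normalizer_core le_rfl)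
        (OddLocal.piNum_piCoreOf _ CG[D]) h⟩
  have h1 : (∀ n : ↥(Subgroup.normalizer (D : Set G)), n ∈ Cfsg.piCore {q | q ∉ π} (Subgroup.normalizer (D : Set G)) → n ∈ Cfsg.blockKer B₁) ↔ InKer W B₁ := by
    constructor
    · rintro h ξ hξ a ⟨n, hn, hna⟩
      rw [← Subtype.ext hna]
      exact h n hn ξ hξ
    · exact fun h n hn ξ hξ => h ξ hξ n ⟨n, hn, rfl⟩
  rw [h1, key]
  constructor
  · intro h
    exact inKer_of_mem hM (OddLocal.le_normalizer_piCoreOf _ _)
      (not_dvd_piCoreOf hM.1 hpπ _) (isPBlock_blockOf η) (mem_blockOf_self hM η)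
      fun a ha => h a ((hcore a).2 ha)
  · exact fun h a ha => h η (mem_blockOf_self hM η) a ((hcore a).1 ha)

end Cfsg.Agent.BrauerPairs.KernelTransfer
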