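import Cfsg.Agent.BrauerPairs.Nilpotent
import Cfsg.Agent.BrauerPairs.PIndex

/-!
# Nilpotency and normal subgroups of p-power index
-/

namespace Cfsg.Agent.BrauerPairs

open Cfsg.Agent Cfsg.Agent.Blocks

universe u

variable {G : Type u} [Group G] [Finite G] {p : ℕ} {M : Ideal Cfsg.AlgInt}

local notation "CG[" Q "]" => Subgroup.centralizer (SetLike.coe Q)
local notation "sbc" => Cfsg.subgroupBlockCoeff

variable {N : Subgroup G} [N.Normal] {Q : Subgroup G}

/-- The centralizer in `N` inside the centralizer in `G`. -/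
def centIncl (hQ : Q ≤ N) : CG[Q.subgroupOf N] →* CG[Q] where
  toFun d := ⟨((d : N) : G), Subgroup.mem_centralizer_iff.2 fun q hq =>
    congrArg Subtype.val (Subgroup.mem_centralizer_iff.1 d.2 ⟨q, hQ hq⟩
      (Subgroup.mem_subgroupOf.2 hq))⟩
  map_one' := rfl
  map_mul' a b := rfl

omit [Finite G] in
theorem range_centIncl (hQ : Q ≤ N) : (centIncl hQ).range = N.subgroupOf CG[Q] := by
  ext c
  constructor
  · rintro ⟨d, rfl⟩
    exact Subgroup.mem_subgroupOf.2 (d : N).2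
  · intro hc
    exact ⟨⟨⟨(c : G), Subgroup.mem_subgroupOf.1 hc⟩, Subgroup.mem_centralizer_iff.2 fun q hq =>
      Subtype.ext (Subgroup.mem_centralizer_iff.1 c.2 (q : G) (Subgroup.mem_subgroupOf.1 hq))⟩, rfl⟩

theorem centIncl_setup (hM : Cfsg.IsPModular p M) (hN : ∃ k : ℕ, N.index = p ^ k) (hQ : Q ≤ N) :
    Function.Injective (centIncl hQ) ∧ (centIncl hQ).range.Normal ∧ SuppOn M (centIncl hQ) := by
  refine ⟨fun a b h => Subtype.ext (Subtype.ext (congrArg (fun c : CG[Q] => (c : G)) h)),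
    by rw [range_centIncl]; infer_instance, fun f hf c hc => ?_⟩
  obtain ⟨k, hk⟩ := hN
  have hdvd : (N.subgroupOf CG[Q]).index ∣ p ^ k :=
    hk ▸ Subgroup.relIndex_dvd_index_of_normal N CG[Q]
  obtain ⟨j, -, hj⟩ := (Nat.dvd_prime_pow hM.1).1 hdvd
  refine BlockChar.blockCoeff_eq_zero hM hf fun hreg => hc ?_
  rw [range_centIncl]
  exact BlockThms.mem_of_regular hM.1 ⟨j, hj⟩ hreg

/-- Conjugation on the centralizer in `N`. -/
def centTau (hQ : Q ≤ N) (y : Subgroup.normalizer (Q : Set G)) :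
    CG[Q.subgroupOf N] ≃* CG[Q.subgroupOf N] where
  toFun d := ⟨MulAut.conjNormal (y : G) (d : N), Subgroup.mem_centralizer_iff.2 fun q hq =>
    Subtype.ext (Subgroup.mem_centralizer_iff.1
      ((mem_centralizer_iff_of_mem_normalizer y.2 _).1 (centIncl hQ d).2) (q : G)
      (Subgroup.mem_subgroupOf.1 hq))⟩
  invFun d := ⟨MulAut.conjNormal (y : G)⁻¹ (d : N), Subgroup.mem_centralizer_iff.2 fun q hq =>
    Subtype.ext (Subgroup.mem_centralizer_iff.1
      ((mem_centralizer_iff_of_mem_normalizer (inv_mem y.2) _).1 (centIncl hQ d).2) (q : G)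
      (Subgroup.mem_subgroupOf.1 hq))⟩
  left_inv d := Subtype.ext (Subtype.ext (by
    show (y : G)⁻¹ * ((y : G) * ((d : N) : G) * (y : G)⁻¹) * (y : G)⁻¹⁻¹ = _
    group))
  right_inv d := Subtype.ext (Subtype.ext (by
    show (y : G) * ((y : G)⁻¹ * ((d : N) : G) * (y : G)⁻¹⁻¹) * (y : G)⁻¹ = _
    group))
  map_mul' a b := Subtype.ext (by simp)

omit [Finite G] in
theorem centTau_val (hQ : Q ≤ N) (y : Subgroup.normalizer (Q : Set G)) (d : CG[Q.subgroupOf N]) :
    ((centTau hQ y d : N) : G) = (y : G) * ((d : N) : G) * (y : G)⁻¹ := rfl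

variable {c : Set (Cfsg.IrrCharacter N)} {B : Set (Cfsg.IrrCharacter G)}

theorem pair_iff_of_over (hM : Cfsg.IsPModular p M) (hN : ∃ k : ℕ, N.index = p ^ k)
    (hc : Cfsg.IsPBlock M c) (hB : Cfsg.IsPBlock M B)
    (hBc : ∀ g : G, Cfsg.blockCoeff B g = sbc N c g) (hQ : Q ≤ N) (hQp : IsPGroup p Q)
    {f : Set (Cfsg.IrrCharacter CG[Q])} (hf : Cfsg.IsPBlock M f)
    {θ : Cfsg.IrrCharacter CG[Q.subgroupOf N]} (h : Over (centIncl hQ) f θ) :
    Cfsg.IsBrauerPairOf p M B Q f ↔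
      Cfsg.IsBrauerPairOf p M c (Q.subgroupOf N)
        (Cfsg.blockOf M (θ : CG[Q.subgroupOf N] → ℂ)) := by
  classical
  letI := Fintype.ofFinite CG[Q]
  letI := Fintype.ofFinite CG[Q.subgroupOf N]
  obtain ⟨hj, hn, hsupp⟩ := centIncl_setup (p := p) (M := M) hM hN hQ
  obtain ⟨ξ, hξ⟩ := exists_irr_over hj hn θ
  have hξf : ξ ∈ f := by
    have h1 : omega (θ : CG[Q.subgroupOf N] → ℂ) (fun d => Cfsg.blockCoeff f (centIncl hQ d)) = 1 :=
      h
    rw [← hξ _ (isClassFunction_blockCoeff f) (hsupp f hf), omega_blockCoeff] at h1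
    by_contra hn'
    rw [if_neg hn'] at h1
    exact zero_ne_one h1
  have heq : Cfsg.brauerOmega Q (Cfsg.blockCoeff B) (ξ : CG[Q] → ℂ) =
      Cfsg.brauerOmega (Q.subgroupOf N) (Cfsg.blockCoeff c) (θ : CG[Q.subgroupOf N] → ℂ) := by
    rw [brauerOmega_eq, brauerOmega_eq, hξ (fun a : CG[Q] => Cfsg.blockCoeff B (a : G))
      (IsInv.isClassFunction_res (IsInv.of_isClassFunction (isClassFunction_blockCoeff B) _))
      fun a ha => by
        rw [hBc, sbc_of_notMem c]
        exact fun h' => ha (by rw [range_centIncl]; exact Subgroup.mem_subgroupOf.2 h')]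
    congr 1
    funext d
    rw [hBc]
    exact sbc_apply c (d : N)
  constructor
  · intro hp
    refine memLocalIdeal_brauerOmega_block hM
      (hQp.comap_of_injective _ (Subgroup.subtype_injective N)) (isPBlock_blockOf θ) hc
      (mem_blockOf_self hM θ) ?_
    have h2 := hp.2.2 ξ hξf
    rw [heq] at h2
    exact h2
  · intro hp
    refine memLocalIdeal_brauerOmega_block hM hQp hf hB hξf ?_
    rw [heq]
    exact hp.2.2 θ (mem_blockOf_self hM θ)

theorem stabilizes_iff_mapBlock (hM : Cfsg.IsPModular p M) {x : G}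
    (hx : x ∈ Subgroup.normalizer (Q : Set G)) {f : Set (Cfsg.IrrCharacter CG[Q])}
    (hf : Cfsg.IsPBlock M f) :
    Cfsg.StabilizesBlock CG[Q] f x ↔ mapBlock (BlockChar.conjIso CG[Q] CG[Q] x
      (mem_centralizer_iff_of_mem_normalizer hx)) f = f := by
  rw [stabilizesBlock_iff hM hx hf]
  constructor
  · intro h
    refine sbc_injective (funext fun g => ?_)
    rw [sbc_mapBlock, h.conj_inv (Set.mem_singleton x)]
  · intro h k hk g
    rw [Set.mem_singleton_iff.1 hk]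
    have h1 := sbc_mapBlock CG[Q] CG[Q] x (mem_centralizer_iff_of_mem_normalizer hx) f
      (x * g * x⁻¹)
    rwa [h, show x⁻¹ * (x * g * x⁻¹) * x = g by group] at h1

theorem stabilizes_iff_tau (hM : Cfsg.IsPModular p M) (hQ : Q ≤ N) {x : N}
    (hx : x ∈ Subgroup.normalizer ((Q.subgroupOf N : Subgroup N) : Set N))
    (hxG : (x : G) ∈ Subgroup.normalizer (Q : Set G))
    {h : Set (Cfsg.IrrCharacter CG[Q.subgroupOf N])} (hh : Cfsg.IsPBlock M h) :
    Cfsg.StabilizesBlock CG[Q.subgroupOf N] h x ↔ mapBlock (centTau hQ ⟨x, hxG⟩) h = h := by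
  rw [stabilizes_iff_mapBlock hM hx hh]
  have : centTau hQ ⟨x, hxG⟩ = BlockChar.conjIso CG[Q.subgroupOf N] CG[Q.subgroupOf N] x
      (mem_centralizer_iff_of_mem_normalizer hx) :=
    MulEquiv.ext fun d => Subtype.ext (Subtype.ext rfl)
  rw [this]

/-- From `B` down to `c`. -/
theorem nilpotent_down (hM : Cfsg.IsPModular p M) (hN : ∃ k : ℕ, N.index = p ^ k)
    (hc : Cfsg.IsPBlock M c) (hBc : ∀ g : G, Cfsg.blockCoeff B g = sbc N c g)
    (hnil : Cfsg.IsNilpotentBlock p M B) : Cfsg.IsNilpotentBlock p M c := by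
  classical
  refine ⟨hc, fun Q' h hQh x hxN hst hreg => ?_⟩
  obtain ⟨Q, hQ, rfl⟩ : ∃ Q : Subgroup G, Q ≤ N ∧ Q.subgroupOf N = Q' :=
    ⟨Q'.map N.subtype, Subgroup.map_subtype_le _,
      Subgroup.comap_map_eq_self_of_injective N.subtype_injective Q'⟩
  have hQp : IsPGroup p Q := hQh.1.1.of_equiv (Subgroup.subgroupOfEquivOfLe hQ)
  obtain ⟨θ, hθ⟩ := IsPBlock.nonempty hM hQh.1.2
  obtain ⟨hj, hn, hsupp⟩ := centIncl_setup (p := p) (M := M) hM hN hQ
  obtain ⟨f, hf, hover⟩ := exists_over hM hj hn hsupp θ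
  have hpair : Cfsg.IsBrauerPairOf p M B Q f := by
    rw [pair_iff_of_over hM hN hc hnil.1 hBc hQ hQp hf hover,
      ← IsPBlock.eq_blockOf hM hQh.1.2 hθ]
    exact hQh
  have hxG : (x : G) ∈ Subgroup.normalizer (Q : Set G) := by
    refine Subgroup.mem_normalizer_iff.2 fun r => ⟨fun hr => ?_, fun hr => ?_⟩
    · exact Subgroup.mem_subgroupOf.1 ((Subgroup.mem_normalizer_iff.1 hxN ⟨r, hQ hr⟩).1 hr)
    · have hrN : r ∈ N := by
        simpa [mul_assoc] using N.mul_mem (N.mul_mem (N.inv_mem x.2) (hQ hr)) x.2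
      exact Subgroup.mem_subgroupOf.1 ((Subgroup.mem_normalizer_iff.1 hxN ⟨r, hrN⟩).2 hr)
  have hfix := (stabilizes_iff_tau hM hQ hxN hxG hQh.1.2).1 hst
  have hmem : compIrr (centTau hQ ⟨x, hxG⟩) θ ∈ h := by
    rw [← hfix] at hθ
    exact hθ
  have hxf : Cfsg.StabilizesBlock CG[Q] f x := by
    rw [stabilizes_iff_mapBlock hM hxG hf]
    refine over_unique hM hj hn hsupp (isPBlock_mapBlock _ hf) hf ?_ hover
    rw [over_mapBlock (τ := centTau hQ ⟨x, hxG⟩) (fun d => Subtype.ext rfl)]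
    exact over_sameBlock hM hj hn hsupp hf (IsPBlock.sameBlock hM hQh.1.2 hθ hmem) hover
  have hreg' : Cfsg.IsPRegular p (x : G) := by
    show ¬ p ∣ orderOf (x : G)
    rw [Subgroup.orderOf_coe]
    exact hreg
  have h1 := hnil.2 Q f hpair x hxG hxf hreg'
  exact Subgroup.mem_centralizer_iff.2 fun q hq => Subtype.ext
    (Subgroup.mem_centralizer_iff.1 h1 (q : G) (Subgroup.mem_subgroupOf.1 hq))

/-- The blocks of `C_N(Q)` below a block of `C(Q)` are conjugate. -/
theorem exists_conj_of_over (hM : Cfsg.IsPModular p M) (hN : ∃ k : ℕ, N.index = p ^ k)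
    (hQ : Q ≤ N) {f : Set (Cfsg.IrrCharacter CG[Q])} (hf : Cfsg.IsPBlock M f)
    {θ θ' : Cfsg.IrrCharacter CG[Q.subgroupOf N]} (h : Over (centIncl hQ) f θ)
    (h' : Over (centIncl hQ) f θ') :
    ∃ k : Subgroup.normalizer (Q : Set G), (k : G) ∈ CG[Q] ∧
      compIrr (centTau hQ k) θ' ∈ Cfsg.blockOf M (θ : CG[Q.subgroupOf N] → ℂ) := by
  classical
  letI := Fintype.ofFinite CG[Q]
  letI := Fintype.ofFinite CG[Q.subgroupOf N]
  obtain ⟨hj, hn, hsupp⟩ := centIncl_setup (p := p) (M := M) hM hN hQ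
  let cy : CG[Q] → Subgroup.normalizer (Q : Set G) := fun k =>
    ⟨k, Subgroup.centralizer_le_normalizer _ k.2⟩
  let h0 := Cfsg.blockOf M (θ : CG[Q.subgroupOf N] → ℂ)
  have hh0 : Cfsg.IsPBlock M h0 := isPBlock_blockOf θ
  set Ob : Set (Cfsg.IrrCharacter CG[Q.subgroupOf N]) :=
    {η | ∃ k : CG[Q], compIrr (centTau hQ (cy k)) η ∈ h0} with hOb
  have hcomp : ∀ (k l : CG[Q]) (η : Cfsg.IrrCharacter CG[Q.subgroupOf N]),
      compIrr (centTau hQ (cy k)) (compIrr (centTau hQ (cy l)) η) =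
        compIrr (centTau hQ (cy (l * k))) η := fun k l η => by
    refine Subtype.ext (funext fun d => ?_)
    rw [compIrr_apply, compIrr_apply, compIrr_apply]
    apply congrArg
    refine Subtype.ext (Subtype.ext ?_)
    show (l : G) * ((k : G) * ((d : N) : G) * (k : G)⁻¹) * (l : G)⁻¹ =
      (l : G) * (k : G) * ((d : N) : G) * ((l : G) * (k : G))⁻¹
    group
  set o := Cfsg.blockCoeff Ob with ho
  have hoinv : ∀ (k : CG[Q]) d, o (centTau hQ (cy k) d) = o d := by
    intro k d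
    have hmap : mapBlock (centTau hQ (cy k)) Ob = Ob := by
      ext η
      show (∃ l, compIrr (centTau hQ (cy l)) (compIrr (centTau hQ (cy k)) η) ∈ h0) ↔
        ∃ l, compIrr (centTau hQ (cy l)) η ∈ h0
      simp only [hcomp]
      exact ⟨fun ⟨l, hl⟩ => ⟨k * l, hl⟩, fun ⟨l, hl⟩ => ⟨k⁻¹ * l, by
        rwa [mul_inv_cancel_left]⟩⟩
    calc o (centTau hQ (cy k) d) =
          Cfsg.blockCoeff (mapBlock (centTau hQ (cy k)) Ob) (centTau hQ (cy k) d) := by rw [hmap]
      _ = o d := blockCoeff_mapBlock _ _ _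
  let F : CG[Q] → ℂ := Function.extend (centIncl hQ) o 0
  have hFj : ∀ d, F (centIncl hQ d) = o d := fun d => hj.extend_apply o 0 d
  have hF0 : ∀ a, a ∉ (centIncl hQ).range → F a = 0 := fun a ha =>
    Function.extend_apply' _ _ _ fun ⟨d, hd⟩ => ha ⟨d, hd⟩
  have hFc : Cfsg.IsClassFunction CG[Q] F := by
    intro a k
    by_cases ha : a ∈ (centIncl hQ).range
    · obtain ⟨d, rfl⟩ := ha
      rw [show k * centIncl hQ d * k⁻¹ = centIncl hQ (centTau hQ (cy k) d) from Subtype.ext rfl,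
        hFj, hFj, hoinv]
    · rw [hF0 a ha, hF0 _ fun h'' => ha (by simpa [mul_assoc] using hn.conj_mem _ h'' k⁻¹)]
  have hoR : ∀ d, Cfsg.MemLocalRing M (o d) := by
    refine memLocalRing_blockCoeff_union hM fun η hη ψ hψ => ?_
    obtain ⟨k, hk⟩ := hη
    refine ⟨k, IsPBlock.mem_of_sameBlock hM hh0 hk fun a => ?_⟩
    rw [centralChar_compIrr, centralChar_compIrr]
    exact mem_blockOf.1 hψ _
  have hFR : ∀ a, Cfsg.MemLocalRing M (F a) := fun a => by
    by_cases ha : a ∈ (centIncl hQ).range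
    · obtain ⟨d, rfl⟩ := ha
      rw [hFj]; exact hoR d
    · rw [hF0 a ha]; exact (localRing hM).zero_mem
  have hval : ∀ η : Cfsg.IrrCharacter CG[Q.subgroupOf N],
      omega (η : _ → ℂ) (fun d => F (centIncl hQ d)) = if η ∈ Ob then 1 else 0 := fun η => by
    simp only [hFj, ho, omega_blockCoeff]
  obtain ⟨ξ, hξ⟩ := exists_irr_over hj hn θ
  obtain ⟨ξ', hξ'⟩ := exists_irr_over hj hn θ'
  have hξf : ∀ {η : Cfsg.IrrCharacter CG[Q.subgroupOf N]} {ζ : Cfsg.IrrCharacter CG[Q]},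
      Over (centIncl hQ) f η → (∀ F : CG[Q] → ℂ, Cfsg.IsClassFunction CG[Q] F →
        (∀ a, a ∉ (centIncl hQ).range → F a = 0) →
          omega (ζ : CG[Q] → ℂ) F = omega (η : _ → ℂ) fun d => F (centIncl hQ d)) → ζ ∈ f := by
    intro η ζ hη hζ
    have h1 : omega (η : _ → ℂ) (fun d => Cfsg.blockCoeff f (centIncl hQ d)) = 1 := hη
    rw [← hζ _ (isClassFunction_blockCoeff f) (hsupp f hf), omega_blockCoeff] at h1
    by_contra hn'
    rw [if_neg hn'] at h1
    exact zero_ne_one h1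
  have h1 := memLocalIdeal_omega_sub hM ξ.2 ξ'.2 hFc hFR
    (IsPBlock.sameBlock hM hf (hξf h hξ) (hξf h' hξ'))
  rw [hξ F hFc hF0, hξ' F hFc hF0, hval, hval, if_pos ⟨1, by
    convert mem_blockOf_self hM θ using 1
    refine Subtype.ext (funext fun d => ?_)
    rw [compIrr_apply]
    apply congrArg
    refine Subtype.ext (Subtype.ext ?_)
    show (1 : G) * ((d : N) : G) * (1 : G)⁻¹ = _
    group⟩] at h1
  by_cases hmem : θ' ∈ Ob
  · obtain ⟨k, hk⟩ := hmem
    exact ⟨cy k, k.2, hk⟩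
  · rw [if_neg hmem, sub_zero] at h1
    exact absurd h1 (not_memLocalIdeal_one hM)

/-- From `c` up to `B`. -/
theorem nilpotent_up (hM : Cfsg.IsPModular p M) (hN : ∃ k : ℕ, N.index = p ^ k)
    (hB : Cfsg.IsPBlock M B) (hBc : ∀ g : G, Cfsg.blockCoeff B g = sbc N c g)
    (hnil : Cfsg.IsNilpotentBlock p M c) : Cfsg.IsNilpotentBlock p M B := by
  classical
  haveI := Fact.mk hM.1
  refine ⟨hB, fun R e hRe x hxR hst hreg => ?_⟩
  have hxN : x ∈ N := BlockThms.mem_of_regular hM.1 hN hreg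
  set Q := R ⊓ N with hQdef
  have hQ : Q ≤ N := inf_le_right
  have hRQ : R ≤ Subgroup.normalizer (Q : Set G) := fun r hr =>
    Subgroup.mem_normalizer_iff.2 fun a => by
      have h1 := Subgroup.mem_normalizer_iff.1 (Subgroup.le_normalizer hr : r ∈
        Subgroup.normalizer (R : Set G)) a
      have h2 : a ∈ N ↔ r * a * r⁻¹ ∈ N := ⟨fun ha => (inferInstance : N.Normal).conj_mem a ha r,
        fun ha => by simpa [mul_assoc] using (inferInstance : N.Normal).conj_mem _ ha r⁻¹⟩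
      exact and_congr h1 h2
  have hxQ : x ∈ Subgroup.normalizer (Q : Set G) :=
    Subgroup.mem_normalizer_iff.2 fun a => and_congr (Subgroup.mem_normalizer_iff.1 hxR a)
      ⟨fun ha => (inferInstance : N.Normal).conj_mem a ha x,
        fun ha => by simpa [mul_assoc] using (inferInstance : N.Normal).conj_mem _ ha x⁻¹⟩
  obtain ⟨f, hf, hfu⟩ := existsUnique_normalSubpair hM hRe.1 inf_le_left hRQ
  have hQf := (isBrauerPairOf_iff_of_subpairLE hM (Relation.ReflTransGen.single hf) B).1 hRe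
  have hfix : conjPair x ⟨Q, f⟩ = ⟨Q, f⟩ := by
    have h1 : Cfsg.NormalSubpairRel p M (conjPair x ⟨Q, f⟩) (conjPair x ⟨R, e⟩) :=
      isNormalSubpair_conj hM hf x
    rw [(conjPair_eq_iff hM hRe.1.2 x).2 ⟨hxR, hst⟩] at h1
    refine pair_unique hM hRe.1 (Relation.ReflTransGen.single h1) (Relation.ReflTransGen.single hf)
      (map_conj_eq hxQ)
  obtain ⟨-, hxf⟩ := (conjPair_eq_iff hM hf.1.2 x).1 hfix
  obtain ⟨hj, hn, hsupp⟩ := centIncl_setup (p := p) (M := M) hM hN hQ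
  obtain ⟨θ, hθ⟩ := exists_under hM hj hn hsupp hf.1.2
  -- a block below `f` fixed by `x`
  set Y := Subgroup.normalizer (Q : Set G)
  letI : MulAction Y (PBlock M CG[Q.subgroupOf N]) :=
    { smul := fun y h => ⟨mapBlock (centTau hQ y) h.1, isPBlock_mapBlock _ h.2⟩
      one_smul := fun h => Subtype.ext (blockCoeff_injective (funext fun d => by
        show Cfsg.blockCoeff (mapBlock (centTau hQ 1) h.1) d = _
        conv_lhs => rw [show d = centTau hQ 1 d from Subtype.ext (Subtype.ext (by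
          rw [centTau_val]; simp))]
        rw [blockCoeff_mapBlock]))
      mul_smul := fun y z h => Subtype.ext (blockCoeff_injective (funext fun d => by
        show Cfsg.blockCoeff (mapBlock (centTau hQ (y * z)) h.1) d =
          Cfsg.blockCoeff (mapBlock (centTau hQ y) (mapBlock (centTau hQ z) h.1)) d
        obtain ⟨d, rfl⟩ := (centTau hQ (y * z)).surjective d
        rw [blockCoeff_mapBlock, show centTau hQ (y * z) d = centTau hQ y (centTau hQ z d) from
          Subtype.ext (Subtype.ext (by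
            rw [centTau_val, centTau_val, centTau_val, Subgroup.coe_mul]; group)),
          blockCoeff_mapBlock, blockCoeff_mapBlock])) }
  have hsmul : ∀ (y : Y) (h : PBlock M CG[Q.subgroupOf N]),
      (y • h).1 = mapBlock (centTau hQ y) h.1 := fun y h => rfl
  set M0 : Subgroup Y := (N ⊓ CG[Q]).subgroupOf Y with hM0
  haveI hQn : (CG[Q].subgroupOf Y).Normal := ⟨fun a ha y =>
    (mem_centralizer_iff_of_mem_normalizer y.2 _).1 ha⟩
  haveI : M0.Normal := ⟨fun a ha y =>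
    ⟨(inferInstance : N.Normal).conj_mem _ ha.1 (y : G),
      (mem_centralizer_iff_of_mem_normalizer y.2 _).1 ha.2⟩⟩
  let h0 : PBlock M CG[Q.subgroupOf N] := ⟨_, isPBlock_blockOf θ⟩
  let yx : Y := ⟨x, hxQ⟩
  have hover : Over (centIncl hQ) f (compIrr (centTau hQ yx) θ) := by
    rw [← over_mapBlock (σ := BlockChar.conjIso CG[Q] CG[Q] x
      (mem_centralizer_iff_of_mem_normalizer hxQ)) (τ := centTau hQ yx) (fun d => Subtype.ext rfl),
      (stabilizes_iff_mapBlock hM hxQ hf.1.2).1 hxf]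
    exact hθ
  obtain ⟨k, hk, hkmem⟩ := exists_conj_of_over hM hN hQ hf.1.2 hover hθ
  set θx := compIrr (centTau hQ yx) θ with hθx
  let hx0 : PBlock M CG[Q.subgroupOf N] := ⟨_, isPBlock_blockOf θx⟩
  have horbit : ∃ k' ∈ CG[Q].subgroupOf Y, yx • hx0 = k' • hx0 := by
    refine ⟨k, Subgroup.mem_subgroupOf.2 hk, Subtype.ext ?_⟩
    rw [hsmul, hsmul]
    exact eq_of_mem hM (isPBlock_mapBlock _ hx0.2) (isPBlock_mapBlock _ hx0.2)
      (show θ ∈ mapBlock (centTau hQ yx) hx0.1 from mem_blockOf_self hM θx)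
      (show θ ∈ mapBlock (centTau hQ k) hx0.1 from hkmem)
  have hM0fix : ∀ m ∈ M0, ∀ h : PBlock M CG[Q.subgroupOf N], m • h = h := by
    intro m hm h
    refine Subtype.ext (blockCoeff_injective (funext fun d => ?_))
    rw [hsmul]
    obtain ⟨d, rfl⟩ := (centTau hQ m).surjective d
    rw [blockCoeff_mapBlock]
    let m' : CG[Q.subgroupOf N] := ⟨⟨((m : Y) : G), hm.1⟩, Subgroup.mem_centralizer_iff.2 fun q hq =>
      Subtype.ext (Subgroup.mem_centralizer_iff.1 hm.2 (q : G) (Subgroup.mem_subgroupOf.1 hq))⟩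
    rw [show centTau hQ m d = m' * d * m'⁻¹ from Subtype.ext (Subtype.ext rfl)]
    exact (isClassFunction_blockCoeff h.1 d m').symm
  have hKp : ∀ a ∈ CG[Q].subgroupOf Y, ∃ n : ℕ, a ^ (p ^ n) ∈ M0 := by
    intro a ha
    obtain ⟨n, hn'⟩ := hN
    refine ⟨n, ⟨?_, Subgroup.pow_mem _ (Subgroup.mem_subgroupOf.1 ha) _⟩⟩
    rw [← hn']
    exact Subgroup.pow_index_mem N (a : G)
  have hyK : yx ∈ Subgroup.normalizer ((CG[Q].subgroupOf Y : Subgroup Y) : Set Y) := by
    rw [Subgroup.normalizer_eq_top]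
    trivial
  have hyreg : ¬ p ∣ orderOf yx := by
    rw [← Subgroup.orderOf_coe]
    exact hreg
  obtain ⟨k', hk', hk'fix⟩ := exists_fixed_of_orbit hM0fix hyK hyreg hKp hx0 horbit
  obtain ⟨θ₁, hθ₁⟩ := IsPBlock.nonempty hM (k' • hx0).2
  have hover₁ : Over (centIncl hQ) f θ₁ := by
    have h1 : Over (centIncl hQ) f (compIrr (centTau hQ k') θ₁) :=
      over_sameBlock hM hj hn hsupp hf.1.2
        (IsPBlock.sameBlock hM hx0.2 (mem_blockOf_self hM θx) hθ₁) hover
    rw [← over_mapBlock (σ := BlockChar.conjIso CG[Q] CG[Q] k'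
      (mem_centralizer_iff_of_mem_normalizer k'.2)) (τ := centTau hQ k') (fun d => Subtype.ext rfl),
      show mapBlock (BlockChar.conjIso CG[Q] CG[Q] k'
        (mem_centralizer_iff_of_mem_normalizer k'.2)) f = f from
        sbc_injective (funext fun g => by
          rw [sbc_mapBlock, (isInv_sbc f).conj_inv (Subgroup.mem_subgroupOf.1 hk')])] at h1
    exact h1
  have hpc := (pair_iff_of_over hM hN hnil.1 hB hBc hQ hf.1.1 hf.1.2 hover₁).1 hQf
  rw [← IsPBlock.eq_blockOf hM (k' • hx0).2 hθ₁] at hpc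
  have hxN' : (⟨x, hxN⟩ : N) ∈ Subgroup.normalizer ((Q.subgroupOf N : Subgroup N) : Set N) :=
    le_normalizer_subgroupOf (A := Subgroup.zpowers x) (Subgroup.zpowers_le.2 hxQ)
      (Subgroup.mem_subgroupOf.2 (Subgroup.mem_zpowers x))
  have hxst : Cfsg.StabilizesBlock CG[Q.subgroupOf N] (k' • hx0).1 ⟨x, hxN⟩ := by
    rw [stabilizes_iff_tau hM hQ hxN' hxQ (k' • hx0).2]
    exact (hsmul yx _).symm.trans (congrArg Subtype.val hk'fix)
  have hxC := hnil.2 _ _ hpc ⟨x, hxN⟩ hxN' hxst (by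
    show ¬ p ∣ orderOf (⟨x, hxN⟩ : N)
    rw [← Subgroup.orderOf_coe]
    exact hreg)
  -- lift to `R`
  refine Subgroup.mem_centralizer_iff.2 fun r hr => ?_
  set z := r⁻¹ * (x * r * x⁻¹) with hz
  have hzR : z ∈ R := mul_mem (inv_mem hr) ((Subgroup.mem_normalizer_iff.1 hxR r).1 hr)
  have hzN : z ∈ N := by
    rw [hz, show r⁻¹ * (x * r * x⁻¹) = r⁻¹ * x * r * x⁻¹ by group]
    exact mul_mem (by simpa using (inferInstance : N.Normal).conj_mem x hxN r⁻¹) (inv_mem hxN)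
  have hxz : x * z * x⁻¹ = z := by
    have h1 : z * x = x * z := congrArg Subtype.val (Subgroup.mem_centralizer_iff.1 hxC
      ⟨z, hzN⟩ (Subgroup.mem_subgroupOf.2 (⟨hzR, hzN⟩ : z ∈ Q)))
    rw [← h1, mul_inv_cancel_right]
  have hx1 : x * r * x⁻¹ = r * z := by rw [hz]; group
  have hpow : ∀ i : ℕ, x ^ i * r * (x ^ i)⁻¹ = r * z ^ i := by
    intro i
    induction i with
    | zero => simp
    | succ i ih =>
      rw [pow_succ', show x * x ^ i * r * (x * x ^ i)⁻¹ = x * (x ^ i * r * (x ^ i)⁻¹) * x⁻¹ by group,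
        ih]
      have hzi : x * z ^ i * x⁻¹ = z ^ i := by rw [← conj_pow, hxz]
      calc x * (r * z ^ i) * x⁻¹ = (x * r * x⁻¹) * (x * z ^ i * x⁻¹) := by group
        _ = r * z * z ^ i := by rw [hx1, hzi]
        _ = r * z ^ (i + 1) := by rw [pow_succ']; group
  have h1 := hpow (orderOf x)
  rw [pow_orderOf_eq_one] at h1
  have hzr : z ^ orderOf x = 1 := by simpa using h1.symm
  obtain ⟨j, hj'⟩ := hRe.1.1 ⟨z, hzR⟩
  have hzj : z ^ (p ^ j) = 1 := congrArg Subtype.val hj'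
  have h2 := (pow_gcd_eq_one (a := z)).2 ⟨hzr, hzj⟩
  rw [(Nat.Coprime.pow_right j ((hM.1.coprime_iff_not_dvd.2 hreg).symm)).gcd_eq_one, pow_one] at h2
  rw [h2, mul_one] at hx1
  calc r * x = x * r * x⁻¹ * x := by rw [hx1]
    _ = x * r := by group

end Cfsg.Agent.BrauerPairs
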