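import Cfsg.Agent.BrauerPairs.Basic

/-!
# Normal inclusion of Brauer pairs: existence, uniqueness and transitivity
-/

namespace Cfsg.Agent.BrauerPairs

open Cfsg.Agent Cfsg.Agent.Blocks

universe u

variable {G : Type u} [Group G] {p : ℕ} {M : Ideal Cfsg.AlgInt}

local notation "CG[" Q "]" => Subgroup.centralizer (SetLike.coe Q)
local notation "sbc" => Cfsg.subgroupBlockCoeff

theorem map_conj_eq {Q : Subgroup G} {x : G} (hx : x ∈ Subgroup.normalizer (Q : Set G)) :
    Q.map (MulAut.conj x).toMonoidHom = Q :=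
  Subgroup.ext fun r => ⟨by
    rintro ⟨q, hq, rfl⟩
    exact (Subgroup.mem_normalizer_iff.1 hx q).1 hq, fun hr =>
    ⟨x⁻¹ * r * x, (Subgroup.mem_normalizer_iff.1 hx _).2 (by simpa [mul_assoc] using hr), by
      simp [mul_assoc]⟩⟩

theorem mem_centralizer_iff_of_mem_normalizer {Q : Subgroup G} {x : G}
    (hx : x ∈ Subgroup.normalizer (Q : Set G)) (y : G) : y ∈ CG[Q] ↔ x * y * x⁻¹ ∈ CG[Q] :=
  BlockChar.mem_centralizer_iff_conj (map_conj_eq hx) y

theorem isBrauerPair_of_isBrauerPairOf {B : Set (Cfsg.IrrCharacter G)} {Q : Subgroup G}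
    {e : Set (Cfsg.IrrCharacter CG[Q])} (h : Cfsg.IsBrauerPairOf p M B Q e) :
    Cfsg.IsBrauerPair p M Q e := h.1

variable [Finite G]

/-- A group element stabilises a block of a centralizer exactly when it fixes its idempotent. -/
theorem stabilizesBlock_iff (hM : Cfsg.IsPModular p M) {Q : Subgroup G} {x : G}
    (hx : x ∈ Subgroup.normalizer (Q : Set G)) {f : Set (Cfsg.IrrCharacter CG[Q])}
    (hf : Cfsg.IsPBlock M f) :
    Cfsg.StabilizesBlock CG[Q] f x ↔ IsInv {x} (sbc CG[Q] f) := by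
  have h := mem_centralizer_iff_of_mem_normalizer hx
  set φ := BlockChar.conjIso CG[Q] CG[Q] x h with hφ
  have hval := sbc_mapBlock CG[Q] CG[Q] x h f
  have hφval : ∀ k k' : CG[Q], (k' : G) = x * (k : G) * x⁻¹ → k' = φ k := fun k k' hk =>
    Subtype.ext hk
  constructor
  · rintro ⟨-, hst⟩
    obtain ⟨χ, hχ⟩ := IsPBlock.nonempty hM hf
    obtain ⟨χ', hχ', hc⟩ := hst χ hχ
    have hmem : χ' ∈ mapBlock φ f := by
      show compIrr φ χ' ∈ f
      convert hχ
      exact Subtype.ext (funext fun k => hc k (φ k) rfl)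
    have heq := eq_of_mem hM (isPBlock_mapBlock φ hf) hf hmem hχ'
    intro k hk g
    rw [Set.mem_singleton_iff] at hk
    rw [hk]
    have := hval (x * g * x⁻¹)
    rwa [← hφ, heq, show x⁻¹ * (x * g * x⁻¹) * x = g by group] at this
  · intro hinv
    refine ⟨(Subgroup.mem_normalizer_iff.2 h), fun χ hχ => ?_⟩
    have heq : mapBlock φ f = f := sbc_injective (funext fun g => by
      rw [hval g, hinv.conj_inv (Set.mem_singleton x)])
    refine ⟨compIrr φ.symm χ, ?_, fun k k' hk => ?_⟩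
    · rw [← heq]
      show compIrr φ (compIrr φ.symm χ) ∈ f
      convert hχ
      exact Subtype.ext (funext fun k => by simp [compIrr])
    · rw [hφval k k' hk, compIrr_apply, φ.symm_apply_apply]

theorem isInv_of_stabilizes (hM : Cfsg.IsPModular p M) {Q P : Subgroup G}
    (hPN : P ≤ Subgroup.normalizer (Q : Set G)) {f : Set (Cfsg.IrrCharacter CG[Q])}
    (hf : Cfsg.IsPBlock M f) (h : ∀ x ∈ P, Cfsg.StabilizesBlock CG[Q] f x) :
    IsInv (P : Set G) (sbc CG[Q] f) := fun x hx g =>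
  (stabilizesBlock_iff hM (hPN hx) hf).1 (h x hx) x (Set.mem_singleton x) g

theorem stabilizes_of_isInv (hM : Cfsg.IsPModular p M) {Q P : Subgroup G}
    (hPN : P ≤ Subgroup.normalizer (Q : Set G)) {f : Set (Cfsg.IrrCharacter CG[Q])}
    (hf : Cfsg.IsPBlock M f) (h : IsInv (P : Set G) (sbc CG[Q] f)) :
    ∀ x ∈ P, Cfsg.StabilizesBlock CG[Q] f x := fun x hx =>
  (stabilizesBlock_iff hM (hPN hx) hf).2 (h.mono (Set.singleton_subset_iff.2 hx))

omit [Finite G] in
theorem centralizer_mono {Q P : Subgroup G} (hQP : Q ≤ P) : CG[P] ≤ CG[Q] :=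
  Subgroup.centralizer_le hQP

theorem isInv_sbc_centralizer {Q P : Subgroup G} (hQP : Q ≤ P)
    (f : Set (Cfsg.IrrCharacter CG[Q])) : IsInv (CG[P] : Set G) (sbc CG[Q] f) :=
  (isInv_sbc f).mono (centralizer_mono hQP)

open scoped Classical in
/-- The blocks of `C(Q)` stable under a `p`-group `P` containing `Q` map to exactly one copy of
each block of `C(P)`: existence and uniqueness of the normal predecessor. -/
theorem existsUnique_normalSubpair (hM : Cfsg.IsPModular p M) {P Q : Subgroup G}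
    {e : Set (Cfsg.IrrCharacter CG[P])} (hPe : Cfsg.IsBrauerPair p M P e) (hQP : Q ≤ P)
    (hPN : P ≤ Subgroup.normalizer (Q : Set G)) :
    ∃! f : Set (Cfsg.IrrCharacter CG[Q]), Cfsg.IsNormalSubpair p M Q f P e := by
  have := Fintype.ofFinite G
  have : Finite (PBlock M CG[Q]) := inferInstance
  letI := Fintype.ofFinite (PBlock M CG[Q])
  letI := Fintype.ofFinite CG[P]
  obtain ⟨hP, he⟩ := hPe
  obtain ⟨ξ, hξ⟩ := IsPBlock.nonempty hM he
  -- the action of `P` on the blocks of `C(Q)`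
  let act : P → PBlock M CG[Q] → PBlock M CG[Q] := fun x f =>
    ⟨mapBlock (BlockChar.conjIso CG[Q] CG[Q] x
      (mem_centralizer_iff_of_mem_normalizer (hPN x.2))) f.1, isPBlock_mapBlock _ f.2⟩
  have hact : ∀ (x : P) (f : PBlock M CG[Q]) (g : G),
      sbc CG[Q] (act x f).1 g = sbc CG[Q] f.1 ((x : G)⁻¹ * g * x) := fun x f g =>
    sbc_mapBlock _ _ _ _ _ g
  letI : MulAction P (PBlock M CG[Q]) :=
    { smul := act
      one_smul := fun f => Subtype.ext (sbc_injective (funext fun g => by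
        show sbc CG[Q] (act 1 f).1 g = _
        rw [hact]; simp))
      mul_smul := fun x y f => Subtype.ext (sbc_injective (funext fun g => by
        show sbc CG[Q] (act (x * y) f).1 g = sbc CG[Q] (act x (act y f)).1 g
        rw [hact, hact, hact]
        simp [mul_assoc])) }
  set φ : PBlock M CG[Q] → ℂ := fun f =>
    Cfsg.brauerOmega P (sbc CG[Q] f.1) (ξ : CG[P] → ℂ)
  have hφR : ∀ f, Cfsg.MemLocalRing M (φ f) := fun f =>
    memLocalRing_brauerOmega hM (isInv_sbc_centralizer hQP f.1) (memLocalRing_sbc hM f.2) ξ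
  have hφinv : ∀ (x : P) f, φ (x • f) = φ f := fun x f => by
    simp only [φ, brauerOmega_eq]
    congr 1
    funext a
    show sbc CG[Q] (act x f).1 (a : G) = _
    rw [hact, mul_assoc, ← Subgroup.mem_centralizer_iff.1 a.2 x x.2, inv_mul_cancel_left]
  have hfixed : ∀ f, f ∈ MulAction.fixedPoints P (PBlock M CG[Q]) ↔
      IsInv (P : Set G) (sbc CG[Q] f.1) := fun f => by
    constructor
    · intro h x hx g
      have h1 := hact ⟨x, hx⟩ f (x * g * x⁻¹)
      rw [show act ⟨x, hx⟩ f = f from h ⟨x, hx⟩] at h1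
      rwa [show x⁻¹ * (x * g * x⁻¹) * x = g by group] at h1
    · intro h x
      refine Subtype.ext (sbc_injective (funext fun g => ?_))
      show sbc CG[Q] (act x f).1 g = _
      rw [hact, h.conj_inv x.2]
  set S := Finset.univ.filter (· ∈ MulAction.fixedPoints P (PBlock M CG[Q]))
  have hsum : Cfsg.MemLocalIdeal M (1 - ∑ f ∈ S, φ f) := by
    have h := memLocalIdeal_sum_sub_fixed hM hP φ hφR hφinv
    rwa [show ∑ f, φ f = 1 by
      rw [← brauerOmega_sum, sum_sbc hM, brauerOmega_delta]] at h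
  have hprod : ∀ f ∈ S, ∀ f' ∈ S, Cfsg.MemLocalIdeal M
      (Cfsg.brauerOmega P (conv (sbc CG[Q] f.1) (sbc CG[Q] f'.1)) (ξ : CG[P] → ℂ) -
        φ f * φ f') := fun f hf f' hf' =>
    brauerOmega_conv hM hP ((hfixed f).1 (Finset.mem_filter.1 hf).2)
      ((hfixed f').1 (Finset.mem_filter.1 hf').2) (isInv_sbc_centralizer hQP f.1)
      (isInv_sbc_centralizer hQP f'.1) (memLocalRing_sbc hM f.2) (memLocalRing_sbc hM f'.2) ξ
  have hidem : ∀ f ∈ S, Cfsg.MemLocalIdeal M (φ f) ∨ Cfsg.MemLocalIdeal M (φ f - 1) := by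
    intro f hf
    have h := hprod f hf f hf
    rw [conv_sbc_self] at h
    refine memLocalIdeal_of_mul hM (hφR f) ((localRing hM).sub_mem (hφR f) (localRing hM).one_mem) ?_
    have := memLocalIdeal_neg h
    rw [show φ f * (φ f - 1) = -(φ f - φ f * φ f) by ring]
    exact this
  have horth : ∀ f ∈ S, ∀ f' ∈ S, Cfsg.MemLocalIdeal M (φ f - 1) →
      Cfsg.MemLocalIdeal M (φ f' - 1) → f = f' := by
    intro f hf f' hf' h1 h2
    by_contra hne
    have h := hprod f hf f' hf'
    have hdisj : Disjoint f.1 f'.1 := Set.disjoint_left.2 fun η hη hη' =>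
      hne (Subtype.ext (eq_of_mem hM f.2 f'.2 hη hη'))
    rw [conv_sbc_disjoint hdisj] at h
    have h0 : Cfsg.brauerOmega P (0 : G → ℂ) (ξ : CG[P] → ℂ) = 0 := by
      simp [brauerOmega_eq, omega]
    rw [h0, zero_sub] at h
    refine not_memLocalIdeal_one hM ?_
    have h3 := memLocalIdeal_neg h
    rw [neg_neg] at h3
    have h4 := memLocalIdeal_sub hM h3
      (memLocalIdeal_add hM (memLocalIdeal_mul_right hM h1 (hφR f')) h2)
    rwa [show φ f * φ f' - ((φ f - 1) * φ f' + (φ f' - 1)) = 1 by ring] at h4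
  obtain ⟨f₀, hf₀, h₀⟩ : ∃ f ∈ S, Cfsg.MemLocalIdeal M (φ f - 1) := by
    by_contra hno
    refine not_memLocalIdeal_one hM ?_
    have := memLocalIdeal_add hM hsum (memLocalIdeal_sum hM S fun f hf =>
      (hidem f hf).resolve_right fun h => hno ⟨f, hf, h⟩)
    simpa using this
  refine ⟨f₀.1, ⟨⟨hP.to_le hQP, f₀.2⟩, ⟨hP, he⟩, hQP, hPN,
    stabilizes_of_isInv hM hPN f₀.2 ((hfixed f₀).1 (Finset.mem_filter.1 hf₀).2), fun η hη => ?_⟩,
    ?_⟩
  · have := memLocalIdeal_add hM (brauerOmega_sameBlock hM (isInv_sbc_centralizer hQP f₀.1)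
      (memLocalRing_sbc hM f₀.2) he hη hξ) h₀
    simpa [φ] using this
  · intro f hf
    exact congrArg Subtype.val (horth ⟨f, hf.1.2⟩ (Finset.mem_filter.2 ⟨Finset.mem_univ _,
      (hfixed _).2 (isInv_of_stabilizes hM hPN hf.1.2 hf.2.2.2.2.1)⟩) f₀ hf₀ (hf.2.2.2.2.2 ξ hξ) h₀)

/-- Over the same subgroup a normal inclusion is equality. -/
theorem eq_of_isNormalSubpair_self (hM : Cfsg.IsPModular p M) {Q : Subgroup G}
    {f e : Set (Cfsg.IrrCharacter CG[Q])} (h : Cfsg.IsNormalSubpair p M Q f Q e) : f = e := by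
  classical
  letI := Fintype.ofFinite CG[Q]
  obtain ⟨ξ, hξ⟩ := IsPBlock.nonempty hM h.2.1.2
  have h1 := h.2.2.2.2.2 ξ hξ
  rw [brauerOmega_eq] at h1
  simp only [sbc_apply] at h1
  rw [omega_blockCoeff] at h1
  by_cases hf : ξ ∈ f
  · exact eq_of_mem hM h.1.2 h.2.1.2 hf hξ
  · rw [if_neg hf] at h1
    exact absurd (memLocalIdeal_neg h1) (by simpa using not_memLocalIdeal_one hM)

open scoped Classical in
/-- Transitivity of the Brauer map: a function whose truncation to `C(R)` has value one on `g`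
has, at `C(P)`, value one wherever the idempotent of `g` does. -/
theorem brauerOmega_trans (hM : Cfsg.IsPModular p M) [Fintype G] {R P : Subgroup G}
    (hP : IsPGroup p P) (hRP : R ≤ P) (hPN : P ≤ Subgroup.normalizer (R : Set G))
    {β : G → ℂ} (hβP : IsInv (P : Set G) β) (hβC : IsInv (CG[R] : Set G) β)
    (hβR : ∀ x, Cfsg.MemLocalRing M (β x)) (hβ : conv β β = β)
    {g : Set (Cfsg.IrrCharacter CG[R])} (hg : Cfsg.IsPBlock M g)
    (hgP : IsInv (P : Set G) (sbc CG[R] g))
    (h1 : ∀ η ∈ g, Cfsg.MemLocalIdeal M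
      (Cfsg.brauerOmega R β (η : CG[R] → ℂ) - 1))
    (ξ : Cfsg.IrrCharacter CG[P])
    (h2 : Cfsg.MemLocalIdeal M (Cfsg.brauerOmega P (sbc CG[R] g) (ξ : CG[P] → ℂ) - 1)) :
    Cfsg.MemLocalIdeal M (Cfsg.brauerOmega P β (ξ : CG[P] → ℂ) - 1) := by
  letI := Fintype.ofFinite CG[R]
  letI := Fintype.ofFinite CG[P]
  have hR : IsPGroup p R := hP.to_le hRP
  -- the truncation of `β`
  set v : CG[R] → ℂ := fun a => β (a : G) with hv
  have hvc : Cfsg.IsClassFunction CG[R] v := hβC.isClassFunction_res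
  have hvidem : ∀ a, Cfsg.MemLocalIdeal M (conv v v a - v a) := fun a => by
    have h := memLocalIdeal_conv_res_sub_of_isInv hM hR (hβP.mono hRP) (hβP.mono hRP) hβR hβR a
    rw [hβ] at h
    simpa [hv] using memLocalIdeal_neg h
  let A : Set (Cfsg.IrrCharacter CG[R]) :=
    {η | Cfsg.MemLocalIdeal M (omega (η : CG[R] → ℂ) v - 1)}
  have hω : ∀ η : Cfsg.IrrCharacter CG[R],
      Cfsg.MemLocalIdeal M (omega (η : CG[R] → ℂ) v - if η ∈ A then 1 else 0) := by
    intro η
    by_cases hη : η ∈ A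
    · rw [if_pos hη]; exact hη
    · rw [if_neg hη, sub_zero]
      have hR1 := memLocalRing_omega hM η.2 hvc fun a => hβR a
      refine (memLocalIdeal_of_mul hM hR1 ((localRing hM).sub_mem hR1 (localRing hM).one_mem)
        ?_).resolve_right hη
      have : Finite (ConjClasses CG[R]) := Quotient.finite _
      have := Fintype.ofFinite (ConjClasses CG[R])
      rw [show omega (η : CG[R] → ℂ) v * (omega (η : CG[R] → ℂ) v - 1) =
        omega (η : CG[R] → ℂ) (conv v v - v) by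
        rw [omega_sub, omega_conv η.2 hvc hvc]; ring,
        omega_eq_sum_classes (Char.isClassFunction_of_isIrr η.2) (fun x k => by
          simp only [Pi.sub_apply, hvc x k, isClassFunction_conv hvc hvc x k])]
      exact memLocalIdeal_sum hM _ fun D _ => memLocalIdeal_mul_right hM (hvidem _)
        (memLocalRing_centralChar hM η.2 _)
  have hAR : ∀ x, Cfsg.MemLocalRing M (Cfsg.blockCoeff A x) :=
    memLocalRing_blockCoeff_union hM fun η hη η' hh => by
      show Cfsg.MemLocalIdeal M (omega (η' : CG[R] → ℂ) v - 1)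
      have := memLocalIdeal_add hM
        (memLocalIdeal_omega_sub hM η'.2 η.2 hvc (fun a => hβR a) (sameBlock_symm hh)) hη
      simpa using this
  have hcong := fun a => memLocalIdeal_sub_blockCoeff hM hvc (fun a => hβR a) hvidem hAR hω a
  have hgA : ∀ η ∈ g, η ∈ A := fun η hη => by
    show Cfsg.MemLocalIdeal M (omega (η : CG[R] → ℂ) v - 1)
    simpa [brauerOmega_eq, hv] using h1 η hη
  have hAg : conv (Cfsg.blockCoeff A) (Cfsg.blockCoeff g) = Cfsg.blockCoeff g :=
    eq_blockCoeff (isClassFunction_conv (isClassFunction_blockCoeff A)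
      (isClassFunction_blockCoeff g)) g fun η => by
      rw [omega_conv η.2 (isClassFunction_blockCoeff A) (isClassFunction_blockCoeff g),
        omega_blockCoeff, omega_blockCoeff]
      by_cases hη : η ∈ g <;> simp [hη, hgA η]
  -- the same function on `G`
  set β' : G → ℂ := fun x => if x ∈ CG[R] then β x else 0 with hβ'
  have hmemP : ∀ k ∈ (P : Set G), ∀ x, x ∈ CG[R] ↔ k * x * k⁻¹ ∈ CG[R] := fun k hk =>
    mem_centralizer_iff_of_mem_normalizer (hPN hk)
  have hmemC : ∀ k ∈ (CG[R] : Set G), ∀ x, x ∈ CG[R] ↔ k * x * k⁻¹ ∈ CG[R] := fun k hk x => by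
    rw [Subgroup.mul_mem_cancel_right _ (Subgroup.inv_mem _ hk),
      Subgroup.mul_mem_cancel_left _ hk]
  have hβ'P : IsInv (P : Set G) β' := fun k hk x => by
    simp only [hβ', ← hmemP k hk x, hβP k hk x]
  have hβ'C : IsInv (CG[R] : Set G) β' := fun k hk x => by
    simp only [hβ', ← hmemC k hk x, hβC k hk x]
  have hβ'R : ∀ x, Cfsg.MemLocalRing M (β' x) := fun x => by
    simp only [hβ']
    split_ifs
    · exact hβR x
    · exact (localRing hM).zero_mem
  have hCPR : (CG[P] : Set G) ⊆ CG[R] := centralizer_mono hRP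
  have hconv : ∀ z : G, Cfsg.MemLocalIdeal M (conv β' (sbc CG[R] g) z - sbc CG[R] g z) := by
    intro z
    by_cases hz : z ∈ CG[R]
    · rw [← Subgroup.coe_mk CG[R] z hz, conv_of_supported (fun x hx => by simp [hβ', hx])]
      simp only [sbc_apply]
      have h := memLocalIdeal_conv_sub hM hcong (h := Cfsg.blockCoeff g) (h' := Cfsg.blockCoeff g)
        (fun w => by rw [sub_self]; exact memLocalIdeal_zero hM) hAR
        (memLocalRing_blockCoeff hM hg) ⟨z, hz⟩
      rw [hAg] at h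
      rw [sbc_of_mem g hz]
      convert h using 4 <;> simp [hβ', hv]
    · rw [sbc_of_notMem g hz, conv_eq_zero_of_notMem (fun x hx => by simp [hβ', hx])
        (fun x hx => sbc_of_notMem g hx) hz, sub_zero]
      exact memLocalIdeal_zero hM
  have a1 := brauerOmega_congr hM (P := P) ((hβ'C.mono hCPR).conv ((isInv_sbc g).mono hCPR))
    ((isInv_sbc g).mono hCPR) (fun x _ => hconv x) ξ
  have a2 := brauerOmega_conv hM hP hβ'P hgP (hβ'C.mono hCPR) ((isInv_sbc g).mono hCPR) hβ'R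
    (memLocalRing_sbc hM hg) ξ
  have e : Cfsg.brauerOmega P β' (ξ : CG[P] → ℂ) = Cfsg.brauerOmega P β (ξ : CG[P] → ℂ) := by
    rw [brauerOmega_eq, brauerOmega_eq]
    congr 1
    funext a
    simp [hβ', centralizer_mono hRP a.2]
  rw [e] at a2
  set a := Cfsg.brauerOmega P (conv β' (sbc CG[R] g)) (ξ : CG[P] → ℂ)
  set b := Cfsg.brauerOmega P β (ξ : CG[P] → ℂ)
  set c := Cfsg.brauerOmega P (sbc CG[R] g) (ξ : CG[P] → ℂ)
  have hbR : Cfsg.MemLocalRing M b := memLocalRing_brauerOmega hM (hβC.mono hCPR) hβR ξ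
  have := memLocalIdeal_sub hM (memLocalIdeal_add hM (memLocalIdeal_sub hM a1 a2) h2)
    (memLocalIdeal_mul_left hM hbR h2)
  rwa [show a - c - (a - b * c) + (c - 1) - b * (c - 1) = b - 1 by ring] at this

theorem isNormalSubpair_trans (hM : Cfsg.IsPModular p M) {Q R P : Subgroup G}
    {f : Set (Cfsg.IrrCharacter CG[Q])} {g : Set (Cfsg.IrrCharacter CG[R])}
    {e : Set (Cfsg.IrrCharacter CG[P])} (h1 : Cfsg.IsNormalSubpair p M Q f R g)
    (h2 : Cfsg.IsNormalSubpair p M R g P e) (hPN : P ≤ Subgroup.normalizer (Q : Set G))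
    (hst : ∀ x ∈ P, Cfsg.StabilizesBlock CG[Q] f x) : Cfsg.IsNormalSubpair p M Q f P e := by
  have := Fintype.ofFinite G
  have hQP : Q ≤ P := h1.2.2.1.trans h2.2.2.1
  refine ⟨h1.1, h2.2.1, hQP, hPN, hst, fun ξ hξ => ?_⟩
  exact brauerOmega_trans hM h2.2.1.1 h2.2.2.1 h2.2.2.2.1 (isInv_of_stabilizes hM hPN h1.1.2 hst)
    (isInv_sbc_centralizer h1.2.2.1 f) (memLocalRing_sbc hM h1.1.2) (conv_sbc_self f) h2.1.2
    (isInv_of_stabilizes hM h2.2.2.2.1 h2.1.2 h2.2.2.2.2.1) h1.2.2.2.2.2 ξ (h2.2.2.2.2.2 ξ hξ)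

omit [Finite G] in
/-- The Brauer map commutes with conjugation. -/
theorem brauerOmega_conjIso {R R' : Subgroup G} [Fintype CG[R]] [Fintype CG[R']] (x : G)
    (h : ∀ y, y ∈ CG[R] ↔ x * y * x⁻¹ ∈ CG[R']) (β : G → ℂ) (ξ' : CG[R'] → ℂ) :
    Cfsg.brauerOmega R' (fun y => β (x⁻¹ * y * x)) ξ' =
      Cfsg.brauerOmega R β fun a => ξ' (BlockChar.conjIso CG[R] CG[R'] x h a) := by
  rw [brauerOmega_eq, brauerOmega_eq, omega, omega, map_one]
  congr 1
  refine (Fintype.sum_equiv (BlockChar.conjIso CG[R] CG[R'] x h).toEquiv _ _ fun a => ?_).symm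
  show β a * ξ' _ = β (x⁻¹ * (x * a * x⁻¹) * x) * ξ' _
  rw [show x⁻¹ * (x * (a : G) * x⁻¹) * x = a by group]
  rfl

/-- If `P` normalizes `Q` and `R`, the predecessor at `Q` of a pair at `P` is the predecessor of
the intermediate one. -/
theorem isNormalSubpair_of_common (hM : Cfsg.IsPModular p M) {Q R P : Subgroup G}
    {f : Set (Cfsg.IrrCharacter CG[Q])} {g : Set (Cfsg.IrrCharacter CG[R])}
    {e : Set (Cfsg.IrrCharacter CG[P])} (hQR : Q ≤ R) (h1 : Cfsg.IsNormalSubpair p M Q f P e)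
    (h2 : Cfsg.IsNormalSubpair p M R g P e) : Cfsg.IsNormalSubpair p M Q f R g := by
  have := Fintype.ofFinite G
  letI := Fintype.ofFinite CG[R]
  have hPNQ := h1.2.2.2.1
  have hPNR := h2.2.2.2.1
  have hRN : R ≤ Subgroup.normalizer (Q : Set G) := h2.2.2.1.trans hPNQ
  obtain ⟨f', hf', huniq⟩ := existsUnique_normalSubpair hM h2.1 hQR hRN
  have hst : ∀ x ∈ P, Cfsg.StabilizesBlock CG[Q] f' x := by
    intro x hx
    have hQx := mem_centralizer_iff_of_mem_normalizer (hPNQ hx)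
    have hRx := mem_centralizer_iff_of_mem_normalizer (hPNR hx)
    have hginv := isInv_of_stabilizes hM hPNR h2.1.2 h2.2.2.2.2.1
    have hf'inv := isInv_of_stabilizes hM hRN hf'.1.2 hf'.2.2.2.2.1
    set fx := mapBlock (BlockChar.conjIso CG[Q] CG[Q] x hQx) f'
    have hfx : Cfsg.IsNormalSubpair p M Q fx R g := by
      have hval := sbc_mapBlock CG[Q] CG[Q] x hQx f'
      refine ⟨⟨h1.1.1, isPBlock_mapBlock _ hf'.1.2⟩, h2.1, hQR, hRN,
        stabilizes_of_isInv hM hRN (isPBlock_mapBlock _ hf'.1.2) fun k hk y => ?_, fun η hη => ?_⟩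
      · rw [hval, hval]
        have hk' : x⁻¹ * k * x ∈ (R : Set G) :=
          (Subgroup.mem_normalizer_iff''.1 (hPNR hx) k).1 hk
        rw [← hf'inv _ hk' (x⁻¹ * y * x)]
        congr 1
        group
      · have hgmap : mapBlock (BlockChar.conjIso CG[R] CG[R] x hRx) g = g :=
          sbc_injective (funext fun y => by rw [sbc_mapBlock, hginv.conj_inv hx])
        rw [show sbc CG[Q] fx = fun y => sbc CG[Q] f' (x⁻¹ * y * x) from funext hval,
          brauerOmega_conjIso x hRx]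
        refine hf'.2.2.2.2.2 (compIrr (BlockChar.conjIso CG[R] CG[R] x hRx) η) ?_
        rw [← hgmap] at hη
        exact hη
    have heq : fx = f' := huniq fx hfx
    refine (stabilizesBlock_iff hM (hPNQ hx) hf'.1.2).2 fun k hk y => ?_
    rw [Set.mem_singleton_iff.1 hk]
    have := sbc_mapBlock CG[Q] CG[Q] x hQx f' (x * y * x⁻¹)
    rwa [show mapBlock (BlockChar.conjIso CG[Q] CG[Q] x hQx) f' = f' from heq,
      show x⁻¹ * (x * y * x⁻¹) * x = y by group] at this
  have h3 := isNormalSubpair_trans hM hf' h2 hPNQ hst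
  rwa [(existsUnique_normalSubpair hM h1.2.1 h1.2.2.1 hPNQ).unique h1 h3]

end Cfsg.Agent.BrauerPairs
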